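import Cfsg.Agent.LenSeven.Small
import Cfsg.Agent.Fusion.SmallElements
import Cfsg.Agent.PGroups.Basic

/-!
The derived subgroup of the Sylow 2-subgroup of order `32` is not a four group.
-/

set_option autoImplicit false
set_option linter.style.haveILetI false
set_option linter.unusedSectionVars false

namespace Cfsg.Lib.LenSeven

open Subgroup Cfsg Cfsg.FusionSystem Cfsg.Lib.Fusion
open scoped commutatorElement

universe u

variable {G : Type u} [Group G] [Finite G] {S : Sylow 2 G} {Φ : Subgroup G → (G → G) → Prop} {Q : Subgroup G}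

/-- A nonabelian group of order sixteen with a normal four group has centre of order four. -/
theorem center_four {Q : Type*} [Group Q] [Finite Q] (h16 : Nat.card Q = 16)
    (hna : ∃ x y : Q, ¬ Commute x y) (N : Subgroup Q) [N.Normal] (hN : Nat.card N = 4)
    (hNsq : ∀ n ∈ N, n * n = 1) : Nat.card (center Q) = 4 := by
  classical
  haveI : Fact (Nat.Prime 2) := ⟨Nat.prime_two⟩
  have hp : IsPGroup 2 Q := IsPGroup.of_card (n := 4) (by rw [h16]; norm_num)
  obtain ⟨x₀, y₀, hxy⟩ := hna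
  obtain ⟨k, hk⟩ := IsPGroup.iff_card.1 (hp.to_subgroup (center Q))
  have hmul := (center Q).card_mul_index
  rw [h16] at hmul
  have hi1 : (center Q).index ≠ 1 := fun e => hxy (mem_center_iff.1 (index_eq_one.1 e ▸ mem_top y₀) x₀)
  have hi2 : (center Q).index ≠ 2 := fun e => by
    refine hxy ?_
    have key : ∀ a b : Q, a ∉ center Q → b ∉ center Q → Commute a b := fun a b ha hb => by
      have h : a⁻¹ * b ∈ center Q := (mul_mem_iff_of_index_two e).2
        ⟨fun h => absurd ((inv_mem_iff).1 h) ha, fun h => absurd h hb⟩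
      have := (Commute.refl a).mul_right (mem_center_iff.1 h a : Commute a (a⁻¹ * b))
      rwa [mul_inv_cancel_left] at this
    by_cases hx : x₀ ∈ center Q
    · exact (mem_center_iff.1 hx y₀ : Commute y₀ x₀).symm
    by_cases hy : y₀ ∈ center Q
    · exact mem_center_iff.1 hy x₀
    exact key _ _ hx hy
  haveI : Nontrivial Q := Finite.one_lt_card_iff_nontrivial.1 (by omega)
  haveI := hp.center_nontrivial
  have hk0 : k ≠ 0 := fun e => by
    have := Finite.one_lt_card (α := center Q)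
    rw [hk, e, pow_zero] at this
    omega
  have hk4 : k ≤ 4 := (Nat.pow_le_pow_iff_right (by norm_num : 1 < 2)).1
    (show 2 ^ k ≤ 2 ^ 4 by rw [← hk]; norm_num; exact h16 ▸ Nat.card_le_card_of_injective _ Subtype.val_injective)
  by_contra hne
  have hk1 : k = 1 := by
    rw [hk] at hmul hne
    interval_cases k <;> omega
  subst hk1
  rw [pow_one] at hk
  -- the involution in `N` and the centre
  haveI : Nontrivial N := Finite.one_lt_card_iff_nontrivial.1 (by omega)
  obtain ⟨c, hcN, hcZ, hco⟩ := Cfsg.Lib.PGroups.exists_mem_center_of_normal_ne_bot hp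
    (N := N) ((Subgroup.nontrivial_iff_ne_bot N).1 inferInstance)
  have hc1 : c ≠ 1 := fun e => by rw [e, orderOf_one] at hco; omega
  have hZ : ∀ z ∈ center Q, z = 1 ∨ z = c := fun z hz => by
    by_contra hno
    push Not at hno
    have h := Set.ncard_le_ncard (show ({1, c, z} : Set Q) ⊆ center Q from fun v hv => by
      rcases hv with rfl | rfl | rfl
      exacts [one_mem _, hcZ, hz]) (Set.toFinite _)
    rw [Set.ncard_insert_of_notMem (by simp [hc1.symm, hno.1.symm]) (Set.toFinite _), Set.ncard_pair hno.2.symm,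
      ← Nat.card_coe_set_eq] at h
    have h' : 3 ≤ Nat.card (center Q) := h
    omega
  obtain ⟨n, hn, hn1, hnc⟩ : ∃ n ∈ N, n ≠ 1 ∧ n ≠ c := by
    by_contra hno
    push Not at hno
    have h := Set.ncard_le_ncard (show (N : Set Q) ⊆ {1, c} from fun v hv =>
      (em (v = 1)).imp id (hno v hv)) (Set.toFinite _)
    rw [Set.ncard_pair hc1.symm, ← Nat.card_coe_set_eq] at h
    have h' : Nat.card N ≤ 2 := h
    omega
  have hNmem : ∀ v ∈ N, v = 1 ∨ v = c ∨ v = n ∨ v = n * c := by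
    intro v hv
    by_contra hno
    push Not at hno
    have h := Set.ncard_le_ncard (show ({1, c, n, n * c, v} : Set Q) ⊆ N from fun w hw => by
      rcases hw with rfl | rfl | rfl | rfl | rfl
      exacts [one_mem _, hcN, hn, mul_mem hn hcN, hv]) (Set.toFinite _)
    have a1 : n * c ≠ 1 := fun e => hnc (by rw [eq_inv_of_mul_eq_one_left e, inv_eq_of_mul_eq_one_right (hNsq c hcN)])
    rw [Set.ncard_insert_of_notMem (by simp [hc1.symm, hn1.symm, a1.symm, hno.1.symm]) (Set.toFinite _),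
      Set.ncard_insert_of_notMem (by simp [hnc.symm, hn1, hno.2.1.symm]) (Set.toFinite _),
      Set.ncard_insert_of_notMem (by simp [hc1, hno.2.2.1.symm]) (Set.toFinite _),
      Set.ncard_pair hno.2.2.2.symm, ← Nat.card_coe_set_eq] at h
    have h' : 5 ≤ Nat.card N := h
    omega
  have hcc : ∀ v, Commute v c := fun v => mem_center_iff.1 hcZ v
  have hnZ : n ∉ center Q := fun h => (hZ n h).elim hn1 hnc
  obtain ⟨q, hq⟩ : ∃ q, ¬ Commute q n := by
    by_contra hno
    push Not at hno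
    exact hnZ (mem_center_iff.2 fun g => hno g)
  have hmove : ∀ v, v * n * v⁻¹ = n ∨ v * n * v⁻¹ = n * c := fun v => by
    rcases hNmem _ (Normal.conj_mem inferInstance n hn v) with e | e | e | e
    · exact absurd (conj_eq_one_iff.1 e) hn1
    · refine absurd ?_ hnc
      calc n = v⁻¹ * (v * n * v⁻¹) * v := by group
        _ = c := by rw [e, mul_assoc, ← (hcc v).eq, inv_mul_cancel_left]
    · exact Or.inl e
    · exact Or.inr e
  set C := centralizer ({n} : Set Q) with hC
  have hCm : ∀ v, v ∈ C ↔ Commute v n := fun v => mem_centralizer_singleton_iff.trans Iff.rfl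
  have hqn : q * n * q⁻¹ = n * c := (hmove q).resolve_left fun e => hq (mul_inv_eq_iff_eq_mul.1 e)
  have hCi : C.index = 2 := by
    refine index_eq_two_iff.2 ⟨q, fun v => ?_⟩
    have hcalc : v * q * n * (v * q)⁻¹ = v * n * v⁻¹ * c := by
      rw [show v * q * n * (v * q)⁻¹ = v * (q * n * q⁻¹) * v⁻¹ by group, hqn, ← mul_assoc, mul_assoc (v * n),
        (hcc v⁻¹).eq.symm, ← mul_assoc]
    by_cases hv : Commute v n
    · refine Or.inr ⟨(hCm v).2 hv, fun h => ?_⟩
      have e := hcalc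
      rw [((hCm _).1 h).eq, mul_inv_cancel_right, hv.eq, mul_inv_cancel_right] at e
      exact hc1 (left_eq_mul.1 e)
    · refine Or.inl ⟨(hCm _).2 ?_, fun h => hv ((hCm v).1 h)⟩
      rw [(hmove v).resolve_left fun e => hv (mul_inv_eq_iff_eq_mul.1 e), mul_assoc n c c, hNsq c hcN, mul_one] at hcalc
      exact mul_inv_eq_iff_eq_mul.1 hcalc
  haveI := normal_of_index_eq_two hCi
  have hC8 : Nat.card C = 8 := by
    have := C.card_mul_index
    rw [hCi, h16] at this
    omega
  have hNC : N ≤ C := fun v hv => by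
    rw [hCm]
    rcases hNmem v hv with e | e | e | e
    · exact e ▸ Commute.one_left n
    · exact e ▸ (hcc n).symm
    · exact e ▸ Commute.refl v
    · exact e ▸ (Commute.refl n).mul_left (hcc n).symm
  have hNi : (N.subgroupOf C).index = 2 := by
    have := (N.subgroupOf C).card_mul_index
    rw [Nat.card_congr (subgroupOfEquivOfLe hNC).toEquiv, hN, hC8] at this
    omega
  have hNcen : ∀ v ∈ N, ∀ w ∈ C, Commute v w := fun v hv w hw => by
    rcases hNmem v hv with e | e | e | e <;> rw [e]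
    exacts [Commute.one_left w, (hcc w).symm, ((hCm w).1 hw).symm, ((hCm w).1 hw).symm.mul_left (hcc w).symm]
  have hCc : ∀ a ∈ C, ∀ b ∈ C, Commute a b := by
    intro a ha b hb
    by_cases haN : a ∈ N
    · exact hNcen a haN b hb
    by_cases hbN : b ∈ N
    · exact (hNcen b hbN a ha).symm
    have h : ((⟨a, ha⟩ : C)⁻¹ * ⟨b, hb⟩) ∈ N.subgroupOf C := (mul_mem_iff_of_index_two hNi).2
      ⟨fun h => absurd (mem_subgroupOf.1 ((inv_mem_iff).1 h)) haN, fun h => absurd (mem_subgroupOf.1 h) hbN⟩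
    have := (Commute.refl a).mul_right (hNcen _ (mem_subgroupOf.1 h) a ha).symm
    rwa [Subgroup.coe_mul, InvMemClass.coe_inv, mul_inv_cancel_left] at this
  have hqC : q ∉ C := fun h => hq ((hCm q).1 h)
  let δ : C →* Q := MonoidHom.mk' (fun v => q * v * q⁻¹ * (v : Q)⁻¹) fun v w => by
    show q * (v * w : Q) * q⁻¹ * (v * w : Q)⁻¹ = q * v * q⁻¹ * (v : Q)⁻¹ * (q * w * q⁻¹ * (w : Q)⁻¹)
    have h1 : Commute (v : Q)⁻¹ (q * w * q⁻¹) :=
      hCc _ (inv_mem v.2) _ (Normal.conj_mem inferInstance _ w.2 q)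
    calc q * (v * w : Q) * q⁻¹ * (v * w : Q)⁻¹ = q * v * q⁻¹ * ((q * w * q⁻¹) * ((w : Q)⁻¹ * (v : Q)⁻¹)) := by group
      _ = q * v * q⁻¹ * ((q * w * q⁻¹) * ((v : Q)⁻¹ * (w : Q)⁻¹)) := by
        rw [(hCc _ (inv_mem w.2) _ (inv_mem v.2)).eq]
      _ = q * v * q⁻¹ * ((v : Q)⁻¹ * (q * w * q⁻¹) * (w : Q)⁻¹) := by rw [h1.eq]; group
      _ = _ := by group
  have hker : ∀ v : C, δ v = 1 → (v : Q) = 1 ∨ (v : Q) = c := fun v hv => by
    have hqv : Commute q v := mul_inv_eq_iff_eq_mul.1 (mul_inv_eq_one.1 hv)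
    refine hZ _ (mem_center_iff.2 fun g => ?_)
    by_cases hg : g ∈ C
    · exact (hCc g hg v v.2).eq
    · have hd : q⁻¹ * g ∈ C := (mul_mem_iff_of_index_two hCi).2
        ⟨fun h => absurd ((inv_mem_iff).1 h) hqC, fun h => absurd h hg⟩
      have := hqv.mul_left (hCc _ hd v v.2)
      rwa [mul_inv_cancel_left] at this
  have hmemδ : ∀ v : C, δ v ∈ C := fun v => mul_mem (Normal.conj_mem inferInstance _ v.2 q) (inv_mem v.2)
  have hδδ : ∀ v : C, δ ⟨δ v, hmemδ v⟩ = (δ v)⁻¹ * (δ v)⁻¹ := by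
    intro v
    have hq2 : q * q ∈ C := mul_self_mem_of_index_two hCi q
    have h2 : q * q * v * (q * q)⁻¹ = v := by rw [(hCc _ hq2 v v.2).eq, mul_inv_cancel_right]
    set d := δ v with hd
    have e : q * v * q⁻¹ = d * v := by rw [hd]; show _ = q * v * q⁻¹ * (v : Q)⁻¹ * v; group
    show q * d * q⁻¹ * d⁻¹ = d⁻¹ * d⁻¹
    have h3 : q * d * q⁻¹ * (d * v) = v := by
      rw [← e]
      conv_rhs => rw [← h2]
      rw [show q * d * q⁻¹ * (q * v * q⁻¹) = q * (d * v) * q⁻¹ by group, ← e]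
      group
    rw [← mul_assoc, mul_eq_right] at h3
    rw [eq_inv_of_mul_eq_one_left h3]
  have hexp : ∀ v : C, (v : Q) * v * (v * v) = 1 := by
    intro v
    have h2 : (v : Q) * v ∈ N := mem_subgroupOf.1 (mul_self_mem_of_index_two hNi v)
    exact hNsq _ h2
  have himg : ∀ v : C, δ v * δ v = 1 := by
    intro v
    by_contra hne2
    set i : C := ⟨δ v, hmemδ v⟩ with hi
    have hδi : δ i = ((i : Q) * i)⁻¹ := by rw [hi, hδδ, mul_inv_rev]
    have h1 : δ (i * i) = 1 := by
      rw [map_mul, hδi, ← mul_inv_rev, hexp, inv_one]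
    rcases hker _ h1 with e | e
    · exact hne2 e
    have hδn : δ ⟨n, hNC hn⟩ = c := by
      show q * n * q⁻¹ * n⁻¹ = c
      rw [hqn, (hcc n).eq, mul_inv_cancel_right]
    have hδi' : δ i = c := by
      rw [hδi, show (i : Q) * i = c from e, inv_eq_of_mul_eq_one_right (hNsq c hcN)]
    have h2 : δ (i * ⟨n, hNC hn⟩⁻¹) = 1 := by rw [map_mul, map_inv, hδi', hδn, mul_inv_cancel]
    have hiN : δ v ∈ N := by
      have h3 : δ v * n⁻¹ ∈ N := by
        rcases hker _ h2 with e' | e'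
        · exact (show δ v * n⁻¹ = 1 from e') ▸ one_mem N
        · exact (show δ v * n⁻¹ = c from e') ▸ hcN
      have := mul_mem h3 hn
      rwa [inv_mul_cancel_right] at this
    exact hne2 (hNsq _ hiN)
  have hle : ∀ v : C, δ v = 1 ∨ δ v = c := fun v => hker ⟨δ v, hmemδ v⟩ (by
    rw [hδδ, ← mul_inv_rev, himg, inv_one])
  have hsub : (δ.range : Set Q) ⊆ {1, c} := by
    rintro _ ⟨v, rfl⟩
    exact hle v
  have hkersub : ((δ.ker.map C.subtype : Subgroup Q) : Set Q) ⊆ {1, c} := by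
    rintro _ ⟨v, hv, rfl⟩
    exact hker v hv
  have h1 := Set.ncard_le_ncard hsub (Set.toFinite _)
  have h2 := Set.ncard_le_ncard hkersub (Set.toFinite _)
  rw [Set.ncard_pair hc1.symm, ← Nat.card_coe_set_eq] at h1 h2
  have h2' : Nat.card δ.ker ≤ 2 := by
    rw [← Subgroup.card_map_of_injective C.subtype_injective]; exact h2
  have h1' : Nat.card δ.range ≤ 2 := h1
  have h3 := δ.ker.card_mul_index
  rw [Subgroup.index_ker, hC8] at h3
  have := Nat.mul_le_mul h2' h1'
  omega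

variable (H : Hyp S) (hsq : ∀ x ∈ ⁅(S : Subgroup G), (S : Subgroup G)⁆, x * x = 1)
include H hsq

/-- No site of order eight. -/
theorem no_site_eight (B : Bad S Φ Q) (h8 : Nat.card Q = 8) : False := by
  classical
  haveI : Fact (Nat.Prime 2) := ⟨Nat.prime_two⟩
  obtain ⟨E₀, hE₀S, hE₀8, hE₀⟩ := H.rank
  have hel := B.elementary H.card h8 hE₀S hE₀8 hE₀
  have h16 := B.normalizer_card H.card h8 hel
  set R := (S : Subgroup G) ⊓ normalizer (Q : Set G) with hR
  have hQR : Q ≤ R := le_normalizerIn B.le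
  obtain ⟨s, hs, hsR⟩ : ∃ s ∈ (S : Subgroup G), s ∉ R := by
    by_contra hno
    push Not at hno
    have := card_le_of_le (show (S : Subgroup G) ≤ R from hno)
    rw [H.card, h16] at this
    omega
  set Q' := Q.map (MulAut.conj s).toMonoidHom with hQ'
  have hQ'R : Q' ≤ R := by
    rintro _ ⟨q, hq, rfl⟩
    exact (mem_normalizer_iff.1 (H.normal_half inf_le_left h16 hs) q).1 (hQR hq)
  have hcom : ∀ q ∈ Q, Commute q (s * q * s⁻¹) := by
    intro q hq
    have hd := hsq _ (H.comm_mem hs (B.le hq))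
    have hqi : q⁻¹ = q := inv_eq_of_mul_eq_one_right (hel q hq)
    rw [hqi] at hd
    show q * (s * q * s⁻¹) = s * q * s⁻¹ * q
    calc q * (s * q * s⁻¹) = q⁻¹ * (s * q * s⁻¹)⁻¹ := by
          rw [mul_inv_rev, mul_inv_rev, inv_inv, hqi, mul_assoc s q s⁻¹]
      _ = (s * q * s⁻¹ * q)⁻¹ := (mul_inv_rev _ _).symm
      _ = s * q * s⁻¹ * q := (eq_inv_of_mul_eq_one_left hd).symm
  have hne : Q' ≠ Q := fun e => hsR ⟨hs, mem_normalizer_iff_map_conj_eq.2 e⟩
  have hQ'8 : Nat.card Q' = 8 := by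
    rw [hQ', Subgroup.card_map_of_injective (MulAut.conj s).injective, h8]
  have hi : (Q'.subgroupOf R).index = 2 := by
    have := (Q'.subgroupOf R).card_mul_index
    rw [Nat.card_congr (subgroupOfEquivOfLe hQ'R).toEquiv, hQ'8, h16] at this
    omega
  obtain ⟨e, he, heQ⟩ : ∃ e ∈ Q, e ∉ Q' := by
    by_contra hno
    push Not at hno
    exact hne (eq_of_le_of_card_ge hno (by rw [hQ'8, h8])).symm
  set e' := s * e * s⁻¹ with he'
  have he'Q' : e' ∈ Q' := ⟨e, he, rfl⟩
  have hs2 : s * s ∈ R := mem_subgroupOf.1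
    (mul_self_mem_of_index_two (H.index_two inf_le_left h16) (⟨s, hs⟩ : (S : Subgroup G)))
  have he'Q : e' ∉ Q := fun hm => heQ ⟨(s * s)⁻¹ * e' * (s * s), by
      have := (mem_normalizer_iff.1 (inv_mem hs2.2) e').1 hm
      rwa [inv_inv] at this, by
    show s * ((s * s)⁻¹ * e' * (s * s)) * s⁻¹ = e
    rw [he']; group⟩
  have hQc : ∀ a ∈ Q, ∀ b ∈ Q, Commute a b := fun a ha b hb =>
    congrArg Subtype.val (cm (V := Q) (fun v => Subtype.ext (hel v v.2)) ⟨a, ha⟩ ⟨b, hb⟩)
  have hQ'c : ∀ a ∈ Q', ∀ b ∈ Q', Commute a b := by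
    rintro _ ⟨a, ha, rfl⟩ _ ⟨b, hb, rfl⟩
    exact (hQc a ha b hb).map (MulAut.conj s).toMonoidHom
  refine he'Q (B.self (mul_mem (mul_mem hs (B.le he)) (inv_mem hs)) fun q hq => ?_)
  by_cases hqQ' : q ∈ Q'
  · exact hQ'c e' he'Q' q hqQ'
  · have h : ((⟨e, hQR he⟩ : R)⁻¹ * ⟨q, hQR hq⟩) ∈ Q'.subgroupOf R := (mul_mem_iff_of_index_two hi).2
      ⟨fun h => absurd (mem_subgroupOf.1 ((inv_mem_iff).1 h)) heQ, fun h => absurd (mem_subgroupOf.1 h) hqQ'⟩
    have h' := (hcom e he).symm.mul_right (hQ'c e' he'Q' _ (mem_subgroupOf.1 h))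
    rwa [Subgroup.coe_mul, InvMemClass.coe_inv, mul_inv_cancel_left] at h'

/-- A site of order sixteen is abelian. -/
theorem site_abelian (B : Bad S Φ Q) (h16 : Nat.card Q = 16) : ∀ a ∈ Q, ∀ b ∈ Q, a * b = b * a := by
  classical
  haveI : Fact (Nat.Prime 2) := ⟨Nat.prime_two⟩
  by_contra hna
  push Not at hna
  obtain ⟨a₀, ha₀, b₀, hb₀, hab₀⟩ := hna
  set Z := center Q with hZ
  have hna' : ∃ x y : Q, ¬ Commute x y := ⟨⟨a₀, ha₀⟩, ⟨b₀, hb₀⟩, fun h => hab₀ (congrArg Subtype.val h)⟩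
  have hDQ := H.der_le_half B.le h16
  set N := (⁅(S : Subgroup G), (S : Subgroup G)⁆).subgroupOf Q with hN
  haveI : N.Normal := ⟨fun n hn g => mem_subgroupOf.2
    (H.conj_mem_der (le_normalizer (B.le g.2)) (mem_subgroupOf.1 hn))⟩
  have hZ4 : Nat.card Z = 4 := center_four h16 hna' N
    (by rw [hN, Nat.card_congr (subgroupOfEquivOfLe hDQ).toEquiv, H.der])
    fun n hn => Subtype.ext (hsq _ (mem_subgroupOf.1 hn))
  haveI : Z.Normal := by rw [hZ]; infer_instance
  have hZi : Z.index = 4 := by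
    have := Z.card_mul_index
    rw [hZ4, h16] at this
    omega
  set A := (groupFusionSystem (S : Subgroup G)).autGroup Q with hA
  have hp : IsPGroup 2 Q := S.2.to_le B.le
  have hZc : ∀ (α : MulAut Q) (z : Q), z ∈ Z → α z ∈ Z := fun α z hz =>
    mem_center_iff.2 fun g => by
      have := congrArg α (mem_center_iff.1 hz (α⁻¹ g))
      rwa [map_mul, map_mul, MulAut.apply_inv_self] at this
  have hindep : ∀ x y : Q, x ∉ Z → y ∉ Z → x⁻¹ * y ∉ Z → ¬ Commute x y := by
    intro x y hx hy hxy hc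
    set C := centralizer ({x} : Set Q) with hC
    have hZC : Z ≤ C := fun z hz => mem_centralizer_singleton_iff.2 (mem_center_iff.1 hz x).symm
    have hxC : x ∈ C := mem_centralizer_singleton_iff.2 rfl
    have hyC : y ∈ C := mem_centralizer_singleton_iff.2 hc.eq.symm
    let f : Fin 3 × Z → C := fun v => ⟨(![1, x, y] v.1) * v.2, mul_mem (by
      obtain ⟨i, _⟩ := v
      fin_cases i
      exacts [one_mem C, hxC, hyC]) (hZC v.2.2)⟩
    have hf : Function.Injective f := by
      rintro ⟨i, z⟩ ⟨j, w⟩ h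
      have h' : ![1, x, y] i * (z : Q) = ![1, x, y] j * (w : Q) := congrArg Subtype.val h
      have hd : (![1, x, y] i)⁻¹ * ![1, x, y] j ∈ Z := by
        have e : (![1, x, y] i)⁻¹ * ![1, x, y] j = (z : Q) * (w : Q)⁻¹ := by
          rw [inv_mul_eq_iff_eq_mul, ← mul_assoc, h', mul_inv_cancel_right]
        rw [e]; exact mul_mem z.2 (inv_mem w.2)
      have hij : i = j := by
        fin_cases i <;> fin_cases j <;> simp only [Fin.zero_eta, Fin.mk_one, Fin.isValue, Matrix.cons_val_zero,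
          Matrix.cons_val_one, Fin.reduceFinMk, Matrix.cons_val, inv_one, one_mul, mul_one, inv_mem_iff] at hd ⊢
        · exact absurd hd hx
        · exact absurd hd hy
        · exact absurd hd hx
        · exact absurd hd hxy
        · exact absurd hd hy
        · exact absurd (by simpa using inv_mem hd) hxy
      subst hij
      exact Prod.ext rfl (Subtype.ext (mul_left_cancel h'))
    have h12 := Nat.card_le_card_of_injective f hf
    rw [Nat.card_prod, Nat.card_fin, hZ4] at h12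
    have hm := C.card_mul_index
    rw [h16] at hm
    have hi : C.index ≠ 1 := fun e => hx (mem_center_iff.2 fun g =>
      mem_centralizer_singleton_iff.1 (show g ∈ C by rw [index_eq_one.1 e]; exact mem_top g))
    have hi0 : C.index ≠ 0 := index_ne_zero_of_finite
    have := Nat.mul_le_mul h12 (show 2 ≤ C.index by omega)
    omega
  -- automorphisms trivial on the quotient by the centre
  let K : Subgroup (MulAut Q) :=
    { carrier := {α | ∀ x : Q, x⁻¹ * α x ∈ Z}
      one_mem' := fun x => by simp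
      mul_mem' := fun {α β} ha hb x => by
        show x⁻¹ * α (β x) ∈ Z
        rw [show x⁻¹ * α (β x) = (x⁻¹ * β x) * ((β x)⁻¹ * α (β x)) by group]
        exact mul_mem (hb x) (ha _)
      inv_mem' := fun {α} ha x => by
        have h := inv_mem (ha (α⁻¹ x))
        rwa [MulAut.apply_inv_self, mul_inv_rev, inv_inv] at h }
  have hKn : ∀ α ∈ A, ∀ β ∈ K ⊓ A, α * β * α⁻¹ ∈ K ⊓ A := by
    refine fun α hα β hβ => ⟨fun x => ?_, mul_mem (mul_mem hα hβ.2) (Subgroup.inv_mem _ hα)⟩
    have h := hZc α _ (hβ.1 (α⁻¹ x))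
    rwa [map_mul, map_inv, MulAut.apply_inv_self] at h
  obtain ⟨x₀, y₀, hxy₀⟩ := hna'
  have hK2 : IsPGroup 2 (K ⊓ A : Subgroup (MulAut Q)) := by
    refine two_of_odd_trivial _ fun α hα p hp' hp2 ho => ?_
    have hα1 : α ≠ 1 := fun e => by rw [e, orderOf_one] at ho; exact hp'.one_lt.ne ho
    have hcop : (orderOf α).Coprime 2 := by rw [ho]; exact (Nat.coprime_primes hp' Nat.prime_two).2 hp2
    set d := x₀ * y₀ * x₀⁻¹ * y₀⁻¹ with hd
    have hd1 : d ≠ 1 := fun e => hxy₀ (mul_inv_eq_iff_eq_mul.1 (mul_inv_eq_one.1 e))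
    have hdZ : d ∈ Z := by
      haveI : Fact (Nat.Prime 2) := ⟨Nat.prime_two⟩
      haveI : IsMulCommutative (Q ⧸ Z) := IsPGroup.isMulCommutative_of_card_eq_prime_sq (p := 2)
        (by rw [← Subgroup.index_eq_card, hZi]; norm_num)
      rw [← QuotientGroup.eq_one_iff, hd]
      simp only [QuotientGroup.mk_mul, QuotientGroup.mk_inv]
      rw [IsMulCommutative.is_comm.comm (x₀ : Q ⧸ Z) (y₀ : Q ⧸ Z)]
      group
    have hαd : α d = d := by
      obtain ⟨u, hu, ex⟩ : ∃ u ∈ Z, α x₀ = x₀ * u := ⟨_, hα.1 x₀, by group⟩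
      obtain ⟨w, hw, ey⟩ : ∃ w ∈ Z, α y₀ = y₀ * w := ⟨_, hα.1 y₀, by group⟩
      have cu : ∀ g, Commute g u := fun g => mem_center_iff.1 hu g
      have cw : ∀ g, Commute g w := fun g => mem_center_iff.1 hw g
      rw [hd, map_mul, map_mul, map_mul, map_inv, map_inv, ex, ey]
      calc x₀ * u * (y₀ * w) * (x₀ * u)⁻¹ * (y₀ * w)⁻¹
          = x₀ * (u * y₀) * (w * (x₀ * u)⁻¹) * (y₀ * w)⁻¹ := by group
        _ = x₀ * (y₀ * u) * ((x₀ * u)⁻¹ * w) * (y₀ * w)⁻¹ := by rw [← (cu y₀).eq, ← (cw _).eq]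
        _ = x₀ * y₀ * x₀⁻¹ * y₀⁻¹ := by group
    have hfix : ∀ z ∈ Z, α z = z := by
      intro z hz
      by_cases hz1 : z = 1
      · rw [hz1, map_one]
      by_cases hzd : z = d
      · rw [hzd, hαd]
      have hα2 : α (α z) = z := by
        by_contra hne
        have e1 : α z ≠ 1 := fun e => hz1 (α.injective (e.trans (map_one α).symm))
        have e2 : α z ≠ d := fun e => hzd (α.injective (e.trans hαd.symm))
        have e3 : α z ≠ z := fun e => hne (by rw [e, e])
        have f1 : α (α z) ≠ 1 := fun e => e1 (α.injective (e.trans (map_one α).symm))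
        have f2 : α (α z) ≠ d := fun e => e2 (α.injective (e.trans hαd.symm))
        have f3 : α (α z) ≠ α z := fun e => e3 (α.injective e)
        have h := Set.ncard_le_ncard (show ({1, d, z, α z, α (α z)} : Set Q) ⊆ Z from fun v hv => by
          rcases hv with rfl | rfl | rfl | rfl | rfl
          exacts [one_mem Z, hdZ, hz, hZc α z hz, hZc α _ (hZc α z hz)]) (Set.toFinite _)
        rw [Set.ncard_insert_of_notMem (by simp [hd1.symm, Ne.symm hz1, e1.symm, f1.symm]) (Set.toFinite _),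
          Set.ncard_insert_of_notMem (by simp [Ne.symm hzd, e2.symm, f2.symm]) (Set.toFinite _),
          Set.ncard_insert_of_notMem (by simp [e3.symm, Ne.symm hne]) (Set.toFinite _), Set.ncard_pair f3.symm,
          ← Nat.card_coe_set_eq] at h
        have h' : 5 ≤ Nat.card Z := h
        omega
      obtain ⟨k, hk⟩ : ∃ k, orderOf α = 2 * k + 1 :=
        (Nat.coprime_two_right.1 hcop)
      have hpow : ∀ i : ℕ, (α ^ (2 * i)) z = z := fun i => by
        induction i with
        | zero => rfl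
        | succ i ih =>
          rw [show 2 * (i + 1) = 2 * i + 2 by ring, pow_add, MulAut.mul_apply, pow_two, MulAut.mul_apply, hα2, ih]
      have h := pow_orderOf_eq_one α
      rw [hk, pow_succ'] at h
      have h' := DFunLike.congr_fun h z
      rwa [MulAut.mul_apply, hpow k, MulAut.one_apply] at h'
    exact hα1 (MulEquiv.ext fun x => fix_of_fix_diff hp hcop (hfix _ (hα.1 x)))
  have hKI : (K ⊓ A : Subgroup (MulAut Q)) ≤ Inn Q := B.rad _ inf_le_right hK2 hKn
  obtain ⟨β, hβ, hβI⟩ := B.noninner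
  refine hβI (hKI ⟨fun q => ?_, autInducedBy_le B.le hβ⟩)
  by_contra hq
  obtain ⟨g, hg, hge⟩ := mem_autInducedBy.mp hβ
  obtain ⟨σ, hσ⟩ : ∃ σ, σ = β q * q⁻¹ := ⟨_, rfl⟩
  have hσD : ∀ v : Q, ((β v * v⁻¹ : Q) : G) ∈ ⁅(S : Subgroup G), (S : Subgroup G)⁆ := fun v => by
    rw [Subgroup.coe_mul, InvMemClass.coe_inv, hge]
    exact H.comm_mem hg (B.le v.2)
  have hσZ : σ ∉ Z := fun h => hq (by
    have := Normal.conj_mem inferInstance _ h q⁻¹
    rwa [inv_inv, hσ, show q⁻¹ * (β q * q⁻¹) * q = q⁻¹ * β q by group] at this)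
  have hσ2 : σ * σ = 1 := hσ ▸ Subtype.ext (hsq _ (hσD q))
  have hmkσ : (σ : Q ⧸ Z) * σ = 1 := by rw [← QuotientGroup.mk_mul, hσ2, QuotientGroup.mk_one]
  have hfour : ∀ v : Q, v ∉ Z → σ⁻¹ * v ∉ Z → ∀ w : Q, w ∈ Z ∨ σ⁻¹ * w ∈ Z ∨ v⁻¹ * w ∈ Z ∨ (σ * v)⁻¹ * w ∈ Z := by
    intro v hv hσv w
    by_contra hno
    push Not at hno
    obtain ⟨w1, w2, w3, w4⟩ := hno
    have key : ∀ a b : Q, a⁻¹ * b ∉ Z → (a : Q ⧸ Z) ≠ (b : Q ⧸ Z) := fun a b h e => h (QuotientGroup.eq.1 e)
    have k1 : ∀ a : Q, a ∉ Z → (1 : Q ⧸ Z) ≠ (a : Q ⧸ Z) := fun a h e => h ((QuotientGroup.eq_one_iff a).1 e.symm)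
    have hσv' : σ * v ∉ Z := fun h => hσv (by rwa [inv_eq_of_mul_eq_one_right hσ2])
    have k2 : (σ : Q ⧸ Z) ≠ ((σ * v : Q) : Q ⧸ Z) := key _ _ (by rwa [inv_mul_cancel_left])
    have k3 : (v : Q ⧸ Z) ≠ ((σ * v : Q) : Q ⧸ Z) := key _ _ (fun h => hσZ (by
      have := Normal.conj_mem inferInstance _ h v
      rwa [show v * (v⁻¹ * (σ * v)) * v⁻¹ = σ by group] at this))
    have h := Set.ncard_le_card
      ({(1 : Q ⧸ Z), (σ : Q ⧸ Z), (v : Q ⧸ Z), ((σ * v : Q) : Q ⧸ Z), (w : Q ⧸ Z)} : Set (Q ⧸ Z))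
    rw [← Subgroup.index_eq_card, hZi,
      Set.ncard_insert_of_notMem (by simp only [Set.mem_insert_iff, Set.mem_singleton_iff, not_or]
                                     exact ⟨k1 _ hσZ, k1 _ hv, k1 _ hσv', k1 _ w1⟩) (Set.toFinite _),
      Set.ncard_insert_of_notMem (by simp only [Set.mem_insert_iff, Set.mem_singleton_iff, not_or]
                                     exact ⟨key _ _ hσv, k2, key _ _ w2⟩) (Set.toFinite _),
      Set.ncard_insert_of_notMem (by simp only [Set.mem_insert_iff, Set.mem_singleton_iff, not_or]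
                                     exact ⟨k3, key _ _ w3⟩) (Set.toFinite _),
      Set.ncard_pair (key _ _ w4)] at h
    omega
  obtain ⟨p, hp', hp2, ρ, hρ, hρo⟩ := B.exists_odd
  have hρσ : σ⁻¹ * ρ σ ∉ Z := by
    intro hfixσ
    have h2 : ρ * ρ ∈ K ⊓ A := by
      refine ⟨fun v => ?_, mul_mem hρ hρ⟩
      show v⁻¹ * ρ (ρ v) ∈ Z
      rw [← QuotientGroup.eq]
      symm
      by_cases hv : v ∈ Z
      · rw [QuotientGroup.eq]
        exact mul_mem (inv_mem (hZc ρ _ (hZc ρ _ hv))) hv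
      by_cases hvσ : σ⁻¹ * v ∈ Z
      · have e1 : (ρ σ : Q ⧸ Z) = σ := (QuotientGroup.eq.2 hfixσ).symm
        have e2 : (v : Q ⧸ Z) = σ := (QuotientGroup.eq.2 hvσ).symm
        have hmap : ∀ a b : Q, (a : Q ⧸ Z) = b → (ρ a : Q ⧸ Z) = ρ b := fun a b h => by
          rw [QuotientGroup.eq, ← map_inv, ← map_mul]
          exact hZc ρ _ (QuotientGroup.eq.1 h)
        rw [hmap _ _ (hmap _ _ e2), hmap _ _ e1, e1, e2]
      have hmap : ∀ a b : Q, (a : Q ⧸ Z) = b → (ρ a : Q ⧸ Z) = ρ b := fun a b h => by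
        rw [QuotientGroup.eq, ← map_inv, ← map_mul]
        exact hZc ρ _ (QuotientGroup.eq.1 h)
      have e1 : (ρ σ : Q ⧸ Z) = σ := (QuotientGroup.eq.2 hfixσ).symm
      rcases hfour v hv hvσ (ρ v) with h | h | h | h
      · exfalso
        exact hv (by simpa using hZc ρ⁻¹ _ h)
      · exfalso
        refine hvσ ?_
        have e3 : (ρ v : Q ⧸ Z) = ρ σ := ((QuotientGroup.eq.2 h).symm).trans e1.symm
        rw [QuotientGroup.eq, ← map_inv, ← map_mul] at e3
        have h4 := inv_mem (hZc ρ⁻¹ _ e3)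
        rwa [MulAut.inv_apply_self, mul_inv_rev, inv_inv] at h4
      · have e3 : (ρ v : Q ⧸ Z) = v := (QuotientGroup.eq.2 h).symm
        rw [hmap _ _ e3, e3]
      · have e3 : (ρ v : Q ⧸ Z) = ((σ * v : Q) : Q ⧸ Z) := (QuotientGroup.eq.2 h).symm
        rw [hmap _ _ e3, map_mul, QuotientGroup.mk_mul, e1, e3, QuotientGroup.mk_mul, ← mul_assoc, hmkσ, one_mul]
    refine eq_one_of_odd_mem_two hK2 h2 hp' hp2 ?_
    rw [← pow_two, Nat.Coprime.orderOf_pow (by rw [hρo]; exact (Nat.coprime_primes hp' Nat.prime_two).2 hp2), hρo]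
  obtain ⟨u, hu⟩ : ∃ u, u = ρ σ := ⟨_, rfl⟩
  rw [← hu] at hρσ
  have huZ : u ∉ Z := fun h => hσZ (by
    have := hZc ρ⁻¹ _ h
    rwa [hu, MulAut.inv_apply_self] at this)
  have hu2 : u * u = 1 := by rw [hu, ← map_mul, hσ2, map_one]
  obtain ⟨τ, hτ⟩ : ∃ τ, τ = β u * u⁻¹ := ⟨_, rfl⟩
  have hτ2 : τ * τ = 1 := hτ ▸ Subtype.ext (hsq _ (hσD u))
  have hbu : β u = τ * u := by rw [hτ]; group
  have hcomm : Commute τ u := by
    have h : τ * u * (τ * u) = 1 := by rw [← hbu, ← map_mul, hu2, map_one]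
    show τ * u = u * τ
    rw [eq_inv_of_mul_eq_one_left h, mul_inv_rev, inv_eq_of_mul_eq_one_right hu2, inv_eq_of_mul_eq_one_right hτ2]
  have hτZ : τ ∈ Z := by
    by_contra hτn
    refine hindep τ u hτn huZ (fun h => ?_) hcomm
    have h1 : β u ∈ Z := by
      rw [hbu, ← QuotientGroup.eq_one_iff, QuotientGroup.mk_mul, ← (QuotientGroup.eq.2 h), ← QuotientGroup.mk_mul,
        hτ2, QuotientGroup.mk_one]
    have := hZc β⁻¹ _ h1
    rw [MulAut.inv_apply_self] at this
    exact huZ this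
  have hmapβ : ∀ a b : Q, (a : Q ⧸ Z) = b → (β a : Q ⧸ Z) = β b := fun a b h => by
    rw [QuotientGroup.eq, ← map_inv, ← map_mul]
    exact hZc β _ (QuotientGroup.eq.1 h)
  have hmkβu : (β u : Q ⧸ Z) = u := by
    rw [hbu, QuotientGroup.mk_mul, (QuotientGroup.eq_one_iff τ).2 hτZ, one_mul]
  have hmkβq : (β q : Q ⧸ Z) = (σ : Q ⧸ Z) * q := by
    rw [← QuotientGroup.mk_mul, hσ, inv_mul_cancel_right]
  have hσ1 : (σ : Q ⧸ Z) ≠ 1 := fun e => hσZ ((QuotientGroup.eq_one_iff σ).1 e)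
  rcases hfour u huZ hρσ q with h | h | h | h
  · have h1 : (q : Q ⧸ Z) = 1 := (QuotientGroup.eq_one_iff q).2 h
    rw [h1, mul_one, show (β q : Q ⧸ Z) = 1 from (QuotientGroup.eq_one_iff _).2 (hZc β _ h)] at hmkβq
    exact hσ1 hmkβq.symm
  · have h1 : (q : Q ⧸ Z) = σ := (QuotientGroup.eq.2 h).symm
    rw [h1, hmkσ] at hmkβq
    have := hZc β⁻¹ _ ((QuotientGroup.eq_one_iff _).1 hmkβq)
    rw [MulAut.inv_apply_self] at this
    exact hσ1 (by rw [← h1]; exact (QuotientGroup.eq_one_iff q).2 this)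
  · have h1 : (q : Q ⧸ Z) = u := (QuotientGroup.eq.2 h).symm
    rw [hmapβ _ _ h1, hmkβu, h1] at hmkβq
    exact hσ1 (right_eq_mul.1 hmkβq)
  · have h1 : (q : Q ⧸ Z) = ((σ * u : Q) : Q ⧸ Z) := (QuotientGroup.eq.2 h).symm
    rw [h1, QuotientGroup.mk_mul, ← mul_assoc, hmkσ, one_mul, ← hmkβu, QuotientGroup.eq, ← map_inv, ← map_mul]
      at hmkβq
    have h2 := hZc β⁻¹ _ hmkβq
    rw [MulAut.inv_apply_self] at h2
    have h3 : (q : Q ⧸ Z) = u := QuotientGroup.eq.2 h2
    rw [h1, QuotientGroup.mk_mul] at h3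
    exact hσ1 (mul_eq_right.1 h3)

/-- The derived subgroup is not a four group. -/
theorem four_false : False := by
  classical
  by_cases hA : ∃ A : Subgroup G, A ≤ (S : Subgroup G) ∧ Nat.card A = 16 ∧ ∀ a ∈ A, ∀ b ∈ A, a * b = b * a
  · obtain ⟨A, hAS, hA16, hAc⟩ := hA
    have huniq : ∀ A' : Subgroup G, A' ≤ (S : Subgroup G) → Nat.card A' = 16 →
        (∀ a ∈ A', ∀ b ∈ A', a * b = b * a) → A' = A := by
      intro A' hA'S hA'16 hA'c
      by_contra hne
      obtain ⟨x, hx, hxA⟩ : ∃ x ∈ A', x ∉ A := by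
        by_contra hno
        push Not at hno
        exact hne (eq_of_le_of_card_ge hno (by rw [hA16, hA'16]))
      have hi := H.index_two hAS hA16
      have hle : A ⊓ A' ≤ (S : Subgroup G) := inf_le_left.trans hAS
      have hcen : (A ⊓ A').subgroupOf (S : Subgroup G) ≤ center (S : Subgroup G) := fun v hv => by
        refine mem_center_iff.2 fun g => Subtype.ext ?_
        show (g : G) * v = v * g
        by_cases hg : (g : G) ∈ A
        · exact hAc _ hg _ hv.1
        · have hd : ((⟨x, hA'S hx⟩ : (S : Subgroup G))⁻¹ * g) ∈ A.subgroupOf (S : Subgroup G) :=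
            (mul_mem_iff_of_index_two hi).2
              ⟨fun h => absurd (mem_subgroupOf.1 ((inv_mem_iff).1 h)) hxA, fun h => absurd (mem_subgroupOf.1 h) hg⟩
          have h1 : Commute ((x : G)⁻¹ * g) v := hAc _ (mem_subgroupOf.1 hd) _ hv.1
          have := (show Commute x (v : G) from hA'c _ hx _ hv.2).mul_left h1
          rwa [mul_inv_cancel_left] at this
      have hle16 := card_le_of_le hcen
      rw [Nat.card_congr (subgroupOfEquivOfLe hle).toEquiv] at hle16
      have h8 : 8 ≤ Nat.card ↥(A ⊓ A') := by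
        have hr : ((A ⊓ A').subgroupOf A').index ≤ 2 := by
          have h : A.relIndex A' ≤ A.relIndex (S : Subgroup G) :=
            relIndex_le_of_le_right hA'S (by rw [show A.relIndex (S : Subgroup G) = 2 from hi]; norm_num)
          rw [show A.relIndex (S : Subgroup G) = 2 from hi, ← inf_relIndex_right] at h
          exact h
        have hm := ((A ⊓ A').subgroupOf A').card_mul_index
        rw [Nat.card_congr (subgroupOfEquivOfLe inf_le_right).toEquiv, hA'16] at hm
        by_contra hlt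
        have := Nat.mul_le_mul (show Nat.card ↥(A ⊓ A') ≤ 7 by omega) hr
        omega
      have := H.centre
      omega
    refine H.false_of_preserved hAS (fun e => ?_) hAc (fun g hg x hx => ?_) fun Φ Q hΦ B => ?_
    · rw [e, card_bot] at hA16; omega
    · have hmap : A.map (MulAut.conj g).toMonoidHom = A := by
        refine huniq _ ?_ (by rw [Subgroup.card_map_of_injective (MulAut.conj g).injective, hA16]) ?_
        · rintro _ ⟨a, ha, rfl⟩
          exact (mem_normalizer_iff.1 hg a).1 (hAS ha)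
        · rintro _ ⟨a, ha, rfl⟩ _ ⟨b, hb, rfl⟩
          rw [← map_mul, hAc a ha b hb, map_mul]
      rw [← hmap]; exact ⟨x, hx, rfl⟩
    · rcases H.site_card B.toCand with h8 | h16
      · exact no_site_eight H hsq B h8
      · obtain ⟨α, hα, hb⟩ := B.bad
        refine hb ((hΦ Q _).2 fun x hx => ?_)
        have hQA := huniq Q B.le h16 (site_abelian H hsq B h16)
        rw [← hQA]
        exact iff_of_true hx (autFun_mem α hx)
  · push Not at hA
    refine H.false_of_preserved H.der_le (fun e => ?_) (fun a ha b hb => ?_)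
      (fun g hg x hx => H.conj_mem_der hg hx) fun Φ Q hΦ B => ?_
    · have := H.der
      rw [e, card_bot] at this; omega
    · exact congrArg Subtype.val (cm (V := ↥⁅(S : Subgroup G), (S : Subgroup G)⁆)
        (fun v => Subtype.ext (hsq v v.2)) ⟨a, ha⟩ ⟨b, hb⟩)
    · rcases H.site_card B.toCand with h8 | h16
      · exact no_site_eight H hsq B h8
      · obtain ⟨a, ha, b, hb, hne⟩ := hA Q B.le h16
        exact hne (site_abelian H hsq B h16 a ha b hb)

end Cfsg.Lib.LenSeven
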