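import Cfsg.Agent.LenSeven.Cyclic

/-!
The derived subgroup of the Sylow 2-subgroup of order `32` is not cyclic of order four: the focal subgroup would be
proper.
-/

set_option autoImplicit false
set_option linter.style.haveILetI false
set_option linter.unusedSectionVars false

namespace Cfsg.Lib.LenSeven

open Subgroup Cfsg Cfsg.FusionSystem Cfsg.Lib.Fusion
open scoped commutatorElement Pointwise

universe u

variable {G : Type u} [Group G] [Finite G] {S : Sylow 2 G} {Φ : Subgroup G → (G → G) → Prop}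

/-- The centralizer of `y` in `S`. -/
abbrev CS (S : Sylow 2 G) (y : G) : Subgroup G := (S : Subgroup G) ⊓ centralizer ({y} : Set G)

/-- The normalizer of `E` in `S`. -/
abbrev RN (S : Sylow 2 G) (E : Subgroup G) : Subgroup G := (S : Subgroup G) ⊓ normalizer (E : Set G)

/-- An adjoined element with square inside a subgroup at most doubles the order. -/
theorem card_adjoin {A : Subgroup G} {w : G} (hw : w ∈ normalizer (A : Set G)) (hw2 : w * w ∈ A) :
    Nat.card ↥(A ⊔ zpowers w) ≤ 2 * Nat.card A := by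
  classical
  have hc : ∀ a ∈ A, w⁻¹ * a * w ∈ A := fun a ha => by
    have := (mem_normalizer_iff.1 (inv_mem hw) a).1 ha
    rwa [inv_inv] at this
  let B : Subgroup G :=
    { carrier := {x | x ∈ A ∨ w⁻¹ * x ∈ A}
      one_mem' := Or.inl (one_mem A)
      mul_mem' := by
        rintro a b (ha | ha) (hb | hb)
        · exact Or.inl (mul_mem ha hb)
        · refine Or.inr ?_
          have := mul_mem (hc a ha) hb
          rwa [show w⁻¹ * a * w * (w⁻¹ * b) = w⁻¹ * (a * b) by group] at this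
        · exact Or.inr (by rw [← mul_assoc]; exact mul_mem ha hb)
        · refine Or.inl ?_
          have := mul_mem (mul_mem hw2 (hc _ ha)) hb
          rwa [show w * w * (w⁻¹ * (w⁻¹ * a) * w) * (w⁻¹ * b) = a * b by group] at this
      inv_mem' := by
        rintro a (ha | ha)
        · exact Or.inl (inv_mem ha)
        · refine Or.inr ?_
          have := mul_mem (hc _ (inv_mem ha)) (inv_mem hw2)
          rwa [show w⁻¹ * (w⁻¹ * a)⁻¹ * w * (w * w)⁻¹ = w⁻¹ * a⁻¹ * (w * w) * (w * w)⁻¹ by group,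
            mul_inv_cancel_right] at this }
  have hle : A ⊔ zpowers w ≤ B := sup_le (fun a ha => Or.inl ha)
    (zpowers_le.2 (Or.inr (by rw [inv_mul_cancel]; exact one_mem A)))
  let f : B → Bool × A := fun x => if h : (x : G) ∈ A then (false, ⟨x, h⟩) else (true, ⟨w⁻¹ * x, x.2.resolve_left h⟩)
  have hf : Function.Injective f := fun a b hab => by
    simp only [f] at hab
    split_ifs at hab <;> simp only [Prod.mk.injEq, Subtype.mk.injEq, Bool.false_eq_true, Bool.true_eq_false,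
      false_and, mul_right_inj] at hab
    · exact Subtype.ext hab.2
    · exact Subtype.ext hab.2
  have h := (card_le_of_le hle).trans (Nat.card_le_card_of_injective f hf)
  rwa [Nat.card_prod, Nat.card_eq_fintype_card (α := Bool), Fintype.card_bool] at h

namespace Cyc

variable {y : G} (H : Cyc S y)
include H

section Base

variable {E : Subgroup G} (hE : E8 S E)
include hE

theorem y_mem_RN : y ∈ RN S E := by
  refine ⟨H.yS, mem_normalizer_of_maps_finite fun v hv => ?_⟩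
  rcases H.conj_mem_step (hE.cand.le hv) with e | e
  · exact e.symm ▸ hv
  · exact e.symm ▸ mul_mem hv (H.c_mem hE.cand)

theorem y_not : y ∉ E := fun h => H.y2 (hE.sq y h)

theorem exists_move : ∃ e ∈ E, e ∉ CS S y ∧ e * y * e⁻¹ = y * (y * y) := by
  obtain ⟨e, he, hne⟩ : ∃ e ∈ E, ¬ Commute e y := by
    by_contra hno
    push Not at hno
    exact H.y_not hE (hE.cand.self H.yS fun q hq => (hno q hq).symm)
  exact ⟨e, he, fun h => hne (mem_centralizer_singleton_iff.1 h.2),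
    (H.conj_y (le_normalizer (hE.cand.le he))).resolve_left fun e' => hne (mul_inv_eq_iff_eq_mul.1 e')⟩

theorem C_index : ((CS S y).subgroupOf (S : Subgroup G)).index = 2 := by
  obtain ⟨e, he, -, hey⟩ := H.exists_move hE
  have heS := hE.cand.le he
  refine index_eq_two_iff.2 ⟨⟨e, heS⟩, fun b => ?_⟩
  have hmem : ∀ v : (S : Subgroup G), v ∈ (CS S y).subgroupOf (S : Subgroup G) ↔ (v : G) * y * (v : G)⁻¹ = y := by
    intro v
    rw [mem_subgroupOf, mul_inv_eq_iff_eq_mul]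
    exact ⟨fun h => mem_centralizer_singleton_iff.1 h.2, fun h => ⟨v.2, mem_centralizer_singleton_iff.2 h⟩⟩
  have hcalc : (b : G) * e * y * ((b : G) * e)⁻¹ = (b : G) * y * (b : G)⁻¹ * (y * y) := by
    calc (b : G) * e * y * ((b : G) * e)⁻¹ = b * (e * y * e⁻¹) * (b : G)⁻¹ := by group
      _ = b * y * (b : G)⁻¹ * ((b : G) * (y * y) * (b : G)⁻¹) := by rw [hey]; group
      _ = _ := by rw [H.conj_c (le_normalizer b.2)]
  rcases H.conj_y (le_normalizer b.2) with e' | e'
  · refine Or.inr ⟨(hmem b).2 e', fun h => ?_⟩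
    have h' := (hmem _).1 h
    rw [Subgroup.coe_mul] at h'
    rw [h', e'] at hcalc
    exact H.y2 (left_eq_mul.1 hcalc)
  · refine Or.inl ⟨(hmem _).2 ?_, fun h => ?_⟩
    · rw [Subgroup.coe_mul, hcalc, e', mul_assoc, H.y4, mul_one]
    · have h' := (hmem b).1 h
      rw [e'] at h'
      exact H.y2 (mul_eq_left.1 h')

theorem R_index : (E.subgroupOf (RN S E)).index = 2 := by
  have h := (E.subgroupOf (RN S E)).card_mul_index
  rw [Nat.card_congr (subgroupOfEquivOfLe (show E ≤ RN S E from le_normalizerIn hE.cand.le)).toEquiv, hE.card,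
    hE.norm] at h
  omega

theorem R_elem {x : G} (hx : x ∈ RN S E) : x ∈ E ∨ ∃ v ∈ E, x = v * y := by
  by_cases hxE : x ∈ E
  · exact Or.inl hxE
  have h : ((⟨x, hx⟩ : RN S E) * (⟨y, H.y_mem_RN hE⟩)⁻¹) ∈ E.subgroupOf (RN S E) :=
    (mul_mem_iff_of_index_two (H.R_index hE)).2 ⟨fun h => absurd (mem_subgroupOf.1 h) hxE,
      fun h => absurd (mem_subgroupOf.1 ((inv_mem_iff).1 h)) (H.y_not hE)⟩
  exact Or.inr ⟨_, mem_subgroupOf.1 h, by simp⟩

theorem CR_elem {x : G} (hC : x ∈ CS S y) (hR : x ∈ RN S E) :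
    x ∈ E ∨ ∃ v ∈ E, Commute v y ∧ x = v * y := by
  rcases H.R_elem hE hR with h | ⟨v, hv, rfl⟩
  · exact Or.inl h
  · refine Or.inr ⟨v, hv, ?_, rfl⟩
    have := (show Commute (v * y) y from mem_centralizer_singleton_iff.1 hC.2).mul_left (Commute.refl y).inv_left
    rwa [mul_inv_cancel_right] at this

theorem CR_pow {x : G} (hC : x ∈ CS S y) (hR : x ∈ RN S E) : x * x * (x * x) = 1 := by
  rcases H.CR_elem hE hC hR with h | ⟨v, hv, hvy, rfl⟩
  · rw [hE.sq x h, one_mul]
  · rw [hvy.symm.mul_mul_mul_comm, hE.sq v hv, one_mul, H.y4]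

theorem CR_invol {x : G} (hC : x ∈ CS S y) (hR : x ∈ RN S E) (hx : x * x = 1) : x ∈ E := by
  rcases H.CR_elem hE hC hR with h | ⟨v, hv, hvy, rfl⟩
  · exact h
  · rw [hvy.symm.mul_mul_mul_comm, hE.sq v hv, one_mul] at hx
    exact absurd hx H.y2

theorem key {x : G} (hC : x ∈ CS S y) (hR : x ∉ RN S E) : x * x * (x * x) ≠ 1 := by
  obtain ⟨e, he, heC, hey⟩ := H.exists_move hE
  have hxS := hC.1
  have hxy : Commute x y := mem_centralizer_singleton_iff.1 hC.2
  have hcE := H.c_mem hE.cand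
  have hyS := H.yS
  -- the commutator with an element of `E` centralizing `y` lies in `E`
  have hfix : ∀ v ∈ E, v ∈ CS S y → x * v * x⁻¹ ∈ E := by
    intro v hv hvC
    have hvy : Commute v y := mem_centralizer_singleton_iff.1 hvC.2
    have hd := H.toHyp.comm_mem hxS (hE.cand.le hv)
    have hsq : x * v * x⁻¹ * (x * v * x⁻¹) = 1 := by
      rw [show x * v * x⁻¹ * (x * v * x⁻¹) = x * (v * v) * x⁻¹ by group, hE.sq v hv]; group
    have hdv : x * v * x⁻¹ = x * v * x⁻¹ * v⁻¹ * v := by group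
    rcases H.dmem hd with e' | e' | e' | e' <;> rw [e'] at hdv
    · rw [hdv, one_mul]; exact hv
    · rw [hdv, hvy.mul_mul_mul_comm, hE.sq v hv, mul_one] at hsq
      exact absurd hsq H.y2
    · rw [hdv]; exact mul_mem hcE hv
    · rw [hdv, (hvy.mul_right (hvy.mul_right hvy)).mul_mul_mul_comm, hE.sq v hv, mul_one] at hsq
      refine absurd ?_ H.y2
      calc y * y = y * y * (y * y * (y * y)) := by rw [H.y4, mul_one]
        _ = y * (y * y) * (y * (y * y)) := by group
        _ = 1 := hsq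
  -- the commutator with `e` does not
  obtain ⟨u, hu, hue⟩ : ∃ u, (u = y ∨ u = y * (y * y)) ∧ x * e * x⁻¹ = u * e := by
    have hd := H.toHyp.comm_mem hxS (hE.cand.le he)
    have hdv : x * e * x⁻¹ = x * e * x⁻¹ * e⁻¹ * e := by group
    have hno : x * e * x⁻¹ ∉ E := fun hm => hR ⟨hxS, mem_normalizer_of_maps_finite fun v hv => by
      by_cases hvC : v ∈ CS S y
      · exact hfix v hv hvC
      · have hd' : ((⟨v, hE.cand.le hv⟩ : (S : Subgroup G)) * ⟨e, hE.cand.le he⟩) ∈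
            (CS S y).subgroupOf (S : Subgroup G) := (mul_mem_iff_of_index_two (H.C_index hE)).2
          ⟨fun h => absurd (mem_subgroupOf.1 h) hvC, fun h => absurd (mem_subgroupOf.1 h) heC⟩
        have h1 := mul_mem (hfix _ (mul_mem hv he) (mem_subgroupOf.1 hd')) hm
        rwa [show x * (v * e) * x⁻¹ * (x * e * x⁻¹) = x * (v * (e * e)) * x⁻¹ by group, hE.sq e he, mul_one] at h1⟩
    rcases H.dmem hd with e' | e' | e' | e' <;> rw [e'] at hdv
    · exact absurd (hdv ▸ mul_mem (one_mem E) he) hno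
    · exact ⟨y, Or.inl rfl, hdv⟩
    · exact absurd (hdv ▸ mul_mem hcE he) hno
    · exact ⟨y * (y * y), Or.inr rfl, hdv⟩
  intro h4
  have huu : u * u = y * y := by
    rcases hu with rfl | rfl
    · rfl
    · rw [show y * (y * y) * (y * (y * y)) = y * y * (y * y * (y * y)) by group, H.y4, mul_one]
  have hxu : Commute x u := by
    rcases hu with rfl | rfl
    · exact hxy
    · exact hxy.mul_right (hxy.mul_right hxy)
  have hx2 : x * x * e * (x * x)⁻¹ = y * y * e := by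
    calc x * x * e * (x * x)⁻¹ = x * (x * e * x⁻¹) * x⁻¹ := by group
      _ = x * (u * e) * x⁻¹ := by rw [hue]
      _ = x * u * x⁻¹ * (x * e * x⁻¹) := by group
      _ = u * (u * e) := by rw [hxu.eq, mul_inv_cancel_right, hue]
      _ = y * y * e := by rw [← mul_assoc, huu]
  have hCm : x * x ∈ CS S y := mul_mem hC hC
  have hRm : x * x ∈ RN S E := mem_subgroupOf.1
    (mul_self_mem_of_index_two (H.toHyp.index_two inf_le_left hE.norm) (⟨x, hxS⟩ : (S : Subgroup G)))
  have hmem := H.CR_invol hE hCm hRm h4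
  have hcom : x * x * e * (x * x)⁻¹ = e := by
    have := cm (V := E) (fun v => Subtype.ext (hE.sq v v.2)) ⟨_, hmem⟩ ⟨e, he⟩
    rw [show x * x * e = e * (x * x) from congrArg Subtype.val this, mul_inv_cancel_right]
  rw [hcom] at hx2
  exact H.y2 (right_eq_mul.1 hx2)

theorem sq_c_mem {u : G} (hu : u ∈ RN S E) (hu2 : u * u = y * y) :
    ∃ v ∈ E, Commute v y ∧ u = v * y := by
  rcases H.R_elem hE hu with h | ⟨v, hv, rfl⟩
  · rw [hE.sq u h] at hu2
    exact absurd hu2.symm H.y2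
  · refine ⟨v, hv, ?_, rfl⟩
    by_contra hne
    have h := (H.conj_y (le_normalizer (hE.cand.le hv))).resolve_left fun e' => hne (mul_inv_eq_iff_eq_mul.1 e')
    rw [inv_eq_of_mul_eq_one_right (hE.sq v hv)] at h
    refine H.y2 ?_
    rw [← hu2, show v * y * (v * y) = v * y * v * y by group, h]
    calc y * (y * y) * y = y * y * (y * y) := by group
      _ = 1 := H.y4

/-- A candidate for the normalizer of another site. -/
def Out (S : Sylow 2 G) (y : G) (M : Subgroup G) : Prop :=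
  M ≤ (S : Subgroup G) ∧ Nat.card M = 16 ∧ (∃ x ∈ M, x ∉ CS S y) ∧ ∀ x ∈ M, x ∈ CS S y → x * x * (x * x) = 1

theorem out_RN : Out S y (RN S E) := by
  obtain ⟨e, he, heC, -⟩ := H.exists_move hE
  exact ⟨inf_le_left, hE.norm, ⟨e, le_normalizerIn hE.cand.le he, heC⟩, fun x hx hC => H.CR_pow hE hC hx⟩

theorem out_inter {M : Subgroup G} (hM : Out S y M) : CS S y ⊓ RN S E ≤ M := by
  obtain ⟨hMS, hM16, ⟨x, hx, hxC⟩, hpow⟩ := hM
  have hle : M ⊓ CS S y ≤ CS S y ⊓ RN S E := fun v hv =>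
    ⟨hv.2, by_contra fun h => H.key hE hv.2 h (hpow v hv.1 hv.2)⟩
  have h8 : ∀ K : Subgroup G, K ≤ (S : Subgroup G) → Nat.card K = 16 → 8 ≤ Nat.card ↥(K ⊓ CS S y) := by
    intro K hKS hK
    have h := relIndex_le_of_le_right (H := CS S y) hKS (by
      rw [show (CS S y).relIndex (S : Subgroup G) = 2 from H.C_index hE]; norm_num)
    rw [show (CS S y).relIndex (S : Subgroup G) = 2 from H.C_index hE, ← inf_relIndex_right, inf_comm] at h
    have hm := ((K ⊓ CS S y).subgroupOf K).card_mul_index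
    rw [Nat.card_congr (subgroupOfEquivOfLe inf_le_left).toEquiv, hK] at hm
    by_contra hlt
    have := Nat.mul_le_mul (show Nat.card ↥(K ⊓ CS S y) ≤ 7 by omega) (show ((K ⊓ CS S y).subgroupOf K).index ≤ 2 from h)
    omega
  have h16 : Nat.card ↥(CS S y ⊓ RN S E) ≤ 8 := by
    obtain ⟨e, he, heC, -⟩ := H.exists_move hE
    have hd : Nat.card ↥(CS S y ⊓ RN S E) ∣ 16 := hE.norm ▸ card_dvd_of_le inf_le_right
    have hne : Nat.card ↥(CS S y ⊓ RN S E) ≠ 16 := fun h => heC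
      (((eq_of_le_of_card_ge inf_le_right (h.symm ▸ hE.norm.le)).ge (le_normalizerIn hE.cand.le he)).1)
    obtain ⟨i, hi, e'⟩ := (Nat.dvd_prime_pow Nat.prime_two).1 (show Nat.card ↥(CS S y ⊓ RN S E) ∣ 2 ^ 4 from hd)
    rw [e'] at hne ⊢
    interval_cases i <;> first | omega | norm_num at hne
  have heq := eq_of_le_of_card_ge hle (h16.trans (h8 M hMS hM16))
  exact heq.ge.trans inf_le_left

theorem out_eq {M M' : Subgroup G} (hM : Out S y M) (hM' : Out S y M') (h : M ≠ RN S E) (h' : M' ≠ RN S E) :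
    M' = M := by
  have hP := H.out_inter hE hM
  have hi := H.C_index hE
  have hiR := H.toHyp.index_two (inf_le_left : RN S E ≤ (S : Subgroup G)) hE.norm
  have hnot : ∀ K : Subgroup G, Out S y K → K ≠ RN S E → ∀ x ∈ K, x ∉ CS S y → x ∉ RN S E := by
    intro K hK hne x hx hxC hxR
    refine hne (eq_of_le_of_card_ge ?_ (by rw [hE.norm, hK.2.1])).symm
    intro v hv
    by_cases hvC : v ∈ CS S y
    · exact H.out_inter hE hK ⟨hvC, hv⟩
    · have hd : ((⟨x, hxR.1⟩ : (S : Subgroup G))⁻¹ * ⟨v, hv.1⟩) ∈ (CS S y).subgroupOf (S : Subgroup G) :=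
        (mul_mem_iff_of_index_two hi).2
          ⟨fun h => absurd (mem_subgroupOf.1 ((inv_mem_iff).1 h)) hxC, fun h => absurd (mem_subgroupOf.1 h) hvC⟩
      have := mul_mem hx (H.out_inter hE hK ⟨mem_subgroupOf.1 hd, mul_mem (Subgroup.inv_mem _ hxR) hv⟩)
      rwa [Subgroup.coe_mul, InvMemClass.coe_inv, mul_inv_cancel_left] at this
  obtain ⟨x, hx, hxC⟩ := hM.2.2.1
  have hxR := hnot M hM h x hx hxC
  refine eq_of_le_of_card_ge (fun v hv => ?_) (by rw [hM.2.1, hM'.2.1])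
  by_cases hvC : v ∈ CS S y
  · refine hP ⟨hvC, by_contra fun hvR => H.key hE hvC hvR (hM'.2.2.2 v hv hvC)⟩
  have hvR := hnot M' hM' h' v hv hvC
  have hd : ((⟨x, hM.1 hx⟩ : (S : Subgroup G))⁻¹ * ⟨v, hM'.1 hv⟩) ∈ (CS S y).subgroupOf (S : Subgroup G) :=
    (mul_mem_iff_of_index_two hi).2
      ⟨fun h => absurd (mem_subgroupOf.1 ((inv_mem_iff).1 h)) hxC, fun h => absurd (mem_subgroupOf.1 h) hvC⟩
  have hdR : ((⟨x, hM.1 hx⟩ : (S : Subgroup G))⁻¹ * ⟨v, hM'.1 hv⟩) ∈ (RN S E).subgroupOf (S : Subgroup G) :=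
    (mul_mem_iff_of_index_two hiR).2
      ⟨fun h => absurd (mem_subgroupOf.1 ((inv_mem_iff).1 h)) hxR, fun h => absurd (mem_subgroupOf.1 h) hvR⟩
  have := mul_mem hx (hP ⟨mem_subgroupOf.1 hd, mem_subgroupOf.1 hdR⟩)
  rwa [Subgroup.coe_mul, InvMemClass.coe_inv, mul_inv_cancel_left] at this

/-- The elementary subgroups of order eight of the normalizer, other than `E`, coincide. -/
theorem other_unique {E' E'' : Subgroup G} (h1 : E' ≤ RN S E) (h2 : E'' ≤ RN S E) (c1 : Nat.card E' = 8)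
    (c2 : Nat.card E'' = 8) (s1 : ∀ e ∈ E', e * e = 1) (s2 : ∀ e ∈ E'', e * e = 1) (n1 : E' ≠ E) (n2 : E'' ≠ E) :
    E'' = E' := by
  have hi := H.C_index hE
  have hfour : ∀ K : Subgroup G, K ≤ RN S E → Nat.card K = 8 → (∀ e ∈ K, e * e = 1) → E ⊓ CS S y ≤ K := by
    intro K hK hK8 hKs
    have hle : K ⊓ CS S y ≤ E ⊓ CS S y := fun v hv => ⟨H.CR_invol hE hv.2 (hK hv.1) (hKs v hv.1), hv.2⟩
    have h := relIndex_le_of_le_right (H := CS S y) (hK.trans inf_le_left) (by
      rw [show (CS S y).relIndex (S : Subgroup G) = 2 from hi]; norm_num)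
    rw [show (CS S y).relIndex (S : Subgroup G) = 2 from hi, ← inf_relIndex_right, inf_comm] at h
    have hm := ((K ⊓ CS S y).subgroupOf K).card_mul_index
    rw [Nat.card_congr (subgroupOfEquivOfLe inf_le_left).toEquiv, hK8] at hm
    have h4 : 4 ≤ Nat.card ↥(K ⊓ CS S y) := by
      by_contra hlt
      have := Nat.mul_le_mul (show Nat.card ↥(K ⊓ CS S y) ≤ 3 by omega)
        (show ((K ⊓ CS S y).subgroupOf K).index ≤ 2 from h)
      omega
    have hE4 : Nat.card ↥(E ⊓ CS S y) ≤ 4 := by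
      obtain ⟨e, he, heC, -⟩ := H.exists_move hE
      obtain ⟨i, hi', e'⟩ := (Nat.dvd_prime_pow Nat.prime_two).1
        (show Nat.card ↥(E ⊓ CS S y) ∣ 2 ^ 3 by
          have := card_dvd_of_le (inf_le_left : E ⊓ CS S y ≤ E)
          rwa [hE.card] at this)
      have hne : Nat.card ↥(E ⊓ CS S y) ≠ 8 := fun h => heC
        ((eq_of_le_of_card_ge inf_le_left (h.symm ▸ hE.card.le)).ge he).2
      rw [e'] at hne ⊢
      interval_cases i <;> first | omega | norm_num at hne
    exact (eq_of_le_of_card_ge hle (hE4.trans h4)).ge.trans inf_le_left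
  have hout : ∀ K : Subgroup G, K ≤ RN S E → Nat.card K = 8 → (∀ e ∈ K, e * e = 1) → K ≠ E →
      ∀ a ∈ K, a ∉ CS S y → ∃ v ∈ E, a = v * y := by
    intro K hK hK8 hKs hne a ha haC
    refine (H.R_elem hE (hK ha)).resolve_left fun haE => hne (eq_of_le_of_card_ge ?_ (by rw [hK8, hE.card])).symm
    intro v hv
    by_cases hvC : v ∈ CS S y
    · exact hfour K hK hK8 hKs ⟨hv, hvC⟩
    · have hd : ((⟨a, (hK ha).1⟩ : (S : Subgroup G))⁻¹ * ⟨v, hE.cand.le hv⟩) ∈
          (CS S y).subgroupOf (S : Subgroup G) := (mul_mem_iff_of_index_two hi).2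
          ⟨fun h => absurd (mem_subgroupOf.1 ((inv_mem_iff).1 h)) haC, fun h => absurd (mem_subgroupOf.1 h) hvC⟩
      have := mul_mem ha (hfour K hK hK8 hKs ⟨mul_mem (Subgroup.inv_mem _ haE) hv, mem_subgroupOf.1 hd⟩)
      simpa using this
  obtain ⟨a, ha, haC⟩ : ∃ a ∈ E', a ∉ CS S y := by
    by_contra hno
    push Not at hno
    exact n1 (eq_of_le_of_card_ge (fun v hv => H.CR_invol hE (hno v hv) (h1 hv) (s1 v hv)) (by rw [c1, hE.card]))
  refine eq_of_le_of_card_ge (fun b hb => ?_) (by rw [c1, c2])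
  by_cases hbC : b ∈ CS S y
  · exact hfour E' h1 c1 s1 ⟨H.CR_invol hE hbC (h2 hb) (s2 b hb), hbC⟩
  obtain ⟨v, hv, rfl⟩ := hout E' h1 c1 s1 n1 a ha haC
  obtain ⟨v', hv', rfl⟩ := hout E'' h2 c2 s2 n2 b hb hbC
  have hd : ((⟨v * y, (h1 ha).1⟩ : (S : Subgroup G))⁻¹ * ⟨v' * y, (h2 hb).1⟩) ∈
      (CS S y).subgroupOf (S : Subgroup G) := (mul_mem_iff_of_index_two hi).2
      ⟨fun h => absurd (mem_subgroupOf.1 ((inv_mem_iff).1 h)) haC, fun h => absurd (mem_subgroupOf.1 h) hbC⟩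
  have hEm : (v * y)⁻¹ * (v' * y) ∈ E := by
    have := (mem_normalizer_iff.1 (inv_mem (H.y_mem_RN hE).2) _).1 (mul_mem (inv_mem hv) hv')
    rwa [inv_inv, show y⁻¹ * (v⁻¹ * v') * y = (v * y)⁻¹ * (v' * y) by group] at this
  have := mul_mem ha (hfour E' h1 c1 s1 ⟨hEm, mem_subgroupOf.1 hd⟩)
  rwa [mul_inv_cancel_left] at this

/-- A bad site of order sixteen is not the normalizer of a site of order eight. -/
theorem site16_ne (B : Bad S Φ (RN S E)) : False := by
  obtain ⟨-, -, w, hw, hw2, hyw, -⟩ := H.site16 B hE.norm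
  obtain ⟨v, hv, hvy, rfl⟩ := H.sq_c_mem hE hw hw2
  refine H.y2 ?_
  rw [← hyw, ← mul_assoc y v y, ← hvy.eq]
  calc v * y * y * (v * y * y) = v * (y * y * v) * (y * y) := by group
    _ = v * (v * (y * y)) * (y * y) := by rw [(H.c_comm (hE.cand.le hv)).symm.eq]
    _ = v * v * (y * y * (y * y)) := by group
    _ = 1 := by rw [hE.sq v hv, H.y4, one_mul]

/-- A bad site of order sixteen is a candidate. -/
theorem out16 {M : Subgroup G} (B : Bad S Φ M) (h16 : Nat.card M = 16) : Out S y M := by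
  obtain ⟨hexp, -, -⟩ := H.site16 B h16
  refine ⟨B.le, h16, ?_, fun x hx _ => ?_⟩
  · by_contra hno
    push Not at hno
    have hC16 : Nat.card (CS S y) = 16 := by
      have h := ((CS S y).subgroupOf (S : Subgroup G)).card_mul_index
      rw [Nat.card_congr (subgroupOfEquivOfLe (show CS S y ≤ (S : Subgroup G) from inf_le_left)).toEquiv,
        H.C_index hE, H.card] at h
      omega
    obtain ⟨x, hxC, hxR⟩ : ∃ x ∈ CS S y, x ∉ RN S E := by
      by_contra hno'
      push Not at hno'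
      obtain ⟨e, he, heC, -⟩ := H.exists_move hE
      exact heC ((eq_of_le_of_card_ge hno' (by rw [hC16, hE.norm])).ge (le_normalizerIn hE.cand.le he))
    have hxM : x ∈ M := (eq_of_le_of_card_ge hno (by rw [hC16, h16])).ge hxC
    refine H.key hE hxC hxR ?_
    rcases hexp x hxM with e | e <;> rw [e]
    · exact one_mul 1
    · exact H.y4
  · rcases hexp x hx with e | e <;> rw [e]
    · exact one_mul 1
    · exact H.y4

/-- The sites of order eight with the same normalizer move inside the same subgroup. -/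
theorem covered {w : G} (hw : ∀ D : Subgroup G, y ∈ D → w ∈ D →
      ∀ α ∈ (groupFusionSystem (S : Subgroup G)).autGroup E, ∀ x : E, (x : G)⁻¹ * ((α x : E) : G) ∈ D)
    {E' : Subgroup G} (hE' : E8 S E') (hR : RN S E' = RN S E) (D : Subgroup G) (hy : y ∈ D) (hwD : w ∈ D)
    (hn : ∀ s ∈ (S : Subgroup G), ∀ d ∈ D, s * d * s⁻¹ ∈ D) :
    ∀ α ∈ (groupFusionSystem (S : Subgroup G)).autGroup E', ∀ x : E', (x : G)⁻¹ * ((α x : E') : G) ∈ D := by
  by_cases hEE : E' = E
  · subst hEE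
    exact hw D hy hwD
  obtain ⟨s, hs, hsR⟩ : ∃ s ∈ (S : Subgroup G), s ∉ RN S E := by
    by_contra hno
    push Not at hno
    have := card_le_of_le (show (S : Subgroup G) ≤ RN S E from hno)
    rw [H.card, hE.norm] at this
    omega
  set Es := E.map (MulAut.conj s).toMonoidHom with hEs
  have hEsR : Es ≤ RN S E := by
    rintro _ ⟨v, hv, rfl⟩
    exact (mem_normalizer_iff.1 (H.toHyp.normal_half inf_le_left hE.norm hs) v).1 (le_normalizerIn hE.cand.le hv)
  have hE'R : E' ≤ RN S E := hR ▸ le_normalizerIn hE'.cand.le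
  have heq : E' = Es := H.other_unique hE hEsR hE'R
    (by rw [hEs, Subgroup.card_map_of_injective (MulAut.conj s).injective, hE.card]) hE'.card
    (by rintro _ ⟨v, hv, rfl⟩; rw [← map_mul, hE.sq v hv, map_one]) hE'.sq
    (fun e => hsR ⟨hs, mem_normalizer_iff_map_conj_eq.2 e⟩) hEE
  subst heq
  intro α hα x
  obtain ⟨g, hg⟩ := hE'.cand.mem_aut.1 hα
  have hmem : ∀ v ∈ E, s * v * s⁻¹ ∈ Es := fun v hv => ⟨v, hv, rfl⟩
  have hgn : s⁻¹ * g * s ∈ normalizer (E : Set G) := mem_normalizer_of_maps_finite fun v hv => by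
    have h := hg ⟨_, hmem v hv⟩
    obtain ⟨u, hu, hue⟩ := h ▸ (α ⟨_, hmem v hv⟩).2
    have hue' : s * u * s⁻¹ = g * (s * v * s⁻¹) * g⁻¹ := hue
    have : s⁻¹ * g * s * v * (s⁻¹ * g * s)⁻¹ = u := by
      calc s⁻¹ * g * s * v * (s⁻¹ * g * s)⁻¹ = s⁻¹ * (g * (s * v * s⁻¹) * g⁻¹) * s := by group
        _ = u := by rw [← hue']; group
    rw [this]; exact hu
  obtain ⟨v, hv, hvx⟩ := (x.2 : (x : G) ∈ Es)
  have h := hn s hs _ (hw D hy hwD (conjAut E _ hgn) (hE.cand.mem_aut.2 ⟨_, fun _ => rfl⟩) ⟨v, hv⟩)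
  rw [hg x]
  have hvx' : (x : G) = s * v * s⁻¹ := hvx.symm
  rw [hvx']
  rw [conjAut_apply] at h
  rwa [show (s * v * s⁻¹)⁻¹ * (g * (s * v * s⁻¹) * g⁻¹) =
    s * (v⁻¹ * (s⁻¹ * g * s * v * (s⁻¹ * g * s)⁻¹)) * s⁻¹ by group]

/-- Maps of the whole Sylow subgroup move inside the derived subgroup. -/
theorem top_moves {g : G} (hg : g ∈ normalizer ((S : Subgroup G) : Set G)) :
    ∀ x ∈ (S : Subgroup G), x⁻¹ * (g * x * g⁻¹) ∈ ⁅(S : Subgroup G), (S : Subgroup G)⁆ := by
  haveI : Fact (Nat.Prime 2) := ⟨Nat.prime_two⟩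
  set D' := ⁅(S : Subgroup G), (S : Subgroup G)⁆ with hD'
  have hconj : ∀ k ∈ normalizer ((S : Subgroup G) : Set G), ∀ x ∈ (S : Subgroup G), k * x * k⁻¹ ∈ (S : Subgroup G) :=
    fun k hk x hx => (mem_normalizer_iff.1 hk x).1 hx
  let St : Subgroup G :=
    { carrier := {k | k ∈ normalizer ((S : Subgroup G) : Set G) ∧
        ∀ x ∈ (S : Subgroup G), x⁻¹ * (k * x * k⁻¹) ∈ D'}
      one_mem' := ⟨one_mem _, fun x _ => by simp⟩
      mul_mem' := fun {a b} ha hb => ⟨mul_mem ha.1 hb.1, fun x hx => by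
        have := mul_mem (hb.2 x hx) (ha.2 _ (hconj b hb.1 x hx))
        rwa [mul_assoc, mul_inv_cancel_left, show a * (b * x * b⁻¹) * a⁻¹ = a * b * x * (a * b)⁻¹ by group] at this⟩
      inv_mem' := fun {a} ha => ⟨inv_mem ha.1, fun x hx => by
        have := inv_mem (ha.2 _ (hconj _ (inv_mem ha.1) x hx))
        rwa [show a * (a⁻¹ * x * a⁻¹⁻¹) * a⁻¹ = x by group, mul_inv_rev, inv_inv] at this⟩ }
  suffices g ∈ St from this.2
  have hS : (S : Subgroup G) ≤ St := fun k hk => ⟨le_normalizer hk, fun x hx => by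
    have := H.toHyp.comm_mem (inv_mem hx) hk
    rwa [inv_inv, show x⁻¹ * k * x * k⁻¹ = x⁻¹ * (k * x * k⁻¹) by group] at this⟩
  -- odd order elements
  have hodd : ∀ k ∈ normalizer ((S : Subgroup G) : Set G), Odd (orderOf k) → k ∈ St := by
    intro k hk hko
    obtain ⟨m, hm⟩ := hko
    have hsqmem : ∀ L : Subgroup G, k * k ∈ L → k ∈ L := fun L h => by
      have e : (k * k) ^ (m + 1) = k := by
        rw [← pow_two, ← pow_mul, show 2 * (m + 1) = orderOf k + 1 by omega, pow_succ, pow_orderOf_eq_one, one_mul]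
      exact e ▸ pow_mem h _
    have hCn : ∀ k' ∈ normalizer ((S : Subgroup G) : Set G), ∀ x ∈ CS S y, k' * x * k'⁻¹ ∈ CS S y := by
      intro k' hk' x hx
      refine ⟨hconj k' hk' x hx.1, mem_centralizer_singleton_iff.2 ?_⟩
      have hxy : Commute x y := mem_centralizer_singleton_iff.1 hx.2
      have hxy' : Commute (k' * x * k'⁻¹) (k' * y * k'⁻¹) := hxy.map (MulAut.conj k').toMonoidHom
      rcases H.conj_y hk' with e | e <;> rw [e] at hxy'
      · exact hxy'.eq
      · rw [← H.y_inv] at hxy'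
        have := hxy'.inv_right
        rw [inv_inv] at this
        exact this.eq
    have hP : ∀ k' ∈ normalizer ((S : Subgroup G) : Set G), ∀ x ∈ CS S y, x ∈ RN S E → k' * x * k'⁻¹ ∈ RN S E := by
      intro k' hk' x hxC hxR
      by_contra hno
      refine H.key hE (hCn k' hk' x hxC) hno ?_
      rw [show k' * x * k'⁻¹ * (k' * x * k'⁻¹) * (k' * x * k'⁻¹ * (k' * x * k'⁻¹)) =
        k' * (x * x * (x * x)) * k'⁻¹ by group, H.CR_pow hE hxC hxR]
      group
    have hout : ∀ k' ∈ normalizer ((S : Subgroup G) : Set G),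
        Out S y ((RN S E).map (MulAut.conj k').toMonoidHom) := by
      intro k' hk'
      obtain ⟨hle, hc, ⟨x, hx, hxC⟩, hpow⟩ := H.out_RN hE
      refine ⟨?_, by rw [Subgroup.card_map_of_injective (MulAut.conj k').injective, hc],
        ⟨_, ⟨x, hx, rfl⟩, fun h => hxC ?_⟩, ?_⟩
      · rintro _ ⟨v, hv, rfl⟩
        exact hconj k' hk' v (hle hv)
      · have := hCn k'⁻¹ (inv_mem hk') _ h
        rwa [inv_inv, MulEquiv.coe_toMonoidHom, MulAut.conj_apply,
          show k'⁻¹ * (k' * x * k'⁻¹) * k' = x by group] at this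
      · rintro _ ⟨v, hv, rfl⟩ hC
        have hvC : v ∈ CS S y := by
          have := hCn k'⁻¹ (inv_mem hk') _ hC
          rwa [inv_inv, MulEquiv.coe_toMonoidHom, MulAut.conj_apply,
            show k'⁻¹ * (k' * v * k'⁻¹) * k' = v by group] at this
        rw [← map_mul, ← map_mul, hpow v hv hvC, map_one]
    have hkR : k ∈ normalizer (RN S E : Set G) := by
      refine hsqmem _ ?_
      by_contra hno
      have hkn : k ∉ normalizer (RN S E : Set G) := fun h => hno (mul_mem h h)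
      have hne : ∀ k', k' ∉ normalizer (RN S E : Set G) →
          (RN S E).map (MulAut.conj k').toMonoidHom ≠ RN S E :=
        fun k' h e => h (mem_normalizer_iff_map_conj_eq.2 e)
      have h := H.out_eq hE (hout k hk) (hout (k * k) (mul_mem hk hk)) (hne k hkn) (hne _ hno)
      refine hkn (mem_normalizer_iff_map_conj_eq.2 (map_injective
        (f := (MulAut.conj k).toMonoidHom) (MulAut.conj k).injective ?_))
      rw [map_map, ← h]
      congr 1
      exact MonoidHom.ext fun v => by simp [mul_assoc]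
    refine hsqmem St ⟨mul_mem hk hk, fun x hx => ?_⟩
    have hiC := H.C_index hE
    have hiR := H.toHyp.index_two (inf_le_left : RN S E ≤ (S : Subgroup G)) hE.norm
    set d := x⁻¹ * (k * x * k⁻¹) with hd
    have hdC : d ∈ CS S y := by
      have hiff : x ∈ CS S y ↔ k * x * k⁻¹ ∈ CS S y := ⟨hCn k hk x, fun h => by
        have := hCn k⁻¹ (inv_mem hk) _ h
        rwa [inv_inv, show k⁻¹ * (k * x * k⁻¹) * k = x by group] at this⟩
      exact mem_subgroupOf.1 ((mul_mem_iff_of_index_two hiC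
        (a := (⟨x, hx⟩ : (S : Subgroup G))⁻¹) (b := ⟨_, hconj k hk x hx⟩)).2
        (by rw [inv_mem_iff, mem_subgroupOf, mem_subgroupOf]; exact hiff))
    have hdR : d ∈ RN S E := mem_subgroupOf.1 ((mul_mem_iff_of_index_two hiR
        (a := (⟨x, hx⟩ : (S : Subgroup G))⁻¹) (b := ⟨_, hconj k hk x hx⟩)).2
        (by rw [inv_mem_iff, mem_subgroupOf, mem_subgroupOf]; exact mem_normalizer_iff.1 hkR x))
    -- the second difference
    have hstep : ∀ v ∈ CS S y, v ∈ RN S E → v⁻¹ * (k * v * k⁻¹) ∈ D' := by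
      have hinv : ∀ v ∈ E, v ∈ CS S y → k * v * k⁻¹ ∈ E ∧ k * v * k⁻¹ ∈ CS S y := fun v hv hvC =>
        ⟨H.CR_invol hE (hCn k hk v hvC) (hP k hk v hvC (le_normalizerIn hE.cand.le hv)) (by
          rw [show k * v * k⁻¹ * (k * v * k⁻¹) = k * (v * v) * k⁻¹ by group, hE.sq v hv]; group), hCn k hk v hvC⟩
      have hfour : ∀ v ∈ E, v ∈ CS S y → v⁻¹ * (k * v * k⁻¹) ∈ D' := by
        intro v hv hvC
        obtain ⟨h1, h2⟩ := hinv v hv hvC
        by_contra hno
        set v' := k * v * k⁻¹ with hv'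
        have hc := H.c_mem hE.cand
        have hcC : y * y ∈ CS S y := ⟨mul_mem H.yS H.yS, mem_centralizer_singleton_iff.2
          ((Commute.refl y).mul_left (Commute.refl y)).eq⟩
        have hvi := inv_eq_of_mul_eq_one_right (hE.sq v hv)
        have hci : (y * y)⁻¹ = y * y := inv_eq_of_mul_eq_one_right H.y4
        have hcD : y * y ∈ D' := mul_mem H.yD H.yD
        have a1 : v ≠ 1 := fun e => hno (by rw [hv', e]; simp)
        have a2 : v ≠ y * y := fun e => hno (by rw [hv', e, H.conj_c hk]; simp)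
        have a3 : v' ≠ 1 := fun e => a1 (conj_eq_one_iff.1 e)
        have a4 : v' ≠ y * y := fun e => a2 (by
          rw [hv', ← H.conj_c hk] at e
          exact mul_left_cancel (mul_right_cancel e))
        have a5 : v' ≠ v := fun e => hno (by rw [e, inv_mul_cancel]; exact one_mem _)
        have a6 : v' ≠ v * (y * y) := fun e => hno (by rw [e, inv_mul_cancel_left]; exact hcD)
        have a7 : v * (y * y) ≠ 1 := fun e => a2 (by rw [eq_inv_of_mul_eq_one_left e, hci])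
        obtain ⟨e, he, heC, -⟩ := H.exists_move hE
        have hsub : ({1, y * y, v, v * (y * y), v'} : Set G) ⊆ ((E ⊓ CS S y : Subgroup G) : Set G) := by
          rintro w (rfl | rfl | rfl | rfl | rfl)
          exacts [one_mem _, ⟨hc, hcC⟩, ⟨hv, hvC⟩, ⟨mul_mem hv hc, mul_mem hvC hcC⟩, ⟨h1, h2⟩]
        have hcard := Set.ncard_le_ncard hsub (Set.toFinite _)
        rw [Set.ncard_insert_of_notMem (by simp [Ne.symm H.y2, a1.symm, a7.symm, a3.symm]) (Set.toFinite _),
          Set.ncard_insert_of_notMem (by simp [a2.symm, a4.symm, Ne.symm (show v * (y * y) ≠ y * y from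
            fun e => a1 (mul_eq_right.1 e))]) (Set.toFinite _),
          Set.ncard_insert_of_notMem (by simp [a5.symm, Ne.symm (show v * (y * y) ≠ v from
            fun e => H.y2 (mul_eq_left.1 e))]) (Set.toFinite _), Set.ncard_pair a6.symm,
          ← Nat.card_coe_set_eq] at hcard
        have h5 : 5 ≤ Nat.card ↥(E ⊓ CS S y) := hcard
        have hd8 : Nat.card ↥(E ⊓ CS S y) ∣ 8 := hE.card ▸ card_dvd_of_le inf_le_left
        have h8 := Nat.le_of_dvd (by norm_num) hd8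
        refine heC ((eq_of_le_of_card_ge inf_le_left ?_).ge he).2
        rw [hE.card]
        generalize Nat.card ↥(E ⊓ CS S y) = n at h5 h8 hd8 ⊢
        interval_cases n <;> omega
      intro v hvC hvR
      rcases H.CR_elem hE hvC hvR with h | ⟨u, hu, huy, rfl⟩
      · exact hfour v h hvC
      · have hy' : y⁻¹ * (k * y * k⁻¹) ∈ D' := by
          rcases H.conj_y hk with e | e <;> rw [e]
          · rw [inv_mul_cancel]; exact one_mem _
          · rw [inv_mul_cancel_left]; exact mul_mem H.yD H.yD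
        have huC : u ∈ CS S y := ⟨hE.cand.le hu, mem_centralizer_singleton_iff.2 huy.eq⟩
        have h2 := H.toHyp.conj_mem_der (inv_mem (le_normalizer H.yS)) (hfour u hu huC)
        have := mul_mem h2 hy'
        rwa [inv_inv, show y⁻¹ * (u⁻¹ * (k * u * k⁻¹)) * y * (y⁻¹ * (k * y * k⁻¹)) =
          (u * y)⁻¹ * (k * (u * y) * k⁻¹) by group] at this
    have hd2 : d * d ∈ D' := by
      rcases H.CR_elem hE hdC hdR with h | ⟨u, hu, huy, e⟩
      · rw [hE.sq d h]; exact one_mem _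
      · rw [e, huy.symm.mul_mul_mul_comm, hE.sq u hu, one_mul]; exact mul_mem H.yD H.yD
    have hkk : x⁻¹ * (k * k * x * (k * k)⁻¹) = d * d * (d⁻¹ * (k * d * k⁻¹)) := by rw [hd]; group
    rw [hkk]
    exact mul_mem hd2 (hstep d hdC hdR)
  obtain ⟨n, m, hm, hnm⟩ := Nat.exists_eq_two_pow_mul_odd (orderOf_pos g).ne'
  have h1 : g ^ (2 ^ n) ∈ St := hodd _ (pow_mem hg _) (by
    rw [orderOf_pow' _ (by positivity), hnm, Nat.gcd_eq_right (dvd_mul_right _ _),
      Nat.mul_div_cancel_left _ (by positivity)]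
    exact hm)
  have h2 : g ^ m ∈ St := hS (by
    have hp : IsPGroup 2 (zpowers (g ^ m)) := by
      obtain ⟨j, -, hj⟩ := (Nat.dvd_prime_pow Nat.prime_two).1 (orderOf_dvd_of_pow_eq_one
        (show (g ^ m) ^ (2 ^ n) = 1 by rw [← pow_mul, mul_comm, ← hnm, pow_orderOf_eq_one]))
      exact IsPGroup.of_card (n := j) (by rw [Nat.card_zpowers, hj])
    have hsup : IsPGroup 2 ↥((S : Subgroup G) ⊔ zpowers (g ^ m)) :=
      IsPGroup.to_sup_of_normal_left' S.2 hp (zpowers_le.2 (pow_mem hg m))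
    exact (S.3 hsup le_sup_left).le (mem_sup_right (mem_zpowers _)))
  have hcop : Nat.Coprime (2 ^ n) m := (Nat.coprime_two_left.2 hm).pow_left n
  have hgcd := Nat.gcd_eq_gcd_ab (2 ^ n) m
  rw [hcop, Nat.cast_one] at hgcd
  have : g ^ (1 : ℤ) ∈ St := by
    rw [hgcd, zpow_add, zpow_mul, zpow_mul, zpow_natCast, zpow_natCast]
    exact mul_mem (zpow_mem h1 _) (zpow_mem h2 _)
  rwa [zpow_one] at this

end Base

/-- Some site has order eight. -/
theorem exists_eight : ∃ E : Subgroup G, E8 S E := by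
  classical
  by_contra hno
  push Not at hno
  obtain ⟨E₀, hE₀S, hE₀8, hE₀⟩ := H.rank
  refine H.toHyp.false_of_preserved (A := zpowers (y * y)) (zpowers_le.2 (mul_mem H.yS H.yS)) (fun e => H.y2 ?_)
    (fun a ha b hb => ?_) (fun g hg x hx => ?_) fun Φ Q hΦ B => ?_
  · exact mem_bot.1 (e ▸ mem_zpowers (y * y))
  · obtain ⟨i, rfl⟩ := mem_zpowers_iff.1 ha
    obtain ⟨j, rfl⟩ := mem_zpowers_iff.1 hb
    exact ((Commute.refl (y * y)).zpow_zpow i j).eq
  · obtain ⟨i, rfl⟩ := mem_zpowers_iff.1 hx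
    rw [← conj_zpow, H.conj_c hg]
    exact zpow_mem (mem_zpowers _) i
  · rcases H.toHyp.site_card B.toCand with h8 | h16
    · have hel := B.elementary H.card h8 hE₀S hE₀8 hE₀
      exact hno Q ⟨B.toCand, h8, hel, B.normalizer_card H.card h8 hel⟩
    · obtain ⟨-, hfix, -⟩ := H.site16 B h16
      obtain ⟨α, hα, hb⟩ := B.bad
      refine hb ((hΦ Q _).2 fun x hx => ?_)
      have hc := H.c_mem B.toCand
      have hαc : α ⟨_, hc⟩ = ⟨_, hc⟩ := Subtype.ext (hfix α hα ⟨_, hc⟩ rfl)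
      have hzp : ∀ v : Q, (v : G) ∈ zpowers (y * y) ↔ v ∈ zpowers (⟨_, hc⟩ : Q) := fun v =>
        ⟨fun h => by
          obtain ⟨i, hi⟩ := mem_zpowers_iff.1 h
          exact mem_zpowers_iff.2 ⟨i, Subtype.ext (by rw [SubgroupClass.coe_zpow]; exact hi)⟩,
         fun h => by
          obtain ⟨i, hi⟩ := mem_zpowers_iff.1 h
          exact mem_zpowers_iff.2 ⟨i, by rw [← hi, SubgroupClass.coe_zpow]⟩⟩
      rw [autFun_apply_mem α hx]
      refine (hzp ⟨x, hx⟩).trans ((?_ : _ ↔ α ⟨x, hx⟩ ∈ zpowers (⟨_, hc⟩ : Q)).trans (hzp _).symm)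
      constructor
      · intro h
        obtain ⟨i, hi⟩ := mem_zpowers_iff.1 h
        exact mem_zpowers_iff.2 ⟨i, by rw [← hi, map_zpow, hαc]⟩
      · intro h
        obtain ⟨i, hi⟩ := mem_zpowers_iff.1 h
        exact mem_zpowers_iff.2 ⟨i, α.injective (by rw [map_zpow, hαc, hi])⟩

/-- Two elements with squares in the derived subgroup carry every move. -/
theorem exists_two : ∃ E, E8 S E ∧ ∃ w₀ ∈ (S : Subgroup G), ∃ w₁ ∈ (S : Subgroup G),
    w₀ * w₀ ∈ zpowers y ∧ w₁ * w₁ ∈ zpowers y ∧ ∀ D : Subgroup G, y ∈ D → w₀ ∈ D → w₁ ∈ D →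
      (∀ s ∈ (S : Subgroup G), ∀ d ∈ D, s * d * s⁻¹ ∈ D) →
      ∀ Φ : Subgroup G → (G → G) → Prop, ∀ Q, Bad S Φ Q →
        ∀ α ∈ (groupFusionSystem (S : Subgroup G)).autGroup Q, ∀ x : Q, (x : G)⁻¹ * ((α x : Q) : G) ∈ D := by
  classical
  obtain ⟨E₀, hE₀⟩ := H.exists_eight
  obtain ⟨w₀, hw₀, hmov₀⟩ := H.moves_eight hE₀
  have hsq₀ : w₀ * w₀ ∈ zpowers y := by rw [hE₀.sq w₀ hw₀]; exact one_mem _
  obtain ⟨E', hE'S, hE'8, hE'sq⟩ := H.rank
  have hsplit : ∀ (Φ : Subgroup G → (G → G) → Prop) (Q : Subgroup G), Bad S Φ Q →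
      E8 S Q ∨ Nat.card Q = 16 := by
    intro Φ Q B
    rcases H.toHyp.site_card B.toCand with h8 | h16
    · have hel := B.elementary H.card h8 hE'S hE'8 hE'sq
      exact Or.inl ⟨B.toCand, h8, hel, B.normalizer_card H.card h8 hel⟩
    · exact Or.inr h16
  by_cases hA : ∃ E₁, E8 S E₁ ∧ RN S E₁ ≠ RN S E₀
  · obtain ⟨E₁, hE₁, hne⟩ := hA
    obtain ⟨w₁, hw₁, hmov₁⟩ := H.moves_eight hE₁
    refine ⟨E₀, hE₀, w₀, hE₀.cand.le hw₀, w₁, hE₁.cand.le hw₁, hsq₀, by rw [hE₁.sq w₁ hw₁]; exact one_mem _,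
      fun D hy h0 h1 hn Φ Q B => ?_⟩
    have hcase : ∀ M, Out S y M → M = RN S E₀ ∨ M = RN S E₁ := fun M hM =>
      or_iff_not_imp_left.2 fun h => H.out_eq hE₀ (H.out_RN hE₁) hM hne h
    rcases hsplit Φ Q B with h | h16
    · rcases hcase _ (H.out_RN h) with e | e
      · exact H.covered hE₀ hmov₀ h e D hy h0 hn
      · exact H.covered hE₁ hmov₁ h e D hy h1 hn
    · rcases hcase _ (H.out16 hE₀ B h16) with e | e
      · exact (H.site16_ne hE₀ (e ▸ B)).elim
      · exact (H.site16_ne hE₁ (e ▸ B)).elim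
  push Not at hA
  by_cases hB : ∃ (Φ : Subgroup G → (G → G) → Prop) (M : Subgroup G), Bad S Φ M ∧ Nat.card M = 16
  · obtain ⟨Φ₁, M, BM, hM16⟩ := hB
    have hMne : M ≠ RN S E₀ := fun e => H.site16_ne hE₀ (e ▸ BM)
    obtain ⟨-, -, w₁, hw₁, hw₁2, -, hmov₁⟩ := H.site16 BM hM16
    refine ⟨E₀, hE₀, w₀, hE₀.cand.le hw₀, w₁, BM.le hw₁, hsq₀,
      by rw [hw₁2]; exact mul_mem (mem_zpowers y) (mem_zpowers y), fun D hy h0 h1 hn Φ Q B => ?_⟩
    rcases hsplit Φ Q B with h | h16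
    · exact H.covered hE₀ hmov₀ h (hA Q h) D hy h0 hn
    · have hQM : Q = M := H.out_eq hE₀ (H.out16 hE₀ BM hM16) (H.out16 hE₀ B h16) hMne
        (fun e => H.site16_ne hE₀ (e ▸ B))
      subst hQM
      exact hmov₁ D hy h1
  · push Not at hB
    refine ⟨E₀, hE₀, w₀, hE₀.cand.le hw₀, 1, one_mem _, hsq₀, by rw [one_mul]; exact one_mem _,
      fun D hy h0 _ hn Φ Q B => ?_⟩
    rcases hsplit Φ Q B with h | h16
    · exact H.covered hE₀ hmov₀ h (hA Q h) D hy h0 hn
    · exact absurd h16 (hB Φ Q B)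

/-- The derived subgroup is not cyclic. -/
theorem cyclic_false : False := by
  classical
  haveI : Fact (Nat.Prime 2) := ⟨Nat.prime_two⟩
  haveI := H.simple
  obtain ⟨E, hE, w₀, hw₀, w₁, hw₁, h0, h1, hmov⟩ := H.exists_two
  set D' := ⁅(S : Subgroup G), (S : Subgroup G)⁆ with hD'
  set D₀ := D' ⊔ zpowers w₀ with hD₀
  set D := D₀ ⊔ zpowers w₁ with hD
  have hy : zpowers y ≤ D' := zpowers_le.2 H.yD
  have hD₀S : D₀ ≤ (S : Subgroup G) := sup_le H.toHyp.der_le (zpowers_le.2 hw₀)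
  have hDS : D ≤ (S : Subgroup G) := sup_le hD₀S (zpowers_le.2 hw₁)
  have hnorm : ∀ L : Subgroup G, D' ≤ L → L ≤ (S : Subgroup G) →
      ∀ s ∈ (S : Subgroup G), ∀ d ∈ L, s * d * s⁻¹ ∈ L := fun L hL hLS s hs d hd => by
    have := mul_mem (hL (H.toHyp.comm_mem hs (hLS hd))) hd
    rwa [inv_mul_cancel_right] at this
  have hnn : ∀ L : Subgroup G, D' ≤ L → L ≤ (S : Subgroup G) → ∀ w ∈ (S : Subgroup G),
      w ∈ normalizer (L : Set G) := fun L hL hLS w hw =>
    mem_normalizer_of_maps_finite fun d hd => hnorm L hL hLS w hw d hd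
  have hc0 : Nat.card D₀ ≤ 2 * Nat.card D' := card_adjoin (hnn D' le_rfl H.toHyp.der_le w₀ hw₀) (hy h0)
  have hc1 : Nat.card D ≤ 2 * Nat.card D₀ :=
    card_adjoin (hnn D₀ le_sup_left hD₀S w₁ hw₁) (mem_sup_left (hy h1))
  have hlt : D < (S : Subgroup G) := lt_of_le_of_ne hDS fun e => by
    have hDc : Nat.card D = 32 := by rw [e]; exact H.card
    have := H.der
    rw [← hD'] at this
    omega
  have hDn := hnorm D (le_sup_left.trans le_sup_left) hDS
  have hyD : y ∈ D := mem_sup_left (mem_sup_left H.yD)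
  have h0D : w₀ ∈ D := mem_sup_left (mem_sup_right (mem_zpowers _))
  have h1D : w₁ ∈ D := mem_sup_right (mem_zpowers _)
  refine hlt.not_ge ?_
  have hfoc := commutator_inf_eq_focalSubgroup S
  have hc : _root_.commutator G = ⊤ :=
    (Normal.eq_bot_or_eq_top inferInstance).resolve_left fun hb => H.nab ⟨⟨fun a b => by
      refine commutatorElement_eq_one_iff_mul_comm.mp ?_
      rw [← mem_bot, ← hb]
      exact commutator_mem_commutator (mem_top a) (mem_top b)⟩⟩
  rw [hc, top_inf_eq] at hfoc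
  rw [hfoc, focalSubgroup_def, closure_le]
  rintro g ⟨hg, x, hx, v, rfl⟩
  set F := groupFusionSystem (S : Subgroup G)
  let Φ : Subgroup G → (G → G) → Prop := fun P f => ∀ a ∈ P, a⁻¹ * f a ∈ D
  have hconjD : ∀ a ∈ (S : Subgroup G), ∀ k ∈ (S : Subgroup G), a⁻¹ * (k * a * k⁻¹) ∈ D := fun a ha k hk => by
    have := H.toHyp.comm_mem (inv_mem ha) hk
    rw [inv_inv, show a⁻¹ * k * a * k⁻¹ = a⁻¹ * (k * a * k⁻¹) by group] at this
    exact mem_sup_left (mem_sup_left this)
  have hΦ : IsMapClass F Φ :=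
    { conj := fun P k hP hk a ha => hconjD a (hP ha) k hk
      congr := fun P f f' _ e h a ha => by rw [e a ha]; exact h a ha
      mono := fun P R f _ hR h a ha => h a (hR ha)
      comp := fun P Q f k _ _ hfQ h1 h2 a ha => by
        have := mul_mem (h1 a ha) (h2 (f a) (hfQ a ha))
        rwa [mul_assoc, mul_inv_cancel_left] at this
      inv := fun P f k hf _ hkf h b hb => by
        obtain ⟨a, ha, rfl⟩ := hf.mem_img.mp hb
        rw [hkf a ha]
        have := inv_mem (h a ha)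
        rwa [mul_inv_rev, inv_inv] at this }
  have hv : v * x⁻¹ * v⁻¹ ∈ (S : Subgroup G) := by
    have := mul_mem (inv_mem hx) hg
    rwa [commutatorElement_def, show x⁻¹ * (x * v * x⁻¹ * v⁻¹) = v * x⁻¹ * v⁻¹ by group] at this
  have hmap : IsMap F (zpowers x⁻¹) (fun a => v * a * v⁻¹) := isMap_group_iff.2
    ⟨zpowers_le.2 (inv_mem hx), fun a ha => by
      obtain ⟨i, rfl⟩ := mem_zpowers_iff.1 ha
      show v * x⁻¹ ^ i * v⁻¹ ∈ _
      rw [← conj_zpow]; exact zpow_mem hv i, v, fun _ _ => rfl⟩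
  have h := alperin_induction S.2 (saturated_group S) hΦ (fun f hf => ?_)
    (fun Q hQS hQn hQc hIH α hα => ?_) hmap x⁻¹ (mem_zpowers _)
  · rwa [inv_inv, show x * (v * x⁻¹ * v⁻¹) = ⁅x, v⁆ by rw [commutatorElement_def]; group] at h
  · obtain ⟨-, hfS, k, hk⟩ := isMap_group_iff.1 hf
    have hkn : k ∈ normalizer ((S : Subgroup G) : Set G) :=
      mem_normalizer_of_maps_finite fun a ha => hk a ha ▸ hfS a ha
    intro a ha
    rw [hk a ha]
    exact mem_sup_left (mem_sup_left (H.top_moves hE hkn a ha))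
  · by_contra hb
    refine hb fun a ha => ?_
    rw [autFun_apply_mem α ha]
    exact hmov D hyD h0D h1D hDn Φ Q ⟨⟨hQS, hQn, hQc⟩, hΦ, hIH, α, hα, hb⟩ α hα ⟨a, ha⟩

end Cyc

end Cfsg.Lib.LenSeven
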