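import Cfsg.Agent.LenSeven.CaseFour
import Cfsg.Agent.LenSeven.CyclicMain
import Cfsg.Agent.PGroups.SpecialCoprime
import Cfsg.Agent.Fusion.ComponentExistence
import Cfsg.Agent.S4399
import Cfsg.Agent.S5233

/-!
A nonabelian Sylow 2-subgroup of order `16` or `32` of a simple group has no elementary subgroup of order eight.
-/

set_option autoImplicit false
set_option linter.style.haveILetI false
set_option linter.unusedSectionVars false

namespace Cfsg.Lib.LenSeven

open Subgroup Cfsg Cfsg.FusionSystem Cfsg.Lib.Fusion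
open scoped commutatorElement

universe u

variable {X : Type u} [Group X] [Finite X]

/-- A cyclic subgroup of index two leaves no room for an elementary subgroup of order eight. -/
theorem no_eight_cyclic {a : X} (ha : orderOf a * 2 = Nat.card X) {E : Subgroup X} (hE : Nat.card E = 8)
    (hsq : ∀ e ∈ E, e * e = 1) : False := by
  have hi : (zpowers a).index = 2 := by
    have h := (zpowers a).card_mul_index
    rw [Nat.card_zpowers, ← ha] at h
    exact mul_left_cancel₀ (orderOf_pos a).ne' h
  haveI : (zpowers a).Normal := normal_of_index_eq_two hi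
  set C := (zpowers a).subgroupOf E
  have hCi : C.index ∣ 2 := hi ▸ (zpowers a).relIndex_dvd_index_of_normal E
  let j : C →* zpowers a :=
    { toFun := fun x => ⟨((x : E) : X), x.2⟩
      map_one' := rfl
      map_mul' := fun _ _ => rfl }
  haveI : IsCyclic C := isCyclic_of_injective j fun x y h => Subtype.ext (Subtype.ext (congrArg Subtype.val h :))
  obtain ⟨c, hc⟩ := IsCyclic.exists_generator (α := C)
  have h2 : Nat.card C ≤ 2 := by
    rw [← Nat.card_congr (Subgroup.topEquiv (G := C)).toEquiv, ← (eq_top_iff' _).2 hc, Nat.card_zpowers]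
    exact Nat.le_of_dvd two_pos (orderOf_dvd_of_pow_eq_one (Subtype.ext (Subtype.ext (by
      rw [pow_two]; exact hsq _ (c : E).2))))
  have h := C.card_mul_index
  rw [hE] at h
  have h2' := Nat.le_of_dvd two_pos hCi
  have := Nat.mul_le_mul h2 h2'
  omega

/-- A 2-group with abelianization of order four has a cyclic subgroup of index two, unless it is tiny. -/
theorem cyclic_half (hp : IsPGroup 2 X) (hna : ¬ IsMulCommutative X) (hab : Nat.card (Abelianization X) = 4) :
    Nat.card X = 4 ∨ ∃ a : X, orderOf a * 2 = Nat.card X := by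
  haveI : Fact (Nat.Prime 2) := ⟨Nat.prime_two⟩
  have hexp : ∀ x : Abelianization X, x ^ 2 = 1 := by
    by_contra hno
    push Not at hno
    obtain ⟨x, hx⟩ := hno
    have ho : orderOf x = 4 := by
      have h4 : x ^ (2 ^ 2) = 1 := by
        rw [show (2 : ℕ) ^ 2 = Nat.card (Abelianization X) by rw [hab]; norm_num]; exact pow_card_eq_one'
      exact (orderOf_eq_prime_pow (p := 2) (n := 1) (by simpa using hx) h4).trans (by norm_num)
    haveI : IsCyclic (X ⧸ commutator X) :=
      isCyclic_of_orderOf_eq_card (α := Abelianization X) x (ho.trans hab.symm)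
    have hle : commutator X ≤ Subgroup.comap (MonoidHom.id X) (frattini X) :=
      Cfsg.Lib.PGroups.commutator_le_frattini hp
    haveI : IsCyclic (X ⧸ frattini X) := isCyclic_of_surjective
      (QuotientGroup.map (commutator X) (frattini X) (MonoidHom.id X) hle) fun q => by
        obtain ⟨g, rfl⟩ := QuotientGroup.mk_surjective q
        exact ⟨QuotientGroup.mk g, rfl⟩
    haveI : IsCyclic X := Cfsg.Lib.PGroups.isCyclic_of_isCyclic_quotient_frattini
    exact hna IsCyclic.isMulCommutative
  rcases Cfsg.Agent.S4399.result hp hab hexp with h | ⟨k, ⟨e⟩⟩ | ⟨k, hk, a, b, ha, -, -⟩ | ⟨k, ⟨e⟩⟩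
  · exact Or.inl h
  · refine Or.inr ⟨e.symm (DihedralGroup.r 1), ?_⟩
    rw [MulEquiv.orderOf_eq, DihedralGroup.orderOf_r_one, Nat.card_congr e.toEquiv, DihedralGroup.nat_card]
    ring
  · exact Or.inr ⟨a, by rw [ha, hk]; ring⟩
  · refine Or.inr ⟨e.symm (QuaternionGroup.a 1), ?_⟩
    rw [MulEquiv.orderOf_eq, QuaternionGroup.orderOf_a_one, Nat.card_congr e.toEquiv, Nat.card_eq_fintype_card,
      QuaternionGroup.card]
    ring

/-- A 2-group of order `16` with an elementary subgroup of order eight has centre of index at most four. -/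
theorem centre_sixteen (h16 : Nat.card X = 16) {E : Subgroup X} (hE : Nat.card E = 8) (hsq : ∀ e ∈ E, e * e = 1) :
    (center X).index ≤ 4 := by
  have hi : E.index = 2 := by
    have h := E.card_mul_index
    rw [hE, h16] at h; omega
  haveI : E.Normal := normal_of_index_eq_two hi
  have hcomm : ∀ p ∈ E, ∀ q ∈ E, p * q = q * p := fun p hp q hq =>
    (Cfsg.Lib.Fusion.SqCenter.comm_of_sq (by rw [pow_two, hsq _ hp]) (by rw [pow_two, hsq _ hq])
      (by rw [pow_two, hsq _ (mul_mem hp hq)]))
  obtain ⟨s, hs⟩ : ∃ s, s ∉ E := by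
    by_contra hno
    push Not at hno
    rw [(eq_top_iff' E).2 hno, index_top] at hi
    omega
  have hcomm' : ∀ p q : E, p * q = q * p := fun p q => Subtype.ext (hcomm p p.2 q q.2)
  let f : E →* E :=
    { toFun := fun e => ⟨s * e * s⁻¹, Subgroup.Normal.conj_mem inferInstance _ e.2 s⟩ * e
      map_one' := Subtype.ext (by simp)
      map_mul' := fun p q => by
        have e1 : (⟨s * (p * q : E) * s⁻¹, Subgroup.Normal.conj_mem inferInstance _ (p * q).2 s⟩ : E) =
            ⟨s * p * s⁻¹, Subgroup.Normal.conj_mem inferInstance _ p.2 s⟩ *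
            ⟨s * q * s⁻¹, Subgroup.Normal.conj_mem inferInstance _ q.2 s⟩ := Subtype.ext (by
              show s * ((p : X) * q) * s⁻¹ = s * p * s⁻¹ * (s * q * s⁻¹); group)
        rw [e1, mul_assoc, ← mul_assoc _ p q, hcomm' _ p, mul_assoc p, ← mul_assoc, ← mul_assoc] }
  have hss : s * s ∈ E := (mul_mem_iff_of_index_two hi).2 Iff.rfl
  have hle : f.range ≤ f.ker := by
    rintro _ ⟨e, rfl⟩
    refine Subtype.ext ?_
    show s * (s * e * s⁻¹ * e) * s⁻¹ * (s * e * s⁻¹ * e) = 1
    have h1 : s * s * e * (s * s)⁻¹ = e := by rw [hcomm _ hss _ e.2, mul_inv_cancel_right]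
    rw [show s * (s * e * s⁻¹ * e) * s⁻¹ = s * s * e * (s * s)⁻¹ * (s * e * s⁻¹) by group, h1,
      hcomm _ e.2 _ (Subgroup.Normal.conj_mem inferInstance _ e.2 s)]
    exact hsq _ (mul_mem (Subgroup.Normal.conj_mem inferInstance _ e.2 s) e.2)
  have hker : f.ker.map E.subtype ≤ center X := by
    rintro _ ⟨e, he, rfl⟩
    have h : s * e * s⁻¹ * e = 1 := congrArg Subtype.val (MonoidHom.mem_ker.1 he)
    have hse : s * (e : X) = e * s := mul_inv_eq_iff_eq_mul.1 (by
      rw [eq_inv_of_mul_eq_one_left h]; exact inv_eq_of_mul_eq_one_right (hsq e e.2))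
    refine mem_center_iff.2 fun x => ?_
    show x * (e : X) = e * x
    by_cases hx : x ∈ E
    · exact hcomm x hx _ e.2
    · have hy : s⁻¹ * x ∈ E := (mul_mem_iff_of_index_two hi).2 (by rw [inv_mem_iff]; tauto)
      have h2 := (show Commute (e : X) s from hse.symm).mul_right (show Commute (e : X) (s⁻¹ * x) from
        hcomm _ e.2 _ hy)
      rw [mul_inv_cancel_left] at h2
      exact h2.eq.symm
  have h1 := f.ker.card_mul_index
  rw [index_ker, hE] at h1
  have h2 := card_le_of_le hle
  have h3 := card_le_of_le hker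
  rw [card_map_of_injective E.subtype_injective] at h3
  have h4 := (center X).card_mul_index
  rw [h16] at h4
  have h5 : 4 ≤ Nat.card (center X) := by
    by_contra hlt
    have := Nat.mul_le_mul (show Nat.card f.ker ≤ 2 by
      have hd : Nat.card f.ker ∣ 8 := h1 ▸ dvd_mul_right _ _
      have : Nat.card f.ker ≠ 3 := fun e => by rw [e] at hd; norm_num at hd
      omega) (h2.trans (show Nat.card f.ker ≤ 2 by
      have hd : Nat.card f.ker ∣ 8 := h1 ▸ dvd_mul_right _ _
      have : Nat.card f.ker ≠ 3 := fun e => by rw [e] at hd; norm_num at hd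
      omega))
    omega
  by_contra hlt
  have := Nat.mul_le_mul h5 (show 5 ≤ (center X).index by omega)
  omega

/-- A group of order `32` with derived subgroup of order two and small centre is extraspecial. -/
theorem extraspecial (h32 : Nat.card X = 32) (hc : Nat.card (commutator X) = 2)
    (hZ : Nat.card (center X) ≤ 4) : center X = commutator X ∧ frattini X = commutator X := by
  classical
  haveI : Fact (Nat.Prime 2) := ⟨Nat.prime_two⟩
  have hp : IsPGroup 2 X := IsPGroup.of_card (n := 5) (by rw [h32]; norm_num)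
  have hle : commutator X ≤ center X := Cfsg.Lib.PGroups.le_center_of_card_eq_prime hp hc
  obtain ⟨c, hc1, hcall⟩ : ∃ c : X, c ≠ 1 ∧ ∀ v ∈ commutator X, v = 1 ∨ v = c := by
    obtain ⟨c, hc', -⟩ := (Nat.card_eq_two_iff' (1 : commutator X)).1 hc
    refine ⟨c, fun e => hc' (Subtype.ext e), fun v hv => ?_⟩
    by_contra hno
    push Not at hno
    have h := Set.ncard_le_ncard (show ({1, (c : X), v} : Set X) ⊆ commutator X from fun w hw => by
      rcases hw with rfl | rfl | rfl
      exacts [one_mem _, c.2, hv]) (Set.toFinite _)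
    rw [Set.ncard_insert_of_notMem (by simp [Ne.symm (fun e => hc' (Subtype.ext e) : (c : X) ≠ 1), hno.1.symm])
      (Set.toFinite _), Set.ncard_pair hno.2.symm, ← Nat.card_coe_set_eq] at h
    have h' : 3 ≤ Nat.card (commutator X) := h
    omega
  have hcz : c * c = 1 ∧ c ∈ commutator X := by
    have hne : commutator X ≠ ⊥ := fun e => by rw [e, card_bot] at hc; omega
    obtain ⟨v, hv, hv1⟩ : ∃ v ∈ commutator X, v ≠ 1 := by
      by_contra hno; push Not at hno
      exact hne ((eq_bot_iff_forall _).2 hno)
    obtain rfl := (hcall v hv).resolve_left hv1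
    refine ⟨?_, hv⟩
    rcases hcall _ (mul_mem hv hv) with e | e
    · exact e
    · exact absurd (left_eq_mul.1 e.symm) hv1
  have hconj : ∀ x y : X, x * y * x⁻¹ = y ∨ x * y * x⁻¹ = c * y := fun x y => by
    rcases hcall ⁅x, y⁆ (commutator_mem_commutator (mem_top _) (mem_top _)) with e | e <;>
      rw [commutatorElement_def, mul_inv_eq_iff_eq_mul] at e
    · exact Or.inl (by rw [e, one_mul])
    · exact Or.inr e
  have hsqZ : ∀ x : X, x * x ∈ center X := fun x => mem_center_iff.2 fun y => by
    have h : x * x * y * (x * x)⁻¹ = y := by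
      rw [show x * x * y * (x * x)⁻¹ = x * (x * y * x⁻¹) * x⁻¹ by group]
      rcases hconj x y with e | e
      · rw [e, e]
      · rw [e, show x * (c * y) * x⁻¹ = x * c * x⁻¹ * (x * y * x⁻¹) by group, e,
          mem_center_iff.1 (hle hcz.2) x, mul_inv_cancel_right, ← mul_assoc, hcz.1, one_mul]
    exact (mul_inv_eq_iff_eq_mul.1 h).symm
  have hcoset : ∀ a : X, ∀ x y : X, ¬ Commute x a → ¬ Commute y a → Commute (x⁻¹ * y) a := fun a x y hx hy => by
    have h1 := (hconj x a).resolve_left fun e => hx (mul_inv_eq_iff_eq_mul.1 e)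
    have h2 := (hconj y a).resolve_left fun e => hy (mul_inv_eq_iff_eq_mul.1 e)
    refine mul_inv_eq_iff_eq_mul.1 ?_
    rw [show x⁻¹ * y * a * (x⁻¹ * y)⁻¹ = x⁻¹ * (y * a * y⁻¹) * x by group, h2, ← h1]
    group
  obtain ⟨a, b, hab⟩ : ∃ a b : X, ¬ Commute a b := by
    by_contra hno
    push Not at hno
    have : commutator X = ⊥ := le_bot_iff.1 (commutator_le.2 fun x _ y _ => by
      rw [mem_bot, commutatorElement_eq_one_iff_commute]; exact hno x y)
    rw [this, card_bot] at hc; omega
  set C : Subgroup X := centralizer ({a, b} : Set X) with hC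
  have hCmem : ∀ x, x ∈ C ↔ Commute x a ∧ Commute x b := fun x => by
    rw [hC, mem_centralizer_iff]
    exact ⟨fun h => ⟨(h a (Or.inl rfl)).symm, (h b (Or.inr rfl)).symm⟩, fun h v hv => by
      rcases hv with rfl | rfl
      exacts [h.1.eq.symm, h.2.eq.symm]⟩
  have hcover : ∀ x : X, ∃ w : X, (w = 1 ∨ w = a ∨ w = b ∨ w = a * b) ∧ w⁻¹ * x ∈ C := fun x => by
    have hab' : ¬ Commute (a * b) a := fun h => hab (by
      have h' := (Commute.refl a).inv_left.mul_left h
      rw [inv_mul_cancel_left] at h'
      exact h'.symm)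
    have hab'' : ¬ Commute (a * b) b := fun h => hab (by
      have := h.mul_left (Commute.refl b).inv_left
      rwa [mul_inv_cancel_right] at this)
    by_cases hxa : Commute x a <;> by_cases hxb : Commute x b
    · exact ⟨1, Or.inl rfl, by rw [inv_one, one_mul, hCmem]; exact ⟨hxa, hxb⟩⟩
    · exact ⟨a, Or.inr (Or.inl rfl), (hCmem _).2 ⟨(Commute.refl a).inv_left.mul_left hxa, hcoset b a x hab hxb⟩⟩
    · exact ⟨b, Or.inr (Or.inr (Or.inl rfl)),
        (hCmem _).2 ⟨hcoset a b x (fun h => hab h.symm) hxa, (Commute.refl b).inv_left.mul_left hxb⟩⟩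
    · exact ⟨a * b, Or.inr (Or.inr (Or.inr rfl)), (hCmem _).2 ⟨hcoset a _ x hab' hxa, hcoset b _ x hab'' hxb⟩⟩
  have hcent : ∀ v, Commute v a → Commute v b → (∀ u ∈ C, Commute v u) → v ∈ center X := by
    intro v ha hb hu
    refine mem_center_iff.2 fun x => ?_
    obtain ⟨w, hw, hwx⟩ := hcover x
    have hvw : Commute v w := by
      rcases hw with rfl | rfl | rfl | rfl
      exacts [Commute.one_right v, ha, hb, ha.mul_right hb]
    have := hvw.mul_right (hu _ hwx)
    rw [mul_inv_cancel_left] at this
    exact this.eq.symm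
  have hCi : C.index ≤ 4 := by
    have hs : Function.Surjective (fun i : Fin 4 => (QuotientGroup.mk (![1, a, b, a * b] i) : X ⧸ C)) := fun q => by
      obtain ⟨x, rfl⟩ := QuotientGroup.mk_surjective q
      obtain ⟨w, hw, hwx⟩ := hcover x
      rcases hw with rfl | rfl | rfl | rfl
      exacts [⟨0, QuotientGroup.eq.2 hwx⟩, ⟨1, QuotientGroup.eq.2 hwx⟩, ⟨2, QuotientGroup.eq.2 hwx⟩,
        ⟨3, QuotientGroup.eq.2 hwx⟩]
    have := Nat.card_le_card_of_surjective _ hs
    rwa [Nat.card_fin, ← index_eq_card] at this
  have hC8 : 8 ≤ Nat.card C := by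
    have h := C.card_mul_index
    rw [h32] at h
    by_contra hlt
    have := Nat.mul_le_mul (show Nat.card C ≤ 7 by omega) hCi
    omega
  obtain ⟨p, hpC, q, hqC, hpq⟩ : ∃ p ∈ C, ∃ q ∈ C, ¬ Commute p q := by
    by_contra hno
    push Not at hno
    have hle' : C ≤ center X := fun v hv =>
      hcent v ((hCmem v).1 hv).1 ((hCmem v).1 hv).2 (hno v hv)
    have := card_le_of_le hle'
    omega
  -- the same coset argument inside `C`
  have hZle : center X ≤ C := fun v hv => (hCmem v).2 ⟨(mem_center_iff.1 hv a).symm, (mem_center_iff.1 hv b).symm⟩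
  have hC16 : C.index = 4 := by
    have h := C.card_mul_index
    rw [h32] at h
    have hne : C.index ≠ 3 := fun e => by rw [e] at h; omega
    have hne2 : ¬ C.index ≤ 2 := fun hle2 => by
      have hs : ∀ u, u ∉ C → ∀ v, v ∉ C → u⁻¹ * v ∈ C := by
        intro u hu v hv
        rcases (show C.index = 1 ∨ C.index = 2 by
          have : C.index ≠ 0 := index_ne_zero_of_finite
          omega) with e | e
        · exact absurd (index_eq_one.1 e ▸ mem_top u) hu
        · exact (mul_mem_iff_of_index_two e).2 (by rw [inv_mem_iff]; tauto)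
      have haC : a ∉ C := fun h => hab ((hCmem a).1 h).2
      have hbC : b ∉ C := fun h => hab ((hCmem b).1 h).1.symm
      have := (hCmem _).1 (hs a haC b hbC)
      exact hab (by
        have h2 := (Commute.refl a).mul_left this.1
        rw [mul_inv_cancel_left] at h2
        exact h2.symm)
    omega
  have hCcard : Nat.card C = 8 := by
    have h := C.card_mul_index
    rw [h32, hC16] at h; omega
  have hZ2 : Nat.card (center X) ≤ 2 := by
    by_contra hlt
    have hd : Nat.card (center X) ∣ 8 := hCcard ▸ card_dvd_of_le hZle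
    have h4 : Nat.card (center X) = 4 := by
      have : Nat.card (center X) ≠ 3 := fun e => by rw [e] at hd; norm_num at hd
      omega
    have hlt' : center X < centralizer ({p} : Set X) ⊓ C := by
      refine lt_of_le_of_ne (le_inf (center_le_centralizer _) hZle) fun e => hpq ?_
      have hpz : p ∈ center X := e ▸ ⟨mem_centralizer_singleton_iff.2 rfl, hpC⟩
      exact (mem_center_iff.1 hpz q).symm
    have hle8 : centralizer ({p} : Set X) ⊓ C = C := by
      refine eq_of_le_of_card_ge inf_le_right ?_
      have hd8 : Nat.card ↥(centralizer ({p} : Set X) ⊓ C) ∣ 8 := hCcard ▸ card_dvd_of_le inf_le_right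
      have hgt : 4 < Nat.card ↥(centralizer ({p} : Set X) ⊓ C) := by
        by_contra hle4
        exact hlt'.ne (eq_of_le_of_card_ge hlt'.le (by omega))
      rw [hCcard]
      have h8 := Nat.le_of_dvd (by norm_num) hd8
      generalize Nat.card ↥(centralizer ({p} : Set X) ⊓ C) = n at hd8 hgt h8 ⊢
      interval_cases n <;> omega
    exact hpq (mem_centralizer_singleton_iff.1 (hle8.ge hqC).1).symm
  have hZeq : center X = commutator X := (eq_of_le_of_card_ge hle (hc ▸ hZ2)).symm
  refine ⟨hZeq, le_antisymm (Cfsg.Lib.PGroups.SpecialCoprime.frattini_le_of_elementary (p := 2) _ (fun g => ?_)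
    le_rfl) (Cfsg.Lib.PGroups.commutator_le_frattini hp)⟩
  rw [pow_two, ← hZeq]
  exact hsqZ g

variable {G : Type u} [Group G] [Finite G]

/-- A simple group whose Sylow 2-subgroup is nonabelian of order `16` or `32` has no elementary subgroup of order
eight in it. -/
theorem rank_three_false [IsSimpleGroup G] (hna : ¬ IsMulCommutative G) (S : Sylow 2 G)
    (hS : ¬ IsMulCommutative (S : Subgroup G))
    (hcard : Nat.card (S : Subgroup G) = 16 ∨ Nat.card (S : Subgroup G) = 32)
    {E : Subgroup G} (hE : E ≤ (S : Subgroup G)) (hE8 : Nat.card E = 8) (hsq : ∀ e ∈ E, e * e = 1) : False := by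
  classical
  haveI : Fact (Nat.Prime 2) := ⟨Nat.prime_two⟩
  have hidx := center_index hna S hS (by omega) (by omega)
  have hE' : Nat.card (E.subgroupOf (S : Subgroup G)) = 8 := by
    rw [Nat.card_congr (subgroupOfEquivOfLe hE).toEquiv, hE8]
  have hsq' : ∀ e ∈ E.subgroupOf (S : Subgroup G), e * e = 1 := fun e he => Subtype.ext (hsq _ he)
  rcases hcard with h16 | h32
  · have := centre_sixteen h16 hE' hsq'
    omega
  have hZ : Nat.card (center (S : Subgroup G)) ≤ 4 := by
    have h := (center (S : Subgroup G)).card_mul_index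
    rw [h32] at h
    by_contra hlt
    have := Nat.mul_le_mul (show 5 ≤ Nat.card (center (S : Subgroup G)) by omega) hidx
    omega
  have hmap : Nat.card ↥⁅(S : Subgroup G), (S : Subgroup G)⁆ = Nat.card (commutator (S : Subgroup G)) := by
    rw [← map_subtype_commutator, card_map_of_injective (Subgroup.subtype_injective _)]
  obtain ⟨k, hk5, hk⟩ := (Nat.dvd_prime_pow Nat.prime_two).1
    (show Nat.card (commutator (S : Subgroup G)) ∣ 2 ^ 5 by
      rw [show (2 : ℕ) ^ 5 = Nat.card (S : Subgroup G) by rw [h32]; norm_num]; exact card_subgroup_dvd_card _)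
  interval_cases k
  · exact hS ⟨⟨fun x y => by
      have h : commutator (S : Subgroup G) = ⊥ := eq_bot_of_card_eq _ hk
      have hm := commutator_mem_commutator (mem_top x) (mem_top y)
      rw [← commutator_def, h, mem_bot, commutatorElement_eq_one_iff_commute] at hm
      exact hm⟩⟩
  · obtain ⟨hz, hf⟩ := extraspecial h32 hk hZ
    have hN : (groupFusionSystem (S : Subgroup G)).IsNormal (S : Subgroup G) :=
      Cfsg.Agent.S5233.result 2 S.2 _ (saturated_group S) _
        ⟨le_rfl, fun _ _ φ hφ x => ((groupFusionSystem (S : Subgroup G)).le_of_mem hφ).2 x⟩ ⟨hf, hk⟩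
        (fun _ ⟨A, hA, hA2, ⟨e⟩⟩ => by
          haveI : Finite (DihedralGroup 4 × A) := Finite.of_equiv _ e.toEquiv
          haveI : Finite A := Finite.of_injective (fun a : A => ((1 : DihedralGroup 4), a)) fun a b h =>
            congrArg Prod.snd h
          have hc := Nat.card_congr e.toEquiv
          rw [h32, Nat.card_prod, DihedralGroup.nat_card] at hc
          have hf2 : ∀ a : A, e.symm (1, a) ∈ center (S : Subgroup G) := fun a => mem_center_iff.2 fun x =>
            e.injective (by rw [map_mul, map_mul, e.apply_symm_apply]; exact Prod.ext (by simp) (mul_comm _ _))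
          have h := Nat.card_le_card_of_injective (fun a : A => (⟨_, hf2 a⟩ : center (S : Subgroup G)))
            fun a b h => by simpa using e.symm.injective (congrArg Subtype.val h)
          rw [hz, hk] at h
          omega)
        (fun h => absurd rfl h)
    have hb := core_eq_bot hna S hS h32.le
    have hSb : (S : Subgroup G) ≤ ⊥ := hb ▸ CompEx.le_core hN
    rw [le_bot_iff] at hSb
    rw [hSb, card_bot] at h32
    omega
  · have H : Hyp S := ⟨inferInstance, hna, hS, h32, hZ, by rw [hmap, hk]; norm_num, E, hE, hE8, hsq⟩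
    by_cases h : ∀ x ∈ ⁅(S : Subgroup G), (S : Subgroup G)⁆, x * x = 1
    · exact four_false H h
    · push Not at h
      obtain ⟨y, hy, hy2⟩ := h
      exact Cyc.cyclic_false (⟨H, hy, hy2⟩ : Cyc S y)
  all_goals
    have hab : Nat.card (Abelianization (S : Subgroup G)) * Nat.card (commutator (S : Subgroup G)) = 32 := by
      rw [mul_comm, ← h32]; exact (card_eq_card_quotient_mul_card_subgroup _).symm.trans rfl |> fun h => by
        rw [mul_comm] at h; exact h
    rw [hk] at hab
    rcases (show Nat.card (Abelianization (S : Subgroup G)) = 4 ∨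
        Nat.card (Abelianization (S : Subgroup G)) ≤ 2 by omega) with h4 | h2
    · rcases cyclic_half S.2 hS h4 with h | ⟨a, ha⟩
      · omega
      · exact no_eight_cyclic ha hE' hsq'
    · haveI : IsCyclic ((S : Subgroup G) ⧸ frattini (S : Subgroup G)) := by
        have hd : (frattini (S : Subgroup G)).index ≤ 2 := by
          refine le_trans (Nat.le_of_dvd Nat.card_pos ?_) h2
          exact index_dvd_of_le (Cfsg.Lib.PGroups.commutator_le_frattini S.2)
        rw [index_eq_card] at hd
        rcases (show Nat.card ((S : Subgroup G) ⧸ frattini (S : Subgroup G)) = 1 ∨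
            Nat.card ((S : Subgroup G) ⧸ frattini (S : Subgroup G)) = 2 by
          have : 0 < Nat.card ((S : Subgroup G) ⧸ frattini (S : Subgroup G)) := Nat.card_pos
          omega) with e | e
        · haveI := (Nat.card_eq_one_iff_unique.1 e).1
          exact isCyclic_of_subsingleton
        · exact isCyclic_of_prime_card e
      haveI : IsCyclic (S : Subgroup G) := Cfsg.Lib.PGroups.isCyclic_of_isCyclic_quotient_frattini
      exact hS IsCyclic.isMulCommutative

end Cfsg.Lib.LenSeven
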