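import Cfsg.Agent.LenSeven.Chain
import Cfsg.Agent.LenSeven.RankThree
import Cfsg.Agent.LenEight.Final
import Cfsg.Agent.GWDihedral.Main
import Cfsg.Agent.Janko.Simple
import Cfsg.Agent.S0506
import Cfsg.Agent.S0516
import Cfsg.Agent.S0993
import Cfsg.Agent.S4273
import Cfsg.Agent.S1141
import Cfsg.Prelude.Def_Spor_J1
import Cfsg.Prelude.Def_Spor_Mathieu

/-!
Simple groups without chains of nine subgroups: the division by the Sylow 2-subgroup.
-/

set_option autoImplicit false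
set_option linter.style.haveILetI false
set_option linter.unusedSectionVars false

namespace Cfsg.Lib.LenSeven

open Subgroup

universe u

/-- The list of outcomes. -/
def Outcome (G : Type u) [Group G] : Prop :=
  (∃ (F : Type) (_ : Field F) (_ : Fintype F), Nonempty (G ≃* Matrix.ProjectiveSpecialLinearGroup (Fin 2) F)) ∨
    (∃ (F : Type) (_ : Field F) (_ : Fintype F), Fintype.card F = 9 ∧ Nonempty (G ≃* Cfsg.PSU 3 F 3)) ∨
    Nonempty (G ≃* ↥(alternatingGroup (Fin 7))) ∨ Cfsg.Spor.IsoM11 G ∨ Cfsg.Spor.IsoJ1 G ∨ Nat.card G = 126000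

variable {G : Type u} [Group G] [Finite G] [IsSimpleGroup G]

theorem ne_top_of_pgroup (hna : ¬ IsMulCommutative G) {p : ℕ} [Fact p.Prime] {H : Subgroup G} (hH : IsPGroup p H) :
    H ≠ ⊤ := by
  intro h
  haveI : Group.IsNilpotent G := (IsPGroup.of_equiv hH (h ▸ Subgroup.topEquiv)).isNilpotent
  exact hna ⟨⟨fun a b => (IsSimpleGroup.comm_iff_isSolvable.2 inferInstance) a b⟩⟩

/-- Prime powers dividing the order have exponent at most six. -/
theorem pow_bound (hna : ¬ IsMulCommutative G) (hG : Short G) {p a : ℕ} [Fact p.Prime] (h : p ^ a ∣ Nat.card G) :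
    a ≤ 6 := by
  obtain ⟨H, hH⟩ := Sylow.exists_subgroup_card_pow_prime p h
  exact hG.pgroup_bound hH (ne_top_of_pgroup hna (IsPGroup.of_card hH))

theorem not_ree (hna : ¬ IsMulCommutative G) (hG : Short G) : ¬ Cfsg.IsRee G := by
  rintro ⟨-, m, hm, hc⟩
  haveI : Fact (Nat.Prime 3) := ⟨Nat.prime_three⟩
  have h : 3 ^ 9 ∣ Nat.card G := by
    rw [hc, ← pow_mul]
    exact dvd_mul_of_dvd_left (dvd_mul_of_dvd_left (Nat.pow_dvd_pow 3 (by omega)) _) _
  have := pow_bound hna hG h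
  omega

theorem iso_j1 (h : Cfsg.IsJ1 G) : Cfsg.Spor.IsoJ1 G := by
  have hJ := Cfsg.Lib.Janko.isJ1
  haveI := Cfsg.Lib.Janko.finite_J
  haveI := hJ.1
  exact Cfsg.Agent.S4273.result h.2 hJ.2

theorem small_abelian (S : Sylow 2 G) {a : ℕ} (ha : Nat.card (S : Subgroup G) = 2 ^ a) (h : a ≤ 2) :
    IsMulCommutative (S : Subgroup G) := by
  haveI : Fact (Nat.Prime 2) := ⟨Nat.prime_two⟩
  interval_cases a
  · haveI := (Nat.card_eq_one_iff_unique.1 (ha.trans (pow_zero 2))).1
    exact ⟨⟨fun x y => Subsingleton.elim _ _⟩⟩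
  · haveI : IsCyclic (S : Subgroup G) := isCyclic_of_prime_card (ha.trans (pow_one 2))
    exact IsCyclic.isMulCommutative
  · exact ⟨⟨IsPGroup.commutative_of_card_eq_prime_sq ha⟩⟩

/-- The statement from the quasidihedral and wreathed cases. -/
theorem outcome_of_cases (hna : ¬ IsMulCommutative G) (hG : Short G)
    (hQ : ∀ S : Sylow 2 G, Cfsg.IsQuasiDihedral (S : Subgroup G) → Outcome G)
    (hW : ∀ S : Sylow 2 G, Nat.card (S : Subgroup G) = 32 → Cfsg.IsWreathed (S : Subgroup G) → Outcome G) :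
    Outcome G := by
  classical
  haveI : Fact (Nat.Prime 2) := ⟨Nat.prime_two⟩
  obtain ⟨S⟩ : Nonempty (Sylow 2 G) := inferInstance
  by_cases hS : IsMulCommutative (S : Subgroup G)
  · rcases Cfsg.Agent.S0506.result hna S hS with ⟨-, -, F, i1, i2, -, he⟩ | ⟨F, i1, i2, -, he⟩ | h | h
    · exact Or.inl ⟨F, i1, i2, he⟩
    · exact Or.inl ⟨F, i1, i2, he⟩
    · exact absurd h (not_ree hna hG)
    · exact Or.inr (Or.inr (Or.inr (Or.inr (Or.inl (iso_j1 h)))))
  obtain ⟨a, ha⟩ := IsPGroup.iff_card.1 S.2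
  have ha6 : a ≤ 6 := pow_bound hna hG (ha ▸ card_subgroup_dvd_card _)
  have ha3 : 3 ≤ a := by
    by_contra h
    exact hS (small_abelian S ha (by omega))
  have hdih : ∀ n : ℕ, 2 ≤ n → Nonempty ((S : Subgroup G) ≃* DihedralGroup n) → Outcome G := fun n hn he => by
    rcases Cfsg.Lib.GWD.dihedralProp G S n hn he with ⟨F, i1, i2, -, -, h⟩ | h
    · exact Or.inl ⟨F, i1, i2, h⟩
    · exact Or.inr (Or.inr (Or.inl h))
  rcases (show a = 3 ∨ a = 4 ∨ a = 5 ∨ a = 6 by omega) with rfl | h45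
  · rcases Cfsg.Agent.S0993.result hna S (ha.trans (by norm_num)) with
      ⟨F, i1, i2, -, he⟩ | ⟨F, i1, i2, -, he⟩ | h | h | h
    · exact Or.inl ⟨F, i1, i2, he⟩
    · exact Or.inl ⟨F, i1, i2, he⟩
    · exact Or.inr (Or.inr (Or.inl h))
    · exact Or.inr (Or.inr (Or.inr (Or.inr (Or.inl (iso_j1 h)))))
    · exact absurd h (not_ree hna hG)
  by_cases h64 : a = 6
  · subst h64
    have C : Cfsg.Lib.LenEight.Ctx S :=
      ⟨inferInstance, hna, by rw [ha]; norm_num, by rw [ha]; norm_num, fun T A hT h1 h2 => by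
        obtain ⟨k, hk⟩ := IsPGroup.iff_card.1 hT
        have := Nat.pow_le_pow_right two_pos (hG.bound_two (steps_of_two hk) h1 h2)
        rw [ha]
        omega⟩
    rcases Cfsg.Lib.LenEight.sylow_shape C with ⟨n, hn, he⟩ | hq
    · exact hdih n (by omega) he
    · exact hQ S hq
  have hcard : Nat.card (S : Subgroup G) = 16 ∨ Nat.card (S : Subgroup G) = 32 := by
    rcases (show a = 4 ∨ a = 5 by omega) with rfl | rfl <;> rw [ha] <;> norm_num
  by_cases hr : Cfsg.PRankLE 2 2 G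
  · letI : Fintype (GaloisField 2 4) := Fintype.ofFinite _
    have hF : Fintype.card (GaloisField 2 4) = 16 := by
      rw [← Nat.card_eq_fintype_card, GaloisField.card 2 4 (by norm_num)]; norm_num
    obtain ⟨P⟩ : Nonempty (Sylow 2 (Cfsg.PSU 3 (GaloisField 2 4) 4)) := inferInstance
    rcases Cfsg.Agent.S0516.result hna hr S hF P with ⟨n, hn, he⟩ | h | h | ⟨⟨e⟩⟩
    · exact hdih n hn he
    · exact hQ S h
    · refine hW S ?_ h
      obtain ⟨n, hn, hc, -⟩ := h
      rw [ha] at hc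
      have := Nat.pow_right_injective le_rfl hc
      rw [ha, this, show n = 2 by omega]
      norm_num
    · exfalso
      obtain ⟨hP, -, -⟩ := Cfsg.Agent.S1141.result (n := 2) le_rfl (by rw [hF]; norm_num) P
      have h1 := Nat.card_congr e.toEquiv
      have hP' : Nat.card (P : Subgroup (Cfsg.PSU 3 (GaloisField 2 4) 4)) = (2 ^ 2) ^ 3 := hP
      rw [hP'] at h1
      omega
  · exfalso
    rw [Cfsg.PRankLE] at hr
    push Not at hr
    obtain ⟨A, -, hA, hA4⟩ := hr
    have hp : IsPGroup 2 A := fun x => ⟨1, Subtype.ext (by simpa using hA x x.2)⟩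
    obtain ⟨k, hk⟩ := IsPGroup.iff_card.1 hp
    have hk3 : 3 ≤ k := by
      by_contra h
      have := Nat.pow_le_pow_right two_pos (show k ≤ 2 by omega)
      omega
    obtain ⟨B, hB⟩ := Sylow.exists_subgroup_card_pow_prime (G := A) 2 (n := 3)
      (by rw [hk]; exact Nat.pow_dvd_pow 2 hk3)
    obtain ⟨g, hg⟩ := Cfsg.Lib.Fusion.exists_conj_le_sylow S ((IsPGroup.of_card hB).map A.subtype)
    refine rank_three_false hna S hS hcard (E := (B.map A.subtype).map (MulAut.conj g).toMonoidHom) ?_ ?_ ?_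
    · rintro x ⟨y, hy, rfl⟩
      exact hg y hy
    · rw [card_map_of_injective (MulAut.conj g).injective, card_map_of_injective A.subtype_injective, hB]
      norm_num
    · rintro x ⟨y, ⟨b, -, rfl⟩, rfl⟩
      rw [← map_mul, ← pow_two]
      show (MulAut.conj g) ((b : G) ^ 2) = 1
      rw [hA b b.2, map_one]

end Cfsg.Lib.LenSeven
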