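import Cfsg.Agent.Coprime.SchurZassenhaus
import Mathlib.NumberTheory.ArithmeticFunction.Misc

/-!
Descending chains of subgroups and the bound given by the absence of chains of nine subgroups.
-/

set_option autoImplicit false
set_option linter.style.haveILetI false
set_option linter.unusedSectionVars false

namespace Cfsg.Lib.LenSeven

open Subgroup
open scoped ArithmeticFunction.Omega

universe u v

/-- `Steps H n`: a chain of `n` proper steps goes down from `H`. -/
inductive Steps {G : Type u} [Group G] : Subgroup G → ℕ → Prop
  | zero (H : Subgroup G) : Steps H 0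
  | step {A B : Subgroup G} {n : ℕ} : A < B → Steps A n → Steps B (n + 1)

/-- No chain of nine subgroups. -/
def Short (G : Type u) [Group G] : Prop :=
  ∀ c : Fin 9 → Subgroup G, ¬ StrictAnti c

variable {G : Type u} [Group G] {H A B : Subgroup G} {n : ℕ}

theorem Steps.exists_fun (h : Steps H n) : ∃ c : Fin (n + 1) → Subgroup G, StrictAnti c ∧ c 0 = H := by
  induction h with
  | zero H => exact ⟨fun _ => H, fun i j h => absurd h (by
      have h1 := i.isLt; have h2 := j.isLt; rw [Fin.lt_def]; omega), rfl⟩
  | @step A B n hlt _ ih =>
    obtain ⟨c, hc, hc0⟩ := ih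
    refine ⟨Fin.cons B c, Fin.strictAnti_iff_succ_lt.2 fun i => ?_, Fin.cons_zero _ _⟩
    rw [Fin.cons_succ]
    rcases Fin.eq_zero_or_eq_succ i.castSucc with h | ⟨j, hj⟩
    · rw [h, Fin.cons_zero, show i = 0 from Fin.ext (by simpa using congrArg Fin.val h), hc0]
      exact hlt
    · rw [hj, Fin.cons_succ]
      refine hc ?_
      have := congrArg Fin.val hj
      simp at this
      exact Fin.lt_def.2 (by omega)

theorem Short.bound (hG : Short G) (h : Steps H n) : n ≤ 7 := by
  by_contra hlt
  obtain ⟨c, hc, -⟩ := h.exists_fun
  exact hG _ (hc.comp_strictMono (Fin.strictMono_castLE (show 9 ≤ n + 1 by omega)))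

theorem Short.bound_below (hG : Short G) (h : Steps H n) (hH : H < ⊤) : n ≤ 6 := by
  have := hG.bound (h.step hH)
  omega

theorem Short.bound_two (hG : Short G) (h : Steps A n) (hAB : A < B) (hB : B < ⊤) : n ≤ 5 := by
  have := hG.bound_below (h.step hAB) hB
  omega

theorem Steps.of_le_top (h : Steps A n) (hAB : A ≤ B) : Steps B n := by
  rcases eq_or_lt_of_le hAB with rfl | hlt
  · exact h
  · cases h with
    | zero => exact .zero _
    | step h1 h2 => exact .step (h1.trans hlt) h2

theorem Steps.map {X : Type v} [Group X] {H : Subgroup X} {n : ℕ} (h : Steps H n) {f : X →* G}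
    (hf : Function.Injective f) : Steps (H.map f) n := by
  induction h with
  | zero H => exact .zero _
  | step hlt _ ih => exact .step ((map_lt_map_iff_of_injective hf).2 hlt) ih

theorem Steps.of_sub (h : Steps (⊤ : Subgroup A) n) : Steps A n := by
  have := h.map (f := A.subtype) A.subtype_injective
  rwa [← MonoidHom.range_eq_map, range_subtype] at this

theorem Steps.comap {X : Type v} [Group X] {H : Subgroup X} {n : ℕ} (h : Steps H n) {f : G →* X}
    (hf : Function.Surjective f) {m : ℕ} (hk : Steps f.ker m) : Steps (H.comap f) (n + m) := by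
  induction h with
  | zero H => simpa using hk.of_le_top (ker_le_comap _ _)
  | @step A B k hlt _ ih =>
    rw [Nat.add_right_comm]
    exact .step ((comap_lt_comap_of_surjective hf).2 hlt) ih

/-- A solvable group has a chain as long as the number of prime factors of its order. -/
theorem steps_top_of_solvable (X : Type u) [Group X] [Finite X] [hX : Group.IsSolvable X] :
    Steps (⊤ : Subgroup X) (Ω (Nat.card X)) := by
  generalize hc : Nat.card X = c
  induction c using Nat.strong_induction_on generalizing X with
  | _ c ih =>
    rcases subsingleton_or_nontrivial X with h | h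
    · rw [← hc, Nat.card_of_subsingleton (1 : X), ArithmeticFunction.cardFactors_one]
      exact .zero _
    · obtain ⟨M, -, hM⟩ := Cfsg.Lib.Coprime.exists_normal_prime_index (G := X)
      have hmul := M.card_mul_index
      have hlt : Nat.card M < c := by
        rw [← hc, ← hmul]
        exact lt_mul_of_one_lt_right Nat.card_pos hM.one_lt
      have h1 := Steps.of_sub (ih _ hlt M rfl)
      rw [← hc, ← hmul, ArithmeticFunction.cardFactors_mul Nat.card_pos.ne' hM.ne_zero,
        ArithmeticFunction.cardFactors_apply_prime hM]
      refine .step (lt_top_iff_ne_top.2 fun e => ?_) h1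
      rw [e, index_top] at hM
      exact Nat.not_prime_one hM

theorem steps_of_solvable [Finite G] (H : Subgroup G) [Group.IsSolvable H] : Steps H (Ω (Nat.card H)) :=
  (steps_top_of_solvable H).of_sub

theorem steps_of_two [Finite G] {a : ℕ} (hH : Nat.card H = 2 ^ a) : Steps H a := by
  haveI : Fact (Nat.Prime 2) := ⟨Nat.prime_two⟩
  haveI : Group.IsNilpotent H := (IsPGroup.of_card hH).isNilpotent
  have h := steps_of_solvable H
  rwa [hH, ArithmeticFunction.cardFactors_apply_prime_pow Nat.prime_two] at h

theorem Short.pgroup_bound [Finite G] (hG : Short G) {p a : ℕ} [hp : Fact p.Prime] (hH : Nat.card H = p ^ a)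
    (hne : H ≠ ⊤) : a ≤ 6 := by
  haveI : Group.IsNilpotent H := (IsPGroup.of_card hH).isNilpotent
  have h := steps_of_solvable H
  rw [hH, ArithmeticFunction.cardFactors_apply_prime_pow hp.out] at h
  exact hG.bound_below h (lt_top_iff_ne_top.2 hne)

end Cfsg.Lib.LenSeven
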