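import Cfsg.Agent.Fusion.NormalCriteria
import Cfsg.Agent.Fusion.GroupSystem
import Cfsg.Agent.Components.BGN.PSL
import Cfsg.Agent.S0222
import Cfsg.Agent.S1141
import Cfsg.Agent.S1169
import Cfsg.Agent.S5093
import Cfsg.Agent.S5265
import Cfsg.Agent.RankOneInter.Outer

/-!
Simple groups with a nonabelian Sylow 2-subgroup of order at most `32`: the fusion system has trivial core, and the
centre of the Sylow subgroup has index at least eight when the subgroup is larger than order eight.
-/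

set_option autoImplicit false
set_option linter.style.haveILetI false
set_option linter.unusedSectionVars false

namespace Cfsg.Lib.LenSeven

open Subgroup Cfsg Cfsg.FusionSystem Cfsg.Lib.Fusion

universe u

variable {G : Type u} [Group G] [Finite G] [IsSimpleGroup G]

/-- A strongly embedded subgroup forces the Sylow 2-subgroups to be abelian or of order at least `64`. -/
theorem no_embedded (hna : ¬ IsMulCommutative G) (S : Sylow 2 G) (hS : ¬ IsMulCommutative (S : Subgroup G))
    (hc : Nat.card (S : Subgroup G) ≤ 32) {H : Subgroup G} (hH : Cfsg.IsStronglyEmbedded H) : False := by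
  haveI : Fact (Nat.Prime 2) := ⟨Nat.prime_two⟩
  obtain ⟨a, b, hab⟩ : ∃ a b : G, a * b ≠ b * a := by
    by_contra hno
    push Not at hno
    exact hna ⟨⟨hno⟩⟩
  rcases Cfsg.Agent.S0222.result ⟨a, b, hab⟩ H hH with
    ⟨F, i1, i2, hch, -, ⟨e⟩⟩ | ⟨-, m, hm, hcard⟩ | ⟨F, i1, i2, q, hq, hqe, hq4, ⟨e⟩⟩
  · obtain ⟨n, hn, hF⟩ := FiniteField.card F 2
    let R : Sylow 2 (Matrix.ProjectiveSpecialLinearGroup (Fin 2) F) :=
      S.mapSurjective (f := e.toMonoidHom) e.surjective
    have hsq : ∀ s ∈ (S : Subgroup G), s * s = 1 := fun s hs => e.injective (by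
      rw [map_mul, map_one]
      exact Cfsg.Lib.BGN.psl_sylow_sq n.pos hF R ⟨s, hs, rfl⟩)
    refine hS ⟨⟨fun x y => Subtype.ext ?_⟩⟩
    show (x : G) * y = y * x
    exact Cfsg.Lib.Fusion.SqCenter.comm_of_sq (by rw [pow_two, hsq _ x.2]) (by rw [pow_two, hsq _ y.2])
      (by rw [pow_two, hsq _ (mul_mem x.2 y.2)])
  · have h64 : 2 ^ 6 ∣ Nat.card G := by
      rw [hcard, ← pow_mul]
      exact Dvd.dvd.mul_right (Dvd.dvd.mul_right (Nat.pow_dvd_pow 2 (by omega)) _) _
    obtain ⟨K, hK⟩ := Sylow.exists_subgroup_card_pow_prime 2 h64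
    obtain ⟨g, hg⟩ := exists_conj_le_sylow S (IsPGroup.of_card hK)
    have h := card_le_of_le (show K.map (MulAut.conj g).toMonoidHom ≤ (S : Subgroup G) from
      Subgroup.map_le_iff_le_comap.2 fun x hx => hg x hx)
    rw [Subgroup.card_map_of_injective (MulAut.conj g).injective, hK] at h
    omega
  · obtain ⟨p, n, hp, -, hpn⟩ : ∃ p n : ℕ, p.Prime ∧ 0 < n ∧ Fintype.card F = p ^ n := by
      obtain ⟨p, _⟩ := CharP.exists F
      obtain ⟨n, hp, hn⟩ := FiniteField.card F p
      exact ⟨p, n, hp, n.pos, hn⟩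
    have hq2 : 2 ∣ p ^ n := by rw [← hpn, hq]; exact dvd_pow (even_iff_two_dvd.1 hqe) two_ne_zero
    obtain rfl : 2 = p := (Nat.prime_dvd_prime_iff_eq Nat.prime_two hp).1 (Nat.prime_two.dvd_of_dvd_pow hq2)
    obtain ⟨j, -, rfl⟩ : ∃ j, j ≤ n ∧ q = 2 ^ j := (Nat.dvd_prime_pow Nat.prime_two).1 (by
      rw [← hpn, hq]; exact dvd_pow_self q two_ne_zero)
    have hj : 2 ≤ j := by
      by_contra hlt
      have : j = 0 ∨ j = 1 := by omega
      rcases this with rfl | rfl <;> norm_num at hq4
    let R : Sylow 2 (Cfsg.PSU 3 F (2 ^ j)) := S.mapSurjective (f := e.toMonoidHom) e.surjective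
    obtain ⟨hR, -, -⟩ := Cfsg.Agent.S1141.result hj hq R
    have hRS : Nat.card (R : Subgroup (Cfsg.PSU 3 F (2 ^ j))) = Nat.card (S : Subgroup G) :=
      (Nat.card_congr ((S : Subgroup G).equivMapOfInjective e.toMonoidHom e.injective).toEquiv).symm
    have hR' : Nat.card (R : Subgroup (Cfsg.PSU 3 F (2 ^ j))) = (2 ^ j) ^ 3 := hR
    have h4 : 4 ^ 3 ≤ (2 ^ j) ^ 3 := Nat.pow_le_pow_left (by
      calc (4 : ℕ) = 2 ^ 2 := rfl
        _ ≤ 2 ^ j := Nat.pow_le_pow_right two_pos hj) 3
    omega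

/-- The fusion system of a small nonabelian Sylow 2-subgroup has trivial core. -/
theorem core_eq_bot (hna : ¬ IsMulCommutative G) (S : Sylow 2 G) (hS : ¬ IsMulCommutative (S : Subgroup G))
    (hc : Nat.card (S : Subgroup G) ≤ 32) : (groupFusionSystem (S : Subgroup G)).core = ⊥ := by
  haveI : Fact (Nat.Prime 2) := ⟨Nat.prime_two⟩
  set F := groupFusionSystem (S : Subgroup G)
  by_contra hne
  have hN : F.IsNormal F.core := isNormal_core
  set A : Subgroup G := (center F.core).map F.core.subtype with hA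
  have hAQ : A ≤ F.core := map_subtype_le _
  have hchar : (A.subgroupOf F.core).Characteristic := by
    rw [hA, subgroupOf, comap_map_eq_self_of_injective F.core.subtype_injective]
    infer_instance
  have hsc := stronglyClosed_of_isNormal (isNormal_of_characteristic hN hAQ hchar)
  haveI : Nontrivial F.core := (Subgroup.nontrivial_iff_ne_bot _).2 hne
  haveI := (S.2.to_le hN.1).center_nontrivial
  have hA1 : A ≠ ⊥ := fun h => by
    rw [hA, map_eq_bot_iff_of_injective _ F.core.subtype_injective] at h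
    exact (Subgroup.nontrivial_iff_ne_bot _).1 inferInstance h
  have hAc : IsMulCommutative A := ⟨⟨by
    rintro ⟨_, x, hx, rfl⟩ ⟨_, y, -, rfl⟩
    refine Subtype.ext ?_
    show (x : G) * y = y * x
    exact congrArg Subtype.val (mem_center_iff.1 hx y).symm⟩⟩
  have hscl : Cfsg.IsStronglyClosed A (S : Subgroup G) := by
    refine ⟨hAQ.trans hN.1, fun x hx g hg => ?_⟩
    refine stronglyClosed_apply (P := zpowers x) (f := fun y => g * y * g⁻¹) hsc (isMap_group_iff.2
      ⟨zpowers_le.2 (hN.1 (hAQ hx)), fun y hy => ?_, g, fun _ _ => rfl⟩) (mem_zpowers x) hx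
    obtain ⟨i, rfl⟩ := mem_zpowers_iff.1 hy
    show g * x ^ i * g⁻¹ ∈ _
    rw [← conj_zpow]
    exact zpow_mem hg i
  rcases Cfsg.Agent.S1169.result S A hA1 hAc hscl with h | ⟨H, hH⟩
  · exact hS h
  · exact no_embedded hna S hS hc hH

/-- The focal subgroup of a Sylow 2-subgroup of a simple group is the whole of it. -/
theorem hyperfocal_eq (hna : ¬ IsMulCommutative G) (S : Sylow 2 G) :
    (groupFusionSystem (S : Subgroup G)).hyperfocalSubgroup 2 = (S : Subgroup G) := by
  haveI : Fact (Nat.Prime 2) := ⟨Nat.prime_two⟩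
  rw [Cfsg.Agent.S5093.result 2 S, show Cfsg.pResidual 2 G = ⊤ from
    Cfsg.Lib.RankOneInter.pResidual_top hna, inf_top_eq]

/-- For order `16` or `32` the centre has index at least eight. -/
theorem center_index (hna : ¬ IsMulCommutative G) (S : Sylow 2 G) (hS : ¬ IsMulCommutative (S : Subgroup G))
    (h16 : 16 ≤ Nat.card (S : Subgroup G)) (hc : Nat.card (S : Subgroup G) ≤ 32) :
    8 ≤ (center (S : Subgroup G)).index := by
  haveI : Fact (Nat.Prime 2) := ⟨Nat.prime_two⟩
  obtain ⟨n, hn⟩ := IsPGroup.iff_card.1 S.2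
  obtain ⟨k, -, hk⟩ := (Nat.dvd_prime_pow Nat.prime_two).1 (hn ▸ index_dvd_card (center (S : Subgroup G)))
  by_contra hlt
  have hk2 : 2 ^ k ≤ 2 ^ 2 := by
    by_contra h
    have : 2 ^ 3 ≤ 2 ^ k := Nat.pow_le_pow_right two_pos (Nat.lt_of_not_le fun h' => h
      (Nat.pow_le_pow_right two_pos h'))
    omega
  have h := (Cfsg.Agent.S5265.result 2 S.2 (groupFusionSystem (S : Subgroup G)) (saturated_group S)
    (fun e => by
      have := congrArg (fun X : Subgroup G => Nat.card X) e
      simp only [card_bot] at this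
      omega)
    (core_eq_bot hna S hS hc) (hyperfocal_eq hna S) (hk ▸ hk2)).2.1
  norm_num at h
  omega

end Cfsg.Lib.LenSeven
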