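import Cfsg.Agent.LenSeven.Small
import Cfsg.Agent.PGroups.AutOrder

/-!
A cyclic derived subgroup of the Sylow 2-subgroup of order `32`: sites of order eight and of order sixteen.
-/

set_option autoImplicit false
set_option linter.style.haveILetI false
set_option linter.unusedSectionVars false

namespace Cfsg.Lib.LenSeven

open Subgroup Cfsg Cfsg.FusionSystem Cfsg.Lib.Fusion
open scoped commutatorElement Pointwise

universe u

variable {G : Type u} [Group G] [Finite G] {S : Sylow 2 G} {Φ : Subgroup G → (G → G) → Prop} {Q : Subgroup G}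

/-- The derived subgroup of `S` is generated by `y` of order four. -/
structure Cyc (S : Sylow 2 G) (y : G) : Prop extends Hyp S where
  yD : y ∈ ⁅(S : Subgroup G), (S : Subgroup G)⁆
  y2 : y * y ≠ 1

namespace Cyc

variable {y : G} (H : Cyc S y)
include H

theorem yS : y ∈ (S : Subgroup G) := H.toHyp.der_le H.yD

theorem y4 : y * y * (y * y) = 1 := by
  have h : (⟨y, H.yD⟩ : ↥⁅(S : Subgroup G), (S : Subgroup G)⁆) ^
      Nat.card ↥⁅(S : Subgroup G), (S : Subgroup G)⁆ = 1 := pow_card_eq_one'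
  rw [H.der] at h
  have h' : y ^ 4 = 1 := congrArg Subtype.val h
  rw [← h', show (4 : ℕ) = 2 + 2 by norm_num, pow_add, pow_two]

theorem y_inv : y⁻¹ = y * (y * y) := inv_eq_of_mul_eq_one_right (by rw [← mul_assoc]; exact H.y4)

theorem c_ne : y * y ≠ 1 := H.y2

theorem c_ne_y : y * y ≠ y := fun e => H.y2 (by rw [e]; exact left_eq_mul.1 e.symm)

theorem dmem {v : G} (hv : v ∈ ⁅(S : Subgroup G), (S : Subgroup G)⁆) :
    v = 1 ∨ v = y ∨ v = y * y ∨ v = y * (y * y) := by
  by_contra hno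
  push Not at hno
  have a1 : y ≠ 1 := fun e => H.y2 (by rw [e, one_mul])
  have a2 : y * (y * y) ≠ 1 := fun e => H.y2 (by
    have h := H.y4
    rw [← mul_assoc, mul_assoc (y * y) y y] at h
    have h2 : y * y * y = 1 := by rw [mul_assoc]; exact e
    rw [← mul_assoc, h2, one_mul] at h
    exact absurd h a1)
  have a3 : y * y ≠ y * (y * y) := fun e => a1 (by
    have := mul_left_cancel e
    exact left_eq_mul.1 this)
  have a4 : y ≠ y * (y * y) := fun e => H.y2 (left_eq_mul.1 e)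
  have h := Set.ncard_le_ncard (show ({1, y, y * y, y * (y * y), v} : Set G) ⊆
      ((⁅(S : Subgroup G), (S : Subgroup G)⁆ : Subgroup G) : Set G) from fun w hw => by
    rcases hw with rfl | rfl | rfl | rfl | rfl
    exacts [one_mem _, H.yD, mul_mem H.yD H.yD, mul_mem H.yD (mul_mem H.yD H.yD), hv]) (Set.toFinite _)
  rw [Set.ncard_insert_of_notMem (by simp [a1.symm, H.y2, Ne.symm H.y2, a2.symm, hno.1.symm]) (Set.toFinite _),
    Set.ncard_insert_of_notMem (by simp [H.c_ne_y.symm, a4, hno.2.1.symm]) (Set.toFinite _),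
    Set.ncard_insert_of_notMem (by simp [a3, hno.2.2.1.symm]) (Set.toFinite _),
    Set.ncard_pair hno.2.2.2.symm, ← Nat.card_coe_set_eq] at h
  have h' : 5 ≤ Nat.card ↥⁅(S : Subgroup G), (S : Subgroup G)⁆ := h
  have := H.der
  omega

theorem dmem_zpowers {v : G} (hv : v ∈ ⁅(S : Subgroup G), (S : Subgroup G)⁆) : v ∈ zpowers y := by
  rcases H.dmem hv with e | e | e | e <;> rw [e]
  exacts [one_mem _, mem_zpowers y, mul_mem (mem_zpowers y) (mem_zpowers y),
    mul_mem (mem_zpowers y) (mul_mem (mem_zpowers y) (mem_zpowers y))]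

theorem conj_y {g : G} (hg : g ∈ normalizer ((S : Subgroup G) : Set G)) :
    g * y * g⁻¹ = y ∨ g * y * g⁻¹ = y * (y * y) := by
  have hsq : g * y * g⁻¹ * (g * y * g⁻¹) ≠ 1 := fun e => H.y2 (by
    rwa [show g * y * g⁻¹ * (g * y * g⁻¹) = g * (y * y) * g⁻¹ by group, conj_eq_one_iff] at e)
  rcases H.dmem (H.toHyp.conj_mem_der hg H.yD) with e | e | e | e
  · rw [e, one_mul] at hsq; exact absurd rfl hsq
  · exact Or.inl e
  · rw [e] at hsq; exact absurd H.y4 hsq
  · exact Or.inr e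

theorem conj_c {g : G} (hg : g ∈ normalizer ((S : Subgroup G) : Set G)) : g * (y * y) * g⁻¹ = y * y := by
  rw [show g * (y * y) * g⁻¹ = g * y * g⁻¹ * (g * y * g⁻¹) by group]
  rcases H.conj_y hg with e | e <;> rw [e]
  rw [← H.y_inv, ← mul_inv_rev]
  exact inv_eq_of_mul_eq_one_right H.y4

theorem c_comm {s : G} (hs : s ∈ (S : Subgroup G)) : Commute s (y * y) :=
  mul_inv_eq_iff_eq_mul.1 (H.conj_c (le_normalizer hs))

theorem c_mem (K : Cand S Q) : y * y ∈ Q :=
  K.self (mul_mem H.yS H.yS) fun q hq => (H.c_comm (K.le hq)).symm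

/-- An elementary subgroup of order eight which can be a site and is normalized by a subgroup of index two. -/
structure E8 (S : Sylow 2 G) (E : Subgroup G) : Prop where
  cand : Cand S E
  card : Nat.card E = 8
  sq : ∀ e ∈ E, e * e = 1
  norm : Nat.card ↥((S : Subgroup G) ⊓ normalizer (E : Set G)) = 16

theorem conj_mem_step {v : G} (hv : v ∈ (S : Subgroup G)) :
    y * v * y⁻¹ = v ∨ y * v * y⁻¹ = v * (y * y) := by
  rcases H.conj_y (le_normalizer hv) with e | e
  · left
    rw [show y * v = v * y from (mul_inv_eq_iff_eq_mul.1 e).symm, mul_inv_cancel_right]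
  · right
    have h := mul_inv_eq_iff_eq_mul.1 e
    calc y * v * y⁻¹ = (y * y)⁻¹ * (y * (y * y) * v) * y⁻¹ * 1 := by
          rw [(Commute.refl y).mul_right (Commute.refl y) |>.eq]; group
      _ = (y * y)⁻¹ * (v * y) * y⁻¹ := by rw [← h, mul_one]
      _ = v * (y * y) := by
        rw [inv_eq_of_mul_eq_one_right H.y4, ← mul_assoc, ← (H.c_comm hv).eq]; group

theorem moves_eight {E : Subgroup G} (hE : E8 S E) :
    ∃ w ∈ E, ∀ D : Subgroup G, y ∈ D → w ∈ D →
      ∀ α ∈ (groupFusionSystem (S : Subgroup G)).autGroup E, ∀ x : E, (x : G)⁻¹ * ((α x : E) : G) ∈ D := by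
  have hmoved : ∃ v ∈ E, y * v * y⁻¹ ≠ v := by
    by_contra hno
    push Not at hno
    exact H.y2 (hE.sq y (hE.cand.self H.yS fun q hq => mul_inv_eq_iff_eq_mul.1 (hno q hq)))
  obtain ⟨w, hw, h⟩ := hE.cand.moves hE.card hE.sq hE.norm H.yS (H.c_mem hE.cand) H.y2
    (fun v hv => H.conj_mem_step (hE.cand.le hv)) hmoved
  exact ⟨w, hw, fun D hy hwD => h D (mul_mem hy hy) hwD⟩

/-- The automorphisms at a site of order sixteen with a bad one fix `y ^ 2` and move inside `⟨y, w⟩`. -/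
theorem site16 (B : Bad S Φ Q) (h16 : Nat.card Q = 16) :
    (∀ q ∈ Q, q * q = 1 ∨ q * q = y * y) ∧
      (∀ α ∈ (groupFusionSystem (S : Subgroup G)).autGroup Q, ∀ x : Q, (x : G) = y * y → ((α x : Q) : G) = y * y) ∧
      ∃ w ∈ Q, w * w = y * y ∧ y * w * (y * w) = y * y ∧
        ∀ D : Subgroup G, y ∈ D → w ∈ D →
          ∀ α ∈ (groupFusionSystem (S : Subgroup G)).autGroup Q, ∀ x : Q, (x : G)⁻¹ * ((α x : Q) : G) ∈ D := by
  classical
  haveI : Fact (Nat.Prime 2) := ⟨Nat.prime_two⟩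
  have hp : IsPGroup 2 Q := S.2.to_le B.le
  have hDQ := H.toHyp.der_le_half B.le h16
  set A := (groupFusionSystem (S : Subgroup G)).autGroup Q with hA
  set N := frattini Q with hN
  haveI : N.Normal := by rw [hN]; infer_instance
  set Y : Q := ⟨y, hDQ H.yD⟩ with hY
  set Cc : Q := Y * Y with hCc
  have hCc1 : Cc ≠ 1 := fun e => H.y2 (congrArg Subtype.val e)
  have hsqN : ∀ q : Q, q * q ∈ N := fun q => by
    rw [← pow_two]; exact Cfsg.Lib.PGroups.pow_mem_frattini hp q
  haveI hVc : IsMulCommutative (Q ⧸ N) := Cfsg.Lib.PGroups.isMulCommutative_quotient_frattini hp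
  have hV : ∀ v : Q ⧸ N, v * v = 1 := fun v => by
    rw [← pow_two]; exact Cfsg.Lib.PGroups.pow_prime_quotient_frattini hp v
  have hmem2 : ∀ (P : Subgroup Q) (a : Q), a ∈ P → a ≠ 1 → 2 ≤ Nat.card P := fun P a ha ha1 => by
    haveI : Nontrivial P := ⟨⟨a, ha⟩, 1, fun e => ha1 (congrArg Subtype.val e)⟩
    exact Finite.one_lt_card
  have hN2 : 2 ≤ Nat.card N := hmem2 N Cc (hsqN Y) hCc1
  have hNV : Nat.card N * Nat.card (Q ⧸ N) = 16 := by
    rw [← Subgroup.index_eq_card, N.card_mul_index, h16]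
  have hV8 : Nat.card (Q ⧸ N) ≤ 8 := by
    by_contra hh
    have := Nat.mul_le_mul hN2 (show 9 ≤ Nat.card (Q ⧸ N) by omega)
    omega
  have hchar : ∀ (α : MulAut Q), N.map α.toMonoidHom = N := fun α =>
    characteristic_iff_map_eq.1 (by rw [hN]; infer_instance) α
  let res : MulAut Q →* MulAut (Q ⧸ N) :=
    MonoidHom.mk' (fun α => QuotientGroup.congr N N α (hchar α)) fun α β => MulEquiv.ext fun v => by
      induction v using QuotientGroup.induction_on
      rfl
  have hres : ∀ (α : MulAut Q) (x : Q), res α (x : Q ⧸ N) = ((α x : Q) : Q ⧸ N) := fun α x => rfl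
  have hker : IsPGroup 2 res.ker := by
    obtain ⟨n, hn⟩ := IsPGroup.iff_card.1 hp
    obtain ⟨r, hr⟩ := hp.index N
    obtain ⟨j, -, hj⟩ := (Nat.dvd_prime_pow Nat.prime_two).1
      (Cfsg.Lib.PGroups.card_stabilizing_dvd hn hr res.ker fun α hα x => by
        have h : ((α x : Q) : Q ⧸ N) = x := by rw [← hres, MonoidHom.mem_ker.1 hα]; rfl
        rw [← div_eq_mul_inv, ← QuotientGroup.eq_iff_div_mem]; exact h)
    exact IsPGroup.of_card hj
  have hcomap : ∀ L : Subgroup (MulAut (Q ⧸ N)), IsPGroup 2 L → IsPGroup 2 (A ⊓ L.comap res : Subgroup (MulAut Q)) :=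
    fun L hL => (hL.comap_of_ker_isPGroup res hker).to_le inf_le_right
  have hinn : ∀ β ∈ Inn Q, res β = 1 := by
    rintro _ ⟨q, rfl⟩
    refine MulEquiv.ext fun v => ?_
    induction v using QuotientGroup.induction_on with
    | H x =>
      rw [hres]
      show ((q * x * q⁻¹ : Q) : Q ⧸ N) = x
      rw [QuotientGroup.mk_mul, QuotientGroup.mk_mul, QuotientGroup.mk_inv, cm hV (q : Q ⧸ N) x,
        mul_inv_cancel_right]
  obtain ⟨β₀, hβ₀, hβ₀I⟩ := B.noninner
  obtain ⟨g₀, hg₀, hge₀⟩ := mem_autInducedBy.1 hβ₀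
  have hg₀Q : g₀ ∉ Q := fun h => hβ₀I ⟨⟨g₀, h⟩, MulEquiv.ext fun x => Subtype.ext (hge₀ x).symm⟩
  set t := res β₀ with ht
  have hPres : ∀ β ∈ autInducedBy (S : Subgroup G) Q, res β = 1 ∨ res β = t := by
    intro β hβ
    obtain ⟨g, hg, hge⟩ := mem_autInducedBy.1 hβ
    by_cases hgQ : g ∈ Q
    · exact Or.inl (hinn β ⟨⟨g, hgQ⟩, MulEquiv.ext fun x => Subtype.ext (hge x).symm⟩)
    right
    have hd : ((⟨g₀, hg₀⟩ : (S : Subgroup G))⁻¹ * ⟨g, hg⟩) ∈ Q.subgroupOf (S : Subgroup G) :=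
      (mul_mem_iff_of_index_two (H.toHyp.index_two B.le h16)).2
        ⟨fun h => absurd (mem_subgroupOf.1 ((inv_mem_iff).1 h)) hg₀Q, fun h => absurd (mem_subgroupOf.1 h) hgQ⟩
    have he : β = β₀ * MulAut.conj (⟨g₀⁻¹ * g, mem_subgroupOf.1 hd⟩ : Q) := MulEquiv.ext fun x => Subtype.ext (by
      show ((β x : Q) : G) = ((β₀ (⟨g₀⁻¹ * g, mem_subgroupOf.1 hd⟩ * x * (⟨g₀⁻¹ * g, mem_subgroupOf.1 hd⟩ : Q)⁻¹) : Q) : G)
      rw [hge, hge₀]
      simp only [Subgroup.coe_mul, InvMemClass.coe_inv]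
      group)
    rw [he, map_mul, hinn _ ⟨_, rfl⟩, mul_one]
  have hy1 : ∀ v ∈ ⁅(S : Subgroup G), (S : Subgroup G)⁆, ∀ hv : v ∈ Q,
      ((⟨v, hv⟩ : Q) : Q ⧸ N) = 1 ∨ ((⟨v, hv⟩ : Q) : Q ⧸ N) = (Y : Q ⧸ N) := by
    intro v hv hvQ
    rcases H.dmem hv with e | e | e | e <;> subst e
    · exact Or.inl rfl
    · exact Or.inr rfl
    · exact Or.inl ((QuotientGroup.eq_one_iff _).2 (hsqN Y))
    · right
      show ((Y * (Y * Y) : Q) : Q ⧸ N) = Y
      rw [QuotientGroup.mk_mul, (QuotientGroup.eq_one_iff _).2 (hsqN Y), mul_one]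
  -- the transvection
  have hPnot : ¬ ∀ β ∈ autInducedBy (S : Subgroup G) Q, res β = 1 := fun hall => by
    refine hβ₀I (B.rad (A ⊓ (⊥ : Subgroup (MulAut (Q ⧸ N))).comap res) inf_le_left
      (hcomap ⊥ IsPGroup.of_bot) (fun α hα β hβ => ⟨mul_mem (mul_mem hα hβ.1) (Subgroup.inv_mem _ hα), ?_⟩)
      ⟨autInducedBy_le B.le hβ₀, hall β₀ hβ₀⟩)
    have h : res β = 1 := mem_bot.1 hβ.2
    show res (α * β * α⁻¹) ∈ (⊥ : Subgroup (MulAut (Q ⧸ N)))
    rw [mem_bot, map_mul, map_mul, h, mul_one, map_inv, mul_inv_cancel]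
  have ht1 : t ≠ 1 := fun e => hPnot fun β hβ => (hPres β hβ).elim id fun h => h.trans e
  have hstep : ∀ v : Q ⧸ N, t v = v ∨ t v = v * (Y : Q ⧸ N) := by
    intro v
    induction v using QuotientGroup.induction_on with
    | H x =>
      have hd : ((β₀ x * x⁻¹ : Q) : G) ∈ ⁅(S : Subgroup G), (S : Subgroup G)⁆ := by
        rw [Subgroup.coe_mul, InvMemClass.coe_inv, hge₀]
        exact H.toHyp.comm_mem hg₀ (B.le x.2)
      rw [ht, hres]
      rcases hy1 _ hd (β₀ x * x⁻¹ : Q).2 with e | e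
      · left
        rw [Subtype.coe_eta, QuotientGroup.mk_mul, QuotientGroup.mk_inv, mul_inv_eq_one] at e
        exact e
      · right
        rw [Subtype.coe_eta, QuotientGroup.mk_mul, QuotientGroup.mk_inv, mul_inv_eq_iff_eq_mul] at e
        rw [e, cm hV]
  have htv : Tv t (Y : Q ⧸ N) := by
    obtain ⟨v, hv⟩ : ∃ v, t v ≠ v := by
      by_contra hno
      push Not at hno
      exact ht1 (MulEquiv.ext hno)
    refine ⟨fun e => hv ?_, hstep, v, hv⟩
    rcases hstep v with h | h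
    · exact h
    · rw [h, e, mul_one]
  set X := A.map res with hX
  have h4 : ¬ 4 ∣ Nat.card X := by
    intro hd
    obtain ⟨L, hL⟩ := Sylow.exists_subgroup_card_pow_prime 2 (show 2 ^ 2 ∣ Nat.card X from hd)
    set L' := L.map X.subtype
    have hL' : Nat.card L' = 4 := by rw [Subgroup.card_map_of_injective X.subtype_injective, hL]; norm_num
    obtain ⟨χ, -, hχ⟩ := exists_conj_into_autS (fullyNormalized_props S.2 (saturated_group S) B.full).2.1
      (hcomap L' (IsPGroup.of_card (n := 2) (by rw [hL']; norm_num))) inf_le_left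
    have hsub : ((L'.map (MulAut.conj (res χ)).toMonoidHom : Subgroup (MulAut (Q ⧸ N))) : Set (MulAut (Q ⧸ N))) ⊆
        {1, t} := by
      rintro _ ⟨l, hl, rfl⟩
      obtain ⟨α, hα, rfl⟩ := (map_subtype_le L hl : l ∈ X)
      have := hPres _ (hχ α ⟨hα, hl⟩)
      rw [map_mul, map_mul, map_inv] at this
      exact this
    have h := Set.ncard_le_ncard hsub (Set.toFinite _)
    rw [← Nat.card_coe_set_eq] at h
    have h' : Nat.card (L'.map (MulAut.conj (res χ)).toMonoidHom) ≤ 2 :=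
      h.trans ((Set.ncard_insert_le _ _).trans (by rw [Set.ncard_singleton]))
    rw [Subgroup.card_map_of_injective (MulAut.conj (res χ)).injective, hL'] at h'
    omega
  obtain ⟨b, hall, hpair, hmoves⟩ := moves_of_not_four hV hV8 h4 htv ⟨β₀, autInducedBy_le B.le hβ₀, rfl⟩
  have hb : b ≠ (Y : Q ⧸ N) := fun e => by
    refine hβ₀I (B.rad (A ⊓ (zpowers t).comap res) inf_le_left (hcomap _ (IsPGroup.of_card (n := 1) (by
      rw [Nat.card_zpowers, htv.order hV, pow_one]))) (fun α hα β hβ =>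
        ⟨mul_mem (mul_mem hα hβ.1) (Subgroup.inv_mem _ hα), ?_⟩) ⟨autInducedBy_le B.le hβ₀, mem_zpowers t⟩)
    show res (α * β * α⁻¹) ∈ zpowers t
    obtain ⟨i, hi⟩ := mem_zpowers_iff.1 (show res β ∈ zpowers t from hβ.2)
    rw [map_mul, map_mul, map_inv, ← hi, ← conj_zpow, hall e _ ⟨α, hα, rfl⟩]
    exact zpow_mem (mem_zpowers t) i
  obtain ⟨htb, _, ⟨α₁, hα₁, rfl⟩, hα₁b⟩ := hpair hb
  set W : Q := α₁ Y with hW
  have hWb : (W : Q ⧸ N) = b := by rw [← hα₁b]; rfl
  -- the Frattini subgroup has order two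
  have hN' : Nat.card N = 2 := by
    by_contra hne
    obtain ⟨k, hk⟩ := IsPGroup.iff_card.1 (hp.to_subgroup N)
    have hk2 : 4 ≤ Nat.card N := by
      rw [hk] at hne hN2 ⊢
      rcases k with _ | _ | k
      · norm_num at hN2
      · norm_num at hne
      · rw [show k + 1 + 1 = 2 + k by omega, pow_add]
        exact Nat.le_mul_of_pos_right _ (by positivity)
    have hV4 : Nat.card (Q ⧸ N) ≤ 4 := by
      by_contra hh
      have := Nat.mul_le_mul hk2 (show 5 ≤ Nat.card (Q ⧸ N) by omega)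
      omega
    have hcls : ∀ x : Q, InW (Y : Q ⧸ N) b (x : Q ⧸ N) := by
      intro x
      by_contra hno
      unfold InW at hno
      push Not at hno
      have h := Set.ncard_le_card ({1, (Y : Q ⧸ N), b, (Y : Q ⧸ N) * b, (x : Q ⧸ N)} : Set (Q ⧸ N))
      have a1 : b ≠ 1 := fun e => htv.ne (by rw [e, map_one, one_mul] at htb; exact htb.symm)
      have a2 : (Y : Q ⧸ N) * b ≠ 1 := fun e => hb (by
        rw [eq_inv_of_mul_eq_one_right e, inv_eq_of_mul_eq_one_right (hV _)])
      rw [Set.ncard_insert_of_notMem (by simp [htv.ne.symm, a1.symm, a2.symm, hno.1.symm]) (Set.toFinite _),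
        Set.ncard_insert_of_notMem (by simp [hb.symm, a1, hno.2.1.symm]) (Set.toFinite _),
        Set.ncard_insert_of_notMem (by simp [htv.ne, hno.2.2.1.symm]) (Set.toFinite _),
        Set.ncard_pair hno.2.2.2.symm] at h
      omega
    set K0 := zpowers Y ⊔ zpowers W with hK0
    have htop : K0 = ⊤ := frattini_nongenerating (top_le_iff.1 fun x _ => by
      have key : ∀ v ∈ K0, (v : Q ⧸ N) = (x : Q ⧸ N) → x ∈ K0 ⊔ frattini Q := fun v hv e => by
        rw [show x = v * (v⁻¹ * x) by group]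
        exact mul_mem (mem_sup_left hv) (mem_sup_right (QuotientGroup.eq.1 e))
      have hYK : Y ∈ K0 := mem_sup_left (mem_zpowers Y)
      have hWK : W ∈ K0 := mem_sup_right (mem_zpowers W)
      rcases hcls x with e | e | e | e
      · exact key 1 (one_mem _) e.symm
      · exact key Y hYK e.symm
      · exact key W hWK (hWb.trans e.symm)
      · exact key (Y * W) (mul_mem hYK hWK) (by rw [QuotientGroup.mk_mul, hWb, e]))
    have hY4 : orderOf Y = 2 ^ 2 := orderOf_eq_prime_pow (by rw [pow_one, pow_two]; exact hCc1)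
      (by rw [show (2 : ℕ) ^ 2 = 2 + 2 by norm_num, pow_add, pow_two]; exact Subtype.ext H.y4)
    have hW4 : orderOf W = 2 ^ 2 := by rw [hW, MulEquiv.orderOf_eq, hY4]
    have hYn : ∀ q : Q, q * Y * q⁻¹ ∈ zpowers Y := fun q => by
      rcases H.conj_y (le_normalizer (B.le q.2)) with e | e
      · rw [show q * Y * q⁻¹ = Y from Subtype.ext e]; exact mem_zpowers Y
      · rw [show q * Y * q⁻¹ = Y * (Y * Y) from Subtype.ext e]
        exact mul_mem (mem_zpowers Y) (mul_mem (mem_zpowers Y) (mem_zpowers Y))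
    have hWn : ∀ q : Q, q * W * q⁻¹ ∈ zpowers W := fun q => by
      obtain ⟨i, hi⟩ := mem_zpowers_iff.1 (hYn (α₁⁻¹ q))
      refine mem_zpowers_iff.2 ⟨i, ?_⟩
      have h := congrArg α₁ hi
      rwa [map_zpow, map_mul, map_mul, map_inv, MulAut.apply_inv_self] at h
    have hnorm : zpowers W ≤ normalizer (zpowers Y : Set Q) := zpowers_le.2
      (mem_normalizer_of_maps_finite fun v hv => by
        obtain ⟨i, rfl⟩ := mem_zpowers_iff.1 hv
        rw [← conj_zpow]; exact zpow_mem (hYn W) i)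
    have hc := Cfsg.Lib.Coprime.card_sup_mul_card_inf hnorm
    rw [← hK0, htop, card_top, h16, Nat.card_zpowers, Nat.card_zpowers, hY4, hW4] at hc
    have hinf : zpowers Y ⊓ zpowers W = ⊥ := by
      refine Subgroup.card_eq_one.1 ?_
      rw [inf_comm] at hc ⊢
      omega
    have hcom : Commute Y W := by
      have h1 : Y * W * Y⁻¹ * W⁻¹ ∈ zpowers Y := by
        rw [show Y * W * Y⁻¹ * W⁻¹ = Y * (W * Y * W⁻¹)⁻¹ by group]
        exact mul_mem (mem_zpowers Y) (inv_mem (hYn W))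
      have h2 : Y * W * Y⁻¹ * W⁻¹ ∈ zpowers W := mul_mem (hWn Y) (inv_mem (mem_zpowers W))
      have h3 : Y * W * Y⁻¹ * W⁻¹ ∈ zpowers Y ⊓ zpowers W := ⟨h1, h2⟩
      rw [hinf, mem_bot] at h3
      exact mul_inv_eq_iff_eq_mul.1 (mul_inv_eq_one.1 h3)
    have hgen : ∀ x : Q, ∃ i j : ℤ, x = Y ^ i * W ^ j := fun x => by
      have hx : x ∈ zpowers Y ⊔ zpowers W := by rw [← hK0, htop]; exact mem_top x
      obtain ⟨_, ⟨i, rfl⟩, _, ⟨j, rfl⟩, rfl⟩ := Set.mem_mul.1
        (show x ∈ (zpowers Y : Set Q) * (zpowers W : Set Q) by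
          rw [← coe_mul_of_right_le_normalizer_left _ _ hnorm]; exact hx)
      exact ⟨i, j, rfl⟩
    have habel : ∀ a b : Q, Commute a b := by
      intro a b
      obtain ⟨i, j, rfl⟩ := hgen a
      obtain ⟨k, l, rfl⟩ := hgen b
      exact (((Commute.refl Y).zpow_zpow i k).mul_right (hcom.zpow_zpow i l)).mul_left
        ((hcom.symm.zpow_zpow j k).mul_right ((Commute.refl W).zpow_zpow j l))
    have hinvol : ∀ x : Q, x * x = 1 → x = 1 ∨ x = Y * Y ∨ x = W * W ∨ x = Y * Y * (W * W) := by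
      intro x hx
      obtain ⟨i, j, rfl⟩ := hgen x
      rw [(habel (W ^ j) (Y ^ i)).mul_mul_mul_comm, ← zpow_add, ← zpow_add, mul_eq_one_iff_eq_inv] at hx
      have h1 : Y ^ (i + i) ∈ zpowers Y ⊓ zpowers W :=
        ⟨zpow_mem (mem_zpowers Y) _, hx ▸ Subgroup.inv_mem _ (zpow_mem (mem_zpowers W) _)⟩
      rw [hinf, mem_bot] at h1
      have h2 : W ^ (j + j) = 1 := inv_injective (by rw [← hx, h1, inv_one])
      have e2 : ∀ (Z : Q) (k : ℤ), orderOf Z = 2 ^ 2 → Z ^ (k + k) = 1 → Z ^ k = 1 ∨ Z ^ k = Z * Z := by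
        intro Z k hZ hk
        rw [← orderOf_dvd_iff_zpow_eq_one, hZ] at hk
        have h4 : Z ^ (4 : ℤ) = 1 := by
          rw [← orderOf_dvd_iff_zpow_eq_one, hZ]; norm_num
        obtain ⟨l, hl⟩ : (2 : ℤ) ∣ k := by norm_num at hk; omega
        rcases Int.even_or_odd l with ⟨r, rfl⟩ | ⟨r, rfl⟩
        · left
          rw [hl, show 2 * (r + r) = 4 * r by ring, zpow_mul, h4, one_zpow]
        · right
          rw [hl, show 2 * (2 * r + 1) = 4 * r + 2 by ring, zpow_add, zpow_mul, h4, one_zpow, one_mul, zpow_two]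
      rcases e2 Y i hY4 h1 with u | u <;> rcases e2 W j hW4 h2 with v | v <;> rw [u, v]
      · exact Or.inl (one_mul 1)
      · exact Or.inr (Or.inr (Or.inl (one_mul _)))
      · exact Or.inr (Or.inl (mul_one _))
      · exact Or.inr (Or.inr (Or.inr rfl))
    have hinvN : ∀ x : Q, x * x = 1 → x ∈ N := fun x hx => by
      rcases hinvol x hx with e | e | e | e <;> rw [e]
      exacts [one_mem N, hsqN Y, hsqN W, mul_mem (hsqN Y) (hsqN W)]
    obtain ⟨E, hES, hE8, hE⟩ := H.rank
    set I := (E ⊓ Q).subgroupOf Q with hI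
    have hIsub : (I : Set Q) ⊆ {1, Y * Y, W * W, Y * Y * (W * W)} := fun x hx =>
      hinvol x (Subtype.ext (hE _ (mem_subgroupOf.1 hx).1))
    have hI4 : 4 ≤ Nat.card I := by
      rw [hI, Nat.card_congr (subgroupOfEquivOfLe inf_le_right).toEquiv]
      have hi : Q.relIndex (S : Subgroup G) = 2 := H.toHyp.index_two B.le h16
      have h := relIndex_le_of_le_right (H := Q) hES (by rw [hi]; norm_num)
      rw [hi, ← inf_relIndex_right, inf_comm] at h
      have hm := ((E ⊓ Q).subgroupOf E).card_mul_index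
      rw [Nat.card_congr (subgroupOfEquivOfLe inf_le_left).toEquiv, hE8] at hm
      by_contra hlt
      have := Nat.mul_le_mul (show Nat.card ↥(E ⊓ Q) ≤ 3 by omega) (show ((E ⊓ Q).subgroupOf E).index ≤ 2 from h)
      omega
    have hW2I : W * W ∈ I := by
      by_contra hno
      have hsub : (I : Set Q) ⊆ {1, Y * Y, Y * Y * (W * W)} := fun x hx => by
        rcases hIsub hx with e | e | e | e
        · exact Or.inl e
        · exact Or.inr (Or.inl e)
        · exact absurd (e ▸ hx) hno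
        · exact Or.inr (Or.inr e)
      have h := Set.ncard_le_ncard hsub (Set.toFinite _)
      rw [← Nat.card_coe_set_eq] at h
      have h' : Nat.card I ≤ 3 := h.trans ((Set.ncard_insert_le _ _).trans
        (Nat.add_le_add_right ((Set.ncard_insert_le _ _).trans (by rw [Set.ncard_singleton])) 1))
      omega
    obtain ⟨e, he, heQ⟩ : ∃ e ∈ E, e ∉ Q := by
      by_contra hno
      push Not at hno
      have h := Set.ncard_le_ncard hIsub (Set.toFinite _)
      rw [← Nat.card_coe_set_eq] at h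
      have h' : Nat.card I ≤ 4 := h.trans ((Set.ncard_insert_le _ _).trans
        (Nat.add_le_add_right ((Set.ncard_insert_le _ _).trans
          (Nat.add_le_add_right ((Set.ncard_insert_le _ _).trans (by rw [Set.ncard_singleton])) 1)) 1))
      rw [hI, Nat.card_congr (subgroupOfEquivOfLe inf_le_right).toEquiv,
        inf_eq_left.2 (show E ≤ Q from hno), hE8] at h'
      omega
    have heS := hES he
    have hen : e ∈ normalizer (Q : Set G) := H.toHyp.normal_half B.le h16 heS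
    have hte := (hPres _ (conjAut_mem_autInducedBy hen heS)).resolve_left fun h1 => by
      refine ht1 ?_
      obtain hd : ((⟨g₀, hg₀⟩ : (S : Subgroup G))⁻¹ * ⟨e, heS⟩) ∈ Q.subgroupOf (S : Subgroup G) :=
        (mul_mem_iff_of_index_two (H.toHyp.index_two B.le h16)).2
          ⟨fun h => absurd (mem_subgroupOf.1 ((inv_mem_iff).1 h)) hg₀Q, fun h => absurd (mem_subgroupOf.1 h) heQ⟩
      have he' : conjAut Q e hen = β₀ * MulAut.conj (⟨g₀⁻¹ * e, mem_subgroupOf.1 hd⟩ : Q) :=
        MulEquiv.ext fun x => Subtype.ext (by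
          show e * (x : G) * e⁻¹ = ((β₀ (⟨g₀⁻¹ * e, mem_subgroupOf.1 hd⟩ * x *
            (⟨g₀⁻¹ * e, mem_subgroupOf.1 hd⟩ : Q)⁻¹) : Q) : G)
          rw [hge₀]
          simp only [Subgroup.coe_mul, InvMemClass.coe_inv]
          group)
      rwa [he', map_mul, hinn _ ⟨_, rfl⟩, mul_one] at h1
    refine ht1 (hte ▸ MulEquiv.ext fun v => ?_)
    induction v using QuotientGroup.induction_on with
    | H x =>
      rw [hres]
      show ((conjAut Q e hen x : Q) : Q ⧸ N) = x
      set β := conjAut Q e hen with hβ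
      refine ((QuotientGroup.eq).2 (hinvN _ ?_)).symm
      have hfix : β (x * x) = x * x := by
        have hYY : β (Y * Y) = Y * Y := Subtype.ext (H.conj_c (le_normalizer heS))
        have hWW : β (W * W) = W * W := by
          refine Subtype.ext ?_
          have hm : ((W * W : Q) : G) ∈ E := (mem_subgroupOf.1 hW2I).1
          show e * ((W * W : Q) : G) * e⁻¹ = ((W * W : Q) : G)
          rw [show e * ((W * W : Q) : G) = ((W * W : Q) : G) * e from congrArg Subtype.val
            (cm (V := E) (fun v => Subtype.ext (hE v v.2)) ⟨e, he⟩ ⟨_, hm⟩), mul_inv_cancel_right]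
        obtain ⟨i, j, rfl⟩ := hgen x
        rw [(habel (W ^ j) (Y ^ i)).mul_mul_mul_comm, ← ((Commute.refl Y).mul_zpow i),
          ← ((Commute.refl W).mul_zpow j), map_mul, map_zpow, map_zpow, hYY, hWW]
      rw [(habel (β x) x⁻¹).mul_mul_mul_comm, ← map_mul, hfix, ← mul_inv_rev, inv_mul_cancel]
  have hNmem : ∀ x ∈ N, x = 1 ∨ x = Cc := by
    intro x hx
    by_contra hno
    push Not at hno
    have h := Set.ncard_le_ncard (show ({1, Cc, x} : Set Q) ⊆ N from fun v hv => by
      rcases hv with rfl | rfl | rfl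
      exacts [one_mem N, hsqN Y, hx]) (Set.toFinite _)
    rw [Set.ncard_insert_of_notMem (by simp [hCc1.symm, hno.1.symm]) (Set.toFinite _), Set.ncard_pair hno.2.symm,
      ← Nat.card_coe_set_eq] at h
    have h' : 3 ≤ Nat.card N := h
    omega
  have hfixC : ∀ α : MulAut Q, α Cc = Cc := fun α =>
    (hNmem _ ((hchar α).le ⟨Cc, hsqN Y, rfl⟩)).resolve_left fun e => hCc1 (α.injective (e.trans (map_one α).symm))
  refine ⟨fun q hq => ?_, fun α _ x hx => ?_, W, W.2, ?_, ?_, fun D hyD hwD α hα x => ?_⟩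
  · rcases hNmem _ (hsqN ⟨q, hq⟩) with e | e
    · exact Or.inl (congrArg Subtype.val e)
    · exact Or.inr (congrArg Subtype.val e)
  · rw [show x = Cc from Subtype.ext hx, hfixC]; rfl
  · exact congrArg Subtype.val (show W * W = Cc by rw [hW, ← map_mul]; exact hfixC α₁)
  · have hWW : W * W = Cc := by rw [hW, ← map_mul]; exact hfixC α₁
    have h : (β₀ W : Q ⧸ N) = ((W * Y : Q) : Q ⧸ N) := by
      rw [QuotientGroup.mk_mul, hWb, ← htb, ht, ← hWb, hres]
    have hd := hNmem _ (QuotientGroup.eq.1 h.symm)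
    set d := (W * Y)⁻¹ * β₀ W with hd'
    have hdc : Commute (W * Y) d := by
      rcases hd with e | e <;> rw [e]
      · exact Commute.one_right _
      · exact Subtype.ext (H.c_comm (B.le (W * Y).2)).eq
    have hdd : d * d = 1 := by
      rcases hd with e | e <;> rw [e]
      · exact one_mul 1
      · exact Subtype.ext H.y4
    have h2 : W * Y * (W * Y) = Cc := by
      have e : β₀ W = W * Y * d := by rw [hd']; group
      calc W * Y * (W * Y) = W * Y * (W * Y) * (d * d) := by rw [hdd, mul_one]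
        _ = W * Y * d * (W * Y * d) := (hdc.symm.mul_mul_mul_comm _ _).symm
        _ = Cc := by rw [← e, ← map_mul, hWW, hfixC]
    have h3 : Y * W * (Y * W) = Cc := by
      rw [show Y * W * (Y * W) = Y * (W * Y * (W * Y)) * Y⁻¹ by group, h2, hCc]; group
    exact congrArg Subtype.val h3
  · have h := hmoves (res α) ⟨α, hα, rfl⟩ (x : Q ⧸ N)
    rw [hres, ← inv_eq_of_mul_eq_one_right (hV (x : Q ⧸ N)), ← QuotientGroup.mk_inv, ← QuotientGroup.mk_mul] at h
    have hNc : ∀ z : Q, z ∈ N → (z : G) ∈ D := fun z hz => by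
      rcases hNmem z hz with e | e <;> rw [e]
      · exact one_mem D
      · exact mul_mem hyD hyD
    have key : ∀ v : Q, (v : G) ∈ D → (v : Q ⧸ N) = ((x⁻¹ * α x : Q) : Q ⧸ N) → (x : G)⁻¹ * ((α x : Q) : G) ∈ D :=
      fun v hv e => by
      have := mul_mem hv (hNc _ (QuotientGroup.eq.1 e))
      simpa using this
    rcases h with e | e | e | e
    · exact key 1 (one_mem D) e.symm
    · exact key Y hyD e.symm
    · exact key W hwD (hWb.trans e.symm)
    · exact key (Y * W) (mul_mem hyD hwD) (by rw [QuotientGroup.mk_mul, hWb, e])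

end Cyc

end Cfsg.Lib.LenSeven
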