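import Mathlib

/-!
The arithmetic of the two counts for a centralizer `SL(2, p)` extended by an involution.
-/

set_option autoImplicit false

namespace Cfsg.Lib.LenSeven

theorem gcd_split (x t : ℤ) (ht : t ≠ 0) :
    ∃ g x₁ t₁ : ℤ, x = g * x₁ ∧ t = g * t₁ ∧ IsCoprime x₁ t₁ := by
  obtain ⟨g, x₁, t₁, hg, hc, e1, e2⟩ := Int.exists_gcd_one' (Int.gcd_pos_of_ne_zero_right x ht)
  exact ⟨(g : ℤ), x₁, t₁, by rw [e1]; ring, by rw [e2]; ring, Int.isCoprime_iff_gcd_eq_one.2 hc⟩

theorem sq_dvd_cancel {n A B : ℤ} (hc : IsCoprime n B) (h : n ^ 2 ∣ A ^ 2 * B) : n ∣ A :=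
  (Int.pow_dvd_pow_iff two_ne_zero).1 ((hc.pow_left (m := 2)).dvd_of_dvd_mul_right h)

theorem natAbs_divisor {n a : ℤ} (ha : a.natAbs.Prime) (h : n ∣ 4 * a) :
    n.natAbs ∈ ({1, 2, 4, a.natAbs, 2 * a.natAbs, 4 * a.natAbs} : Finset ℕ) := by
  have h' : n.natAbs ∣ 4 * a.natAbs := by
    have := Int.natAbs_dvd_natAbs.2 h
    rwa [Int.natAbs_mul] at this
  obtain ⟨d₁, d₂, h1, h2, e⟩ := exists_dvd_and_dvd_of_dvd_mul h'
  rcases (Nat.dvd_prime ha).1 h2 with rfl | rfl
  all_goals
    have := Nat.le_of_dvd (by norm_num) h1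
    interval_cases d₁ <;> simp_all

/-- The index is a multiple of `a ^ 2` or of `p ^ 2`, or is the exceptional value. -/
theorem index_cases {Q f g idx a : ℤ} (hQ : Prime Q) (hS : Q + 1 = 4 * a) (ha : a.natAbs.Prime) (ha2 : a.natAbs ≠ 2)
    (hf : Even f) (hf0 : f ≠ 0) (hg : (Q ^ 2 - 1 - f) * g = Q ^ 2 * f) (hidx : Odd idx)
    (hord : idx * (f - Q + 1) ^ 2 = Q * (Q + 1) * (Q ^ 2 - 1) * (f * (f + 1))) :
    a ^ 2 ∣ idx ∨ Q ^ 2 ∣ idx ∨ idx = Q * (Q + 2) * (Q ^ 2 + Q - 1) := by
  have ha3 : 3 ≤ a.natAbs := by have := ha.two_le; omega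
  obtain ⟨j, hj⟩ : Odd a := by
    have := ha.odd_of_ne_two ha2
    exact Int.natAbs_odd.1 this
  have hT0 : Q - 1 ≠ 0 := by omega
  have hQ0 : Q ≠ 0 := by omega
  by_cases hx : Q ∣ f + 1
  · obtain ⟨x, hx⟩ := hx
    set n := x - 1 with hn
    set y := Q - x with hy
    have hD : Q ^ 2 - 1 - f = Q * y := by rw [hy]; linear_combination -hx
    have hord' : idx * n ^ 2 = (Q + 1) ^ 2 * (Q - 1) * (Q * x - 1) * x := by
      refine mul_left_cancel₀ (pow_ne_zero 2 hQ0) ?_
      have e1 : f - Q + 1 = Q * n := by rw [hn]; linear_combination hx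
      have e2 : f = Q * x - 1 := by linear_combination hx
      rw [e1, hx, e2] at hord
      linear_combination hord
    obtain ⟨c, n₁, T₁, en, eT, hcop⟩ := gcd_split n (Q - 1) hT0
    have hc0 : c ≠ 0 := fun h => hT0 (by rw [eT, h, zero_mul])
    set y₁ := T₁ - n₁ with hy1
    have ey : y = c * y₁ := by rw [hy, hy1]; linear_combination eT - en + hn
    have hxn : x = c * n₁ + 1 := by linear_combination en - hn
    have hfx : Q * x - 1 = c * (Q * n₁ + T₁) := by rw [hxn]; linear_combination eT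
    have hmain : idx * n₁ ^ 2 = (Q + 1) ^ 2 * (T₁ * (Q * n₁ + T₁) * x) := by
      refine mul_left_cancel₀ (pow_ne_zero 2 hc0) ?_
      have e : idx * (c * n₁) ^ 2 = (Q + 1) ^ 2 * (c * T₁) * (c * (Q * n₁ + T₁)) * x := by
        rw [← en, ← eT, ← hfx]; exact hord'
      linear_combination e
    have hxodd : Odd x := by
      obtain ⟨k, hk⟩ := hf
      rcases Int.even_or_odd x with ⟨i, hi⟩ | h
      · exfalso
        rw [hi, mul_add] at hx
        omega
      · exact h
    have hneven : (2 : ℤ) ∣ n := by obtain ⟨i, hi⟩ := hxodd; exact ⟨i, by rw [hn, hi]; ring⟩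
    have hT2 : Q - 1 = 2 * (4 * j + 1) := by rw [hj] at hS; linear_combination hS
    have hT1odd : Odd T₁ := by
      rcases Int.even_or_odd T₁ with ⟨i, hi⟩ | h
      · exfalso
        have hc' : Odd c := by
          rcases Int.even_or_odd c with ⟨k, hk⟩ | h
          · exfalso
            rw [hk, hi, show (k + k) * (i + i) = 4 * (k * i) by ring] at eT
            omega
          · exact h
        have hn2 : (2 : ℤ) ∣ n₁ := by
          rw [en] at hneven
          rcases Int.prime_two.dvd_or_dvd hneven with h | h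
          · exact absurd (even_iff_two_dvd.2 h) (Int.not_even_iff_odd.2 hc')
          · exact h
        exact absurd (Int.isUnit_iff.1 (hcop.isUnit_of_dvd' hn2 ⟨i, by rw [hi]; ring⟩)) (by norm_num)
      · exact h
    have hn1S : n₁ ∣ Q + 1 := by
      refine sq_dvd_cancel (A := Q + 1) (B := T₁ * (Q * n₁ + T₁) * x) ((hcop.mul_right ?_).mul_right ?_)
        ⟨idx, by linear_combination -hmain⟩
      · have := hcop.add_mul_left_right Q
        rwa [add_comm, mul_comm n₁] at this
      · rw [hxn, mul_comm c]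
        exact isCoprime_one_right.mul_add_left_right c
    obtain ⟨b, hb⟩ := hn1S
    have hbodd : ¬ (2 : ℤ) ∣ b := fun h2 => by
      obtain ⟨b', rfl⟩ := h2
      have hn0 : n₁ ≠ 0 := fun h => by rw [h, zero_mul] at hb; omega
      have e : idx = 4 * (b' ^ 2 * (T₁ * (Q * n₁ + T₁) * x)) := by
        refine mul_right_cancel₀ (pow_ne_zero 2 hn0) ?_
        rw [hmain, hb]; ring
      exact Int.not_even_iff_odd.2 hidx ⟨2 * (b' ^ 2 * (T₁ * (Q * n₁ + T₁) * x)), by rw [e]; ring⟩
    have hn4 : (4 : ℤ) ∣ n₁ := by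
      have h4 : (4 : ℤ) ∣ n₁ * b := ⟨a, by rw [← hb, hS]⟩
      have hc4 : IsCoprime (4 : ℤ) b := by
        have := ((Int.prime_two.coprime_iff_not_dvd).2 hbodd).pow_left (m := 2)
        norm_num at this
        exact this
      exact hc4.dvd_of_dvd_mul_right h4
    obtain ⟨r, rfl⟩ := hn4
    have hr : r * b = a := by linarith [hb, hS]
    have hb2 : idx = b ^ 2 * (T₁ * (Q * (4 * r) + T₁) * x) := by
      have hn0 : (4 * r : ℤ) ≠ 0 := fun h => by rw [h, zero_mul] at hb; omega
      refine mul_right_cancel₀ (pow_ne_zero 2 hn0) ?_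
      rw [hmain, hb]; ring
    rcases (Nat.dvd_prime ha).1 (Int.natAbs_dvd_natAbs.2 ⟨b, hr.symm⟩) with hr1 | hra
    · left
      have : a ^ 2 = b ^ 2 := by
        rcases Int.natAbs_eq_iff.1 hr1 with rfl | rfl <;> simp [← hr]
      exact ⟨_, this ▸ hb2⟩
    -- now `|n₁| = |Q + 1|`
    have hb1 : b = 1 ∨ b = -1 := by
      have h := congrArg Int.natAbs hr
      rw [Int.natAbs_mul, hra] at h
      exact Int.natAbs_eq_iff.1 ((Nat.mul_eq_left (by omega)).1 h)
    have hy1Q : y₁ ∣ Q := by
      have hd : y₁ ∣ Q * ((Q + 1) * T₁) := by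
        have h1 : Q * y * g = Q ^ 2 * f := by rw [← hD]; exact hg
        have e2 : f = Q * x - 1 := by linear_combination hx
        refine Int.dvd_of_mul_dvd_mul_left hc0 ?_
        rw [← ey]
        refine ⟨g + Q * Q, ?_⟩
        have h2 : y * g = Q * (Q * x - 1) := by
          refine mul_left_cancel₀ hQ0 ?_
          rw [← e2]; linear_combination h1
        rw [hy] at h2 ⊢
        linear_combination (Q * (Q + 1)) * eT.symm - h2
      have hcy : IsCoprime y₁ T₁ := by
        have := (hcop.neg_left).add_mul_left_left 1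
        rwa [mul_one, neg_add_eq_sub] at this
      have hcy2 : IsCoprime y₁ (4 * r) := by
        have := (hcop.symm).add_mul_left_left (-1)
        rw [hy1]
        rwa [mul_neg_one, ← sub_eq_add_neg] at this
      rw [← mul_assoc] at hd
      have hd2 := hcy.dvd_of_dvd_mul_right hd
      rw [hb] at hd2
      refine hcy2.dvd_of_dvd_mul_right (hd2.trans ?_)
      exact ⟨b, by rcases hb1 with rfl | rfl <;> ring⟩
    rcases (Int.prime_iff_natAbs_prime.1 hQ).eq_one_or_self_of_dvd _ (Int.natAbs_dvd_natAbs.2 hy1Q) with h1 | hp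
    all_goals
      have hTb : T₁.natAbs * 2 ≤ (Q - 1).natAbs := by
        have hc2 : 2 ≤ c.natAbs := by
          have h0 := Int.natAbs_pos.2 hc0
          by_contra hlt
          have h1' : c.natAbs = 1 := by omega
          obtain ⟨i, hi⟩ := hT1odd
          rcases Int.natAbs_eq_iff.1 h1' with rfl | rfl <;> omega
        rw [eT, Int.natAbs_mul, mul_comm c.natAbs]
        exact Nat.mul_le_mul_left _ hc2
    · exfalso
      rcases Int.natAbs_eq_iff.1 h1 with e | e <;> rcases hb1 with rfl | rfl <;> omega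
    · refine Or.inr (Or.inl ?_)
      have hx2 : x = Q ^ 2 := by
        rcases Int.natAbs_eq_natAbs_iff.1 hp with e | e <;> rcases hb1 with rfl | rfl
        all_goals first
          | (have hT1 : T₁ = 1 := by omega
             subst hT1
             rw [mul_one] at eT
             subst eT
             nlinarith [hxn, hb])
          | (have hT1 : T₁ = -1 := by omega
             subst hT1
             have : c = -(Q - 1) := by linarith
             subst this
             nlinarith [hxn, hb])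
          | omega
      rw [hb2, hx2]
      exact dvd_mul_of_dvd_right (dvd_mul_left _ _) _
  · -- `Q` does not divide `f + 1`
    set D := Q ^ 2 - 1 - f with hD
    have hQD : ¬ Q ∣ D := fun ⟨k, hk⟩ => hx ⟨Q - k, by rw [hD] at hk; linear_combination -hk⟩
    have hDf : D ∣ f := (((hQ.coprime_iff_not_dvd).2 hQD).symm.pow_right (n := 2)).dvd_of_dvd_mul_left
      ⟨g, hg.symm⟩
    obtain ⟨c, D₁, T₁, eD, eT, hcop⟩ := gcd_split D (Q - 1) hT0
    have hc0 : c ≠ 0 := fun h => hT0 (by rw [eT, h, zero_mul])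
    set m₁ := Q * T₁ - D₁ with hm1
    have em : f - Q + 1 = c * m₁ := by rw [hm1]; linear_combination -eD + hD + Q * eT
    have ef : f = c * (m₁ + T₁) := by linear_combination em + eT
    have ef1 : f + 1 = c * m₁ + Q := by linear_combination em
    have hmain : idx * m₁ ^ 2 = (Q + 1) ^ 2 * (Q * T₁ * (m₁ + T₁) * (c * m₁ + Q)) := by
      refine mul_left_cancel₀ (pow_ne_zero 2 hc0) ?_
      have e : idx * (c * m₁) ^ 2 = Q * (Q + 1) * ((Q + 1) * (c * T₁)) * (c * (m₁ + T₁) * (c * m₁ + Q)) := by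
        rw [← ef1, ← em, ← eT, ← ef, hord]; ring
      linear_combination e
    have hD1S : D₁ ∣ Q + 1 := by
      have h : c * D₁ ∣ c * ((Q + 1) * T₁) := by
        rw [← eD]
        obtain ⟨k, hk⟩ := hDf
        exact ⟨k + 1, by rw [hD] at hk ⊢; linear_combination hk - (Q + 1) * eT⟩
      exact hcop.dvd_of_dvd_mul_right (Int.dvd_of_mul_dvd_mul_left hc0 h)
    have hDQ : IsCoprime D₁ Q := ((hQ.coprime_iff_not_dvd).2 fun h => hQD (eD ▸ h.mul_left c)).symm
    have hmT : IsCoprime m₁ T₁ := by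
      have := (hcop.neg_left).add_mul_left_left Q
      rwa [mul_comm T₁, neg_add_eq_sub] at this
    have hmQ : IsCoprime m₁ Q := by
      have := (hDQ.neg_left).add_mul_left_left T₁
      rwa [neg_add_eq_sub] at this
    have hm1S : m₁ ∣ Q + 1 := by
      refine sq_dvd_cancel (A := Q + 1) (B := Q * T₁ * (m₁ + T₁) * (c * m₁ + Q))
        (((hmQ.mul_right hmT).mul_right ?_).mul_right ?_) ⟨idx, by linear_combination -hmain⟩
      · have := hmT.add_mul_left_right 1
        rwa [mul_one, add_comm] at this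
      · have := hmQ.add_mul_left_right c
        rwa [add_comm, mul_comm m₁] at this
    have hT1odd : Odd T₁ := by
      rcases Int.even_or_odd T₁ with ⟨i, hi⟩ | h
      · exfalso
        obtain ⟨k, hk⟩ := hf
        have h2 : (2 : ℤ) ∣ D₁ := by
          have hDe : (2 : ℤ) ∣ c * D₁ := by
            rw [← eD]
            refine ⟨2 * a * (4 * j + 1) * 2 - k, ?_⟩
            rw [hD, hk]
            have e3 : Q - 1 = 2 * (4 * j + 1) := by rw [hj] at hS; linear_combination hS
            linear_combination (Q + 1) * e3 + 2 * (4 * j + 1) * hS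
          rcases Int.prime_two.dvd_or_dvd hDe with ⟨i', hi'⟩ | h
          · rw [hi', hi, show 2 * i' * (i + i) = 4 * (i' * i) by ring] at eT
            omega
          · exact h
        exact absurd (Int.isUnit_iff.1 (hcop.isUnit_of_dvd' h2 ⟨i, by rw [hi]; ring⟩)) (by norm_num)
      · exact h
    have hT1 : T₁ = 1 ∨ T₁ = -1 := by
      obtain ⟨i, hi⟩ := hT1odd
      have b1 := Int.natAbs_le_of_dvd_ne_zero hD1S (by omega)
      have b2 := Int.natAbs_le_of_dvd_ne_zero hm1S (by omega)
      have b3 : Q.natAbs * T₁.natAbs ≤ m₁.natAbs + D₁.natAbs := by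
        rw [← Int.natAbs_mul, show Q * T₁ = m₁ + D₁ by rw [hm1]; ring]
        exact Int.natAbs_add_le _ _
      by_contra hne
      have := Nat.mul_le_mul_left Q.natAbs (show 3 ≤ T₁.natAbs by omega)
      omega
    have d1 := natAbs_divisor ha (hS ▸ hD1S)
    have d2 := natAbs_divisor ha (hS ▸ hm1S)
    simp only [Finset.mem_insert, Finset.mem_singleton] at d1 d2
    refine Or.inr (Or.inr ?_)
    rcases hT1 with rfl | rfl
    · have hD1 : D₁ = -1 := by
        rcases (show D₁ = -1 ∨ D₁ = Q + 1 by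
          rcases d1 with d1 | d1 | d1 | d1 | d1 | d1 <;> rcases d2 with d2 | d2 | d2 | d2 | d2 | d2 <;> omega)
          with h | h
        · exact h
        · exfalso
          refine hf0 ?_
          rw [ef, hm1, h]; ring
      have hm : m₁ = Q + 1 := by rw [hm1, hD1]; ring
      have hc : c = Q - 1 := by linear_combination -eT
      rw [hm, hc] at hmain
      refine mul_left_cancel₀ (pow_ne_zero 2 (show Q + 1 ≠ 0 by omega)) ?_
      linear_combination hmain
    · have hD1 : D₁ = 1 := by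
        rcases (show D₁ = 1 ∨ D₁ = -(Q + 1) by
          rcases d1 with d1 | d1 | d1 | d1 | d1 | d1 <;> rcases d2 with d2 | d2 | d2 | d2 | d2 | d2 <;> omega)
          with h | h
        · exact h
        · exfalso
          refine hf0 ?_
          rw [ef, hm1, h]; ring
      have hm : m₁ = -(Q + 1) := by rw [hm1, hD1]; ring
      have hc : c = 1 - Q := by linear_combination eT
      rw [hm, hc] at hmain
      refine mul_left_cancel₀ (pow_ne_zero 2 (show Q + 1 ≠ 0 by omega)) ?_
      linear_combination hmain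

/-- The case `p = 5`. -/
theorem index_five {f g idx : ℤ} (hf : Even f) (hf0 : f ≠ 0) (hg : (24 - f) * g = 25 * f) (hidx : Odd idx)
    (hord : idx * (f + 6) ^ 2 = 480 * (f * (f + 1))) : idx = 525 ∨ idx = 357 ∨ idx = 285 := by
  have hd : (24 - f) ∣ 600 := ⟨g + 25, by linear_combination -hg⟩
  have hb := Int.natAbs_le_of_dvd_ne_zero hd (by norm_num)
  have key : ∀ i : Fin 1201, ((i : ℕ) : ℤ) - 600 ≠ 0 → (((i : ℕ) : ℤ) - 600) ∣ 600 →
      (24 - (((i : ℕ) : ℤ) - 600)) % 2 = 0 → 24 - (((i : ℕ) : ℤ) - 600) ≠ 0 →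
      (30 - (((i : ℕ) : ℤ) - 600)) ^ 2 ≠ 0 →
      480 * ((24 - (((i : ℕ) : ℤ) - 600)) * (25 - (((i : ℕ) : ℤ) - 600))) % (30 - (((i : ℕ) : ℤ) - 600)) ^ 2 = 0 →
      480 * ((24 - (((i : ℕ) : ℤ) - 600)) * (25 - (((i : ℕ) : ℤ) - 600))) / (30 - (((i : ℕ) : ℤ) - 600)) ^ 2 % 2 = 1 →
      480 * ((24 - (((i : ℕ) : ℤ) - 600)) * (25 - (((i : ℕ) : ℤ) - 600))) / (30 - (((i : ℕ) : ℤ) - 600)) ^ 2 ∈
        ([525, 357, 285] : List ℤ) := by decide +kernel
  have hne : 24 - f ≠ 0 := fun h => by rw [h, zero_mul] at hg; omega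
  have hm : f + 6 ≠ 0 := fun h => by
    have hf6 : f = -6 := by omega
    subst hf6
    norm_num at hord
  obtain ⟨i, hi⟩ : ∃ i : Fin 1201, ((i : ℕ) : ℤ) - 600 = 24 - f :=
    ⟨⟨(24 - f + 600).toNat, by norm_num at hb; omega⟩, by norm_num at hb; simp; omega⟩
  have h := key i
  rw [hi, show 24 - (24 - f) = f by ring, show 25 - (24 - f) = f + 1 by ring, show 30 - (24 - f) = f + 6 by ring,
    ← hord, Int.mul_emod_left, Int.mul_ediv_cancel _ (pow_ne_zero 2 hm)] at h
  have h' := h hne hd (Int.even_iff.1 hf) hf0 (pow_ne_zero 2 hm) rfl (Int.odd_iff.1 hidx)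
  simpa using h'

end Cfsg.Lib.LenSeven
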