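import Cfsg.Agent.LenSeven.QdGeo
import Cfsg.Agent.LenSeven.QdArith
import Cfsg.Agent.SemiCyclic.Count.Main

/-!
What the bound on chains gives for the normalisers of the subgroups of prime order, and the counts.
-/

set_option autoImplicit false
set_option linter.style.haveILetI false
set_option linter.unusedSectionVars false

namespace Cfsg.Lib.LenSeven

open Subgroup
open scoped ArithmeticFunction.Omega
open Cfsg.Lib.SemiCyclic (sgnPrime)

universe u

variable {G : Type u} [Group G] [Finite G] [IsSimpleGroup G]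

theorem normalizer_ne_top (hna : ¬ IsMulCommutative G) {A : Subgroup G} (h : A ≠ ⊥)
    (hs : Group.IsSolvable A) : normalizer (A : Set G) ≠ ⊤ := fun e => by
  haveI : A.Normal := normalizer_eq_top_iff.1 e
  rcases IsSimpleGroup.eq_bot_or_eq_top_of_normal A inferInstance with h' | h'
  · exact h h'
  · haveI := hs
    haveI : Group.IsSolvable G := Group.isSolvable_of_isSolvable_injective
      (f := ((Subgroup.topEquiv.symm).trans (MulEquiv.subgroupCongr h'.symm)).toMonoidHom)
      ((Subgroup.topEquiv.symm).trans (MulEquiv.subgroupCongr h'.symm)).injective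
    exact hna ⟨⟨fun a b => (IsSimpleGroup.comm_iff_isSolvable.2 inferInstance) a b⟩⟩

variable {z : G} {A : Subgroup G} {s k : ℕ}

theorem Local.ne_bot (L : Local z A s k) : A ≠ ⊥ := fun e => by
  have := L.cardA
  rw [e, card_bot] at this
  exact L.prime.one_lt.ne this

theorem Local.solvableA (L : Local z A s k) : Group.IsSolvable A := by
  haveI := Fact.mk L.prime
  haveI : IsCyclic A := isCyclic_of_prime_card L.cardA
  exact Group.isSolvable_of_comm fun a b => (IsCyclic.isMulCommutative (α := A)).is_comm.comm a b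

/-- The number of prime factors of the normaliser is at most six. -/
theorem omega_local (hna : ¬ IsMulCommutative G) (hG : Short G) {K : Subgroup G} (L : Local z A s k)
    (O : LocalOut z A s K) :
    Ω (Nat.card K) + Ω (Nat.card ↥(centralizer ({z} : Set G) ⊓ normalizer (A : Set G))) ≤ 7 := by
  haveI := O.solvable
  have h1 := hG.bound_below (steps_of_solvable (normalizer (A : Set G)))
    (lt_top_iff_ne_top.2 (normalizer_ne_top hna L.ne_bot L.solvableA))
  have h2 := congrArg ArithmeticFunction.cardFactors O.card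
  rw [ArithmeticFunction.cardFactors_mul Nat.card_pos.ne' L.prime.ne_zero,
    ArithmeticFunction.cardFactors_mul Nat.card_pos.ne' Nat.card_pos.ne',
    ArithmeticFunction.cardFactors_apply_prime L.prime] at h2
  omega

/-- A subgroup of order `s ^ 2` in the centralizer of `A`. -/
theorem sq_dvd_local {K : Subgroup G} (L : Local z A s k) (O : LocalOut z A s K) (h2 : s ^ 2 ∣ Nat.card G)
    (hM : ¬ s ^ 2 ∣ Nat.card ↥(centralizer ({z} : Set G) ⊓ normalizer (A : Set G))) : s ^ 2 ∣ Nat.card K := by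
  haveI := Fact.mk L.prime
  obtain ⟨B, hB, hAB⟩ := Sylow.exists_subgroup_card_pow_succ (G := G) (p := s) (n := 1) h2
    (show Nat.card A = s ^ 1 by rw [pow_one, L.cardA])
  have hBN : B ≤ normalizer (A : Set G) := fun b hb => Cfsg.Lib.Fusion.mem_normalizer_of_maps_finite fun a ha => by
    have hc := IsPGroup.commutative_of_card_eq_prime_sq (G := B) (p := s) hB
    have h : b * a = a * b := congrArg Subtype.val (hc ⟨b, hb⟩ ⟨a, hAB ha⟩)
    rw [h, mul_inv_cancel_right]
    exact ha
  have h3 : s ^ 3 ∣ Nat.card K * Nat.card ↥(centralizer ({z} : Set G) ⊓ normalizer (A : Set G)) := by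
    rw [← O.card, pow_succ]
    exact Nat.mul_dvd_mul_right (hB ▸ card_dvd_of_le hBN) s
  by_contra hK
  have hsp := L.prime
  obtain ⟨j, hj⟩ : s ∣ Nat.card K := L.cardA ▸ card_dvd_of_le O.le
  rw [hj, mul_assoc, pow_succ'] at h3
  exact hM ((Nat.Coprime.pow_left 2 ((hsp.coprime_iff_not_dvd).2 fun h => hK (by
    rw [hj, pow_two]; exact Nat.mul_dvd_mul_left s h))).dvd_of_dvd_mul_left
      (Nat.dvd_of_mul_dvd_mul_left hsp.pos h3))

/-- If `s ^ 2` divides the order then `s ^ 3` does not, and the Sylow normaliser has order `s * M`. -/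
theorem local_bound (hna : ¬ IsMulCommutative G) (hG : Short G) (L : Local z A s k)
    (h5 : Ω (Nat.card ↥(centralizer ({z} : Set G) ⊓ normalizer (A : Set G))) = 5)
    (hM : ¬ s ^ 2 ∣ Nat.card ↥(centralizer ({z} : Set G) ⊓ normalizer (A : Set G))) (h2 : s ^ 2 ∣ Nat.card G) :
    ¬ s ^ 3 ∣ Nat.card G ∧ ∃ n, Nat.card G =
      n * (s * Nat.card ↥(centralizer ({z} : Set G) ⊓ normalizer (A : Set G))) ∧ n % s = 1 := by
  classical
  haveI := Fact.mk L.prime
  obtain ⟨K, O⟩ := L.out
  obtain ⟨j, hj⟩ := sq_dvd_local L O h2 hM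
  have hb := omega_local hna hG L O
  rw [h5, hj, ArithmeticFunction.cardFactors_mul (pow_ne_zero 2 L.prime.ne_zero)
    (fun h => by rw [h, mul_zero] at hj; exact Nat.card_pos.ne' hj),
    ArithmeticFunction.cardFactors_apply_prime_pow L.prime] at hb
  have hj1 : j = 1 := by
    rcases ArithmeticFunction.cardFactors_eq_zero_iff_eq_zero_or_one.1 (show Ω j = 0 by omega) with h | h
    · rw [h, mul_zero] at hj; exact absurd hj Nat.card_pos.ne'
    · exact h
  rw [hj1, mul_one] at hj
  set M := Nat.card ↥(centralizer ({z} : Set G) ⊓ normalizer (A : Set G)) with hMdef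
  set N := normalizer (A : Set G) with hN
  have hNc : Nat.card N = s * M := by
    refine Nat.eq_of_mul_eq_mul_right L.prime.pos ?_
    rw [O.card, hj]
    ring
  haveI := O.solvable
  have hKne : K ≠ ⊥ := fun e => by
    rw [e, card_bot] at hj
    have := L.prime.two_le
    nlinarith
  haveI := O.nilpotent
  have hNK : normalizer (K : Set G) = N := by
    refine (eq_or_lt_of_le O.normal).elim Eq.symm fun hlt => ?_
    have h := hG.bound_two (steps_of_solvable N) hlt
      (lt_top_iff_ne_top.2 (normalizer_ne_top hna hKne inferInstance))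
    rw [hNc, ArithmeticFunction.cardFactors_mul L.prime.ne_zero Nat.card_pos.ne',
      ArithmeticFunction.cardFactors_apply_prime L.prime, h5] at h
    omega
  have h3 : ¬ s ^ 3 ∣ Nat.card G := fun h3 => by
    obtain ⟨E, hE, hKE⟩ := Sylow.exists_subgroup_card_pow_succ (G := G) (p := s) (n := 2) h3 hj
    haveI : Group.IsNilpotent E := (IsPGroup.of_card hE).isNilpotent
    have hlt : K.subgroupOf E < ⊤ := lt_top_iff_ne_top.2 fun e => by
      rw [subgroupOf_eq_top] at e
      have h := congrArg (fun H : Subgroup G => Nat.card H) (le_antisymm hKE e)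
      simp only [hj, hE] at h
      have := Nat.pow_right_injective L.prime.two_le h
      omega
    obtain ⟨v, hv, hvn⟩ := SetLike.exists_of_lt ((Group.normalizerCondition_of_isNilpotent (G := E)) _ hlt)
    have hvN : (v : G) ∈ N := hNK ▸ Cfsg.Lib.Fusion.mem_normalizer_of_maps_finite fun w hw => by
      have := (mem_normalizer_iff.1 hv (⟨w, hKE hw⟩ : E)).1 (show (⟨w, hKE hw⟩ : E) ∈ K.subgroupOf E from hw)
      exact this
    -- an `s`-subgroup of `N` has order at most `s ^ 2`
    have hsup : IsPGroup s ↥(K ⊔ zpowers (v : G)) :=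
      (IsPGroup.of_card hE).to_le (sup_le hKE (zpowers_le.2 v.2))
    obtain ⟨i, hi⟩ := IsPGroup.iff_card.1 hsup
    have hd := card_dvd_of_le (show K ⊔ zpowers (v : G) ≤ N from sup_le (hNK ▸ le_normalizer) (zpowers_le.2 hvN))
    rw [hi, hNc] at hd
    have hi2 : i ≤ 2 := by
      by_contra hlt
      have h3' : s * s ^ 2 ∣ s * M := by
        rw [← pow_succ']
        exact (Nat.pow_dvd_pow s (show 3 ≤ i by omega)).trans hd
      exact hM (Nat.dvd_of_mul_dvd_mul_left L.prime.pos h3')
    have : K = K ⊔ zpowers (v : G) := eq_of_le_of_card_ge le_sup_left (by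
      rw [hi, hj]; exact Nat.pow_le_pow_right L.prime.pos hi2)
    exact hvn (mem_subgroupOf.2 (this.ge (mem_sup_right (mem_zpowers _))))
  refine ⟨h3, ?_⟩
  obtain ⟨P, hP⟩ := (IsPGroup.of_card hj).exists_le_sylow
  have hPK : (P : Subgroup G) = K := by
    obtain ⟨i, hi⟩ := IsPGroup.iff_card.1 P.2
    have hi2 : i ≤ 2 := by
      by_contra hlt
      exact h3 ((Nat.pow_dvd_pow s (show 3 ≤ i by omega)).trans (hi ▸ card_subgroup_dvd_card _))
    exact (eq_of_le_of_card_ge hP (by rw [hi, hj]; exact Nat.pow_le_pow_right L.prime.pos hi2)).symm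
  refine ⟨(normalizer (K : Set G)).index, ?_, ?_⟩
  · rw [← hNc, ← hNK, index_mul_card]
  · have h := card_sylow_modEq_one s G
    rw [Sylow.card_eq_index_normalizer P] at h
    have h' : (normalizer ((P : Subgroup G) : Set G)).index % s = 1 % s := h
    rw [hPK] at h'
    rw [h', Nat.mod_eq_of_lt L.prime.one_lt]

/-- The two counts when the odd core of the centralizer is trivial. -/
theorem QdData.counts (hna : ¬ IsMulCommutative G) {p : ℕ} (D : QdData z p)
    (hK : Cfsg.oddCore ↥(centralizer ({z} : Set G)) = ⊥) :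
    ∃ f g : ℤ, Even f ∧ f ≠ 0 ∧ (sgnPrime p ^ 2 - 1 - f) * g = sgnPrime p ^ 2 * f ∧
      Odd ((centralizer ({z} : Set G)).index : ℤ) ∧
      ((centralizer ({z} : Set G)).index : ℤ) * (f - sgnPrime p + 1) ^ 2 =
        sgnPrime p * (sgnPrime p + 1) * (sgnPrime p ^ 2 - 1) * (f * (f + 1)) := by
  classical
  haveI : Fact (Nat.Prime 2) := ⟨Nat.prime_two⟩
  letI := Fintype.ofFinite G
  haveI : (Cfsg.oddCore ↥(centralizer ({z} : Set G))).Normal :=
    (inferInstance : (Cfsg.pPrimeCore 2 ↥(centralizer ({z} : Set G))).Normal)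
  obtain ⟨c, f, g, h⟩ := Cfsg.Lib.SemiCyclic.counts_of_top Cfsg.Lib.SemiCyclic.modelSpec D.z_ord (perfect hna)
    D.conj_all (by rw [hK, card_bot]; exact odd_one) D.top
  have hc : c = 1 := by
    letI := Fintype.ofFinite ↥(centralizer ({z} : Set G))
    obtain ⟨Γ⟩ := D.geo hK
    have h1 := h.inv_count Γ.u Γ.u_ord fun e => by
      rw [hK, mem_bot, inv_mul_eq_one] at e
      exact Γ.u_ne.2 e
    rw [← h1]
    refine Nat.card_eq_one_iff_unique.2 ⟨⟨fun a b => Subtype.ext ?_⟩, ⟨⟨1, one_mem _, by simp⟩⟩⟩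
    have ha := mem_bot.1 (hK.le a.2.1)
    have hb := mem_bot.1 (hK.le b.2.1)
    rw [ha, hb]
  refine ⟨f, g, h.even, h.f_ne, h.g_eq, ?_, ?_⟩
  · -- the centralizer contains a Sylow 2-subgroup
    rw [Int.odd_coe_nat]
    by_contra hev
    rw [Nat.not_odd_iff_even, even_iff_two_dvd] at hev
    obtain ⟨R, hR⟩ : ∃ R : Sylow 2 G, (R : Subgroup G) ≤ centralizer ({z} : Set G) := by
      obtain ⟨S⟩ : Nonempty (Sylow 2 G) := inferInstance
      obtain ⟨m, a, b, hg⟩ := Cfsg.Lib.QD.exists_gen (D.sd S)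
      set zS := a ^ ((2 : ℤ) ^ (m - 1))
      obtain ⟨v, hv⟩ := isConj_iff.1 (D.conj_all (zS : G) (by rw [Subgroup.orderOf_coe, Cfsg.Lib.QD.orderOf_z hg]))
      refine ⟨v⁻¹ • S, fun y hy => mem_centralizer_singleton_iff.2 ?_⟩
      rw [Sylow.coe_subgroup_smul, Subgroup.mem_pointwise_smul_iff_inv_smul_mem] at hy
      have hy' : v * y * v⁻¹ ∈ (S : Subgroup G) := by simpa [MulAut.smul_def] using hy
      have hcomm : (⟨_, hy'⟩ : (S : Subgroup G)) * zS = zS * ⟨_, hy'⟩ := by
        rcases Cfsg.Lib.CyclicMax.cases hg.2 (⟨_, hy'⟩ : (S : Subgroup G)) with ⟨i, hi⟩ | ⟨i, hi⟩ <;> rw [hi]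
        · exact (Commute.zpow_zpow_self a i _).eq
        · exact ((Commute.zpow_zpow_self a i _).mul_left
            ((Cfsg.Lib.QD.zpow_comm_b_iff hg _).2 (Or.inr rfl))).eq
      have e : v * y * v⁻¹ * (v * z * v⁻¹) = v * z * v⁻¹ * (v * y * v⁻¹) := by
        rw [hv]; exact congrArg Subtype.val hcomm
      calc y * z = v⁻¹ * (v * y * v⁻¹ * (v * z * v⁻¹)) * v := by group
        _ = v⁻¹ * (v * z * v⁻¹ * (v * y * v⁻¹)) * v := by rw [e]
        _ = z * y := by group
    exact R.not_dvd_index (hev.trans (index_dvd_of_le hR))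
  · rw [h.order, hc]
    push_cast
    ring

end Cfsg.Lib.LenSeven
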