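import Cfsg.Agent.LenSeven.QdBound

/-!
The centralizer `SL(2, 5).2`: the order is 126000.
-/

set_option autoImplicit false
set_option linter.style.haveILetI false
set_option linter.unusedSectionVars false

namespace Cfsg.Lib.LenSeven

open Subgroup
open scoped ArithmeticFunction.Omega
open Cfsg.Lib.SemiCyclic (sgnPrime)

universe u

variable {G : Type u} [Group G] [Finite G]

/-- The Sylow subgroups of the nilpotent subgroup are invariant in the normaliser. -/
theorem exists_invariant {z : G} {W K : Subgroup G} {s r : ℕ} [hr : Fact r.Prime] (O : LocalOut z W s K)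
    (h1 : r ∣ Nat.card K) (h2 : ¬ r ^ 2 ∣ Nat.card K) :
    ∃ R ≤ K, Nat.card R = r ∧ normalizer (W : Set G) ≤ normalizer (R : Set G) := by
  haveI := O.nilpotent
  obtain ⟨P⟩ : Nonempty (Sylow r K) := inferInstance
  haveI hn : (P : Subgroup K).Normal := P.normal_of_normalizerCondition Group.normalizerCondition_of_isNilpotent
  haveI := P.unique_of_normal hn
  have hP : Nat.card (P : Subgroup K) = r := by
    obtain ⟨i, hi⟩ := IsPGroup.iff_card.1 P.2
    have hd : r ∣ Nat.card (P : Subgroup K) := by
      have := P.card_mul_index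
      exact (hr.out.dvd_mul.1 (this.symm ▸ h1)).resolve_right P.not_dvd_index
    rw [hi] at hd ⊢
    rcases i with - | - | i
    · rw [pow_zero, Nat.dvd_one] at hd; exact absurd hd hr.out.ne_one
    · rw [pow_one]
    · exfalso
      exact h2 ((Nat.pow_dvd_pow r (show 2 ≤ i + 1 + 1 by omega)).trans (hi ▸ card_subgroup_dvd_card _))
  refine ⟨(P : Subgroup K).map K.subtype, map_subtype_le _, by rw [card_map_of_injective K.subtype_injective, hP],
    fun g hg => Cfsg.Lib.Fusion.mem_normalizer_of_maps_finite ?_⟩
  rintro _ ⟨v, hv, rfl⟩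
  have hm : g * (v : G) * g⁻¹ ∈ K := (mem_normalizer_iff.1 (O.normal hg) _).1 v.2
  obtain ⟨Q, hQ⟩ := (show IsPGroup r (zpowers (⟨_, hm⟩ : K)) from by
    obtain ⟨i, hi⟩ := IsPGroup.iff_orderOf.1 P.2 ⟨v, hv⟩
    refine IsPGroup.of_card (n := i) ?_
    rw [Nat.card_zpowers, Subgroup.orderOf_mk, ← MulAut.conj_apply, MulEquiv.orderOf_eq, Subgroup.orderOf_coe, ← hi,
      Subgroup.orderOf_mk]
    exact (Subgroup.orderOf_coe v).trans (Subgroup.orderOf_mk v hv).symm).exists_le_sylow
  rw [Subsingleton.elim Q P] at hQ
  exact ⟨_, hQ (mem_zpowers _), rfl⟩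

/-- An element of order 8 acting on a subgroup of prime order with `z` acting nontrivially. -/
theorem range_eight {z h : G} {R : Subgroup G} (hh : h ∈ normalizer (R : Set G)) (hh8 : orderOf h = 8)
    (hh4 : h ^ 4 = z) (hz : ∃ v ∈ R, ¬ Commute v z) : 8 ∣ Nat.card R.normalizerMonoidHom.range := by
  set φ := R.normalizerMonoidHom ⟨h, hh⟩
  have hφ : orderOf φ = 8 := by
    haveI : Fact (Nat.Prime 2) := ⟨Nat.prime_two⟩
    refine orderOf_eq_prime_pow (p := 2) (n := 2) ?_ ?_
    · norm_num
      intro e
      obtain ⟨v, hv, hvz⟩ := hz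
      refine hvz ?_
      rw [← map_pow] at e
      have h1 := congrArg (fun q : MulAut R => ((q ⟨v, hv⟩ : R) : G)) e
      have h2 : h ^ 4 * v * (h ^ 4)⁻¹ = v := h1
      rw [hh4] at h2
      exact (mul_inv_eq_iff_eq_mul.1 h2).symm
    · norm_num
      rw [← map_pow, show (⟨h, hh⟩ : normalizer (R : Set G)) ^ 8 = 1 from Subtype.ext (by
        rw [SubmonoidClass.coe_pow, ← hh8, pow_orderOf_eq_one]; rfl), map_one]
  rw [← hφ]
  exact (Subgroup.orderOf_mk φ (MonoidHom.mem_range.2 ⟨_, rfl⟩)).symm ▸ orderOf_dvd_natCard (⟨φ, MonoidHom.mem_range.2 ⟨_, rfl⟩⟩ : R.normalizerMonoidHom.range)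

variable [IsSimpleGroup G] {z : G}

theorem five_order (hna : ¬ IsMulCommutative G) (hG : Short G) (D : QdData z 5)
    (hK : Cfsg.oddCore ↥(centralizer ({z} : Set G)) = ⊥) : Nat.card G = 126000 := by
  classical
  haveI : Fact (Nat.Prime 5) := ⟨by norm_num⟩
  haveI : Fact (Nat.Prime 2) := ⟨Nat.prime_two⟩
  obtain ⟨f, g, hf, hf0, hg, hidx, hord⟩ := D.counts hna hK
  have hQ : sgnPrime 5 = -5 := by rw [sgnPrime]; norm_num
  rw [hQ] at hg hord
  have hGc : Nat.card G = (centralizer ({z} : Set G)).index * 240 := by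
    rw [show (240 : ℕ) = 2 * 5 * (5 ^ 2 - 1) by norm_num, ← D.card_cent hK, index_mul_card]
  have hidx' : ((centralizer ({z} : Set G)).index : ℤ) = 525 ∨ ((centralizer ({z} : Set G)).index : ℤ) = 357 ∨
      ((centralizer ({z} : Set G)).index : ℤ) = 285 :=
    index_five (g := g) hf hf0 (by linear_combination hg) hidx (by linear_combination hord)
  obtain ⟨W, L, hM, h8⟩ := D.unipotent hK
  obtain ⟨h, hhm, hh8, hh4⟩ := h8 rfl
  obtain ⟨K, O⟩ := L.out
  set N := normalizer (W : Set G) with hN
  have hNc : Nat.card N * 5 = Nat.card K * 40 := by rw [O.card, hM]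
  have hOm := omega_local hna hG L O
  rw [hM, show 2 * 5 * (5 - 1) = 2 ^ 3 * 5 by norm_num, ArithmeticFunction.cardFactors_mul (by norm_num) (by norm_num),
    ArithmeticFunction.cardFactors_apply_prime_pow Nat.prime_two,
    ArithmeticFunction.cardFactors_apply_prime (show Nat.Prime 5 by norm_num)] at hOm
  have h5K : 5 ∣ Nat.card K := L.cardA ▸ card_dvd_of_le O.le
  obtain ⟨ko, hko⟩ := O.odd
  have hNG : Nat.card N ∣ Nat.card G := card_subgroup_dvd_card _
  have hmove : ∀ {r : ℕ}, r.Prime → r ≠ 5 → ∀ {R : Subgroup G}, R ≤ K → Nat.card R = r → ∃ v ∈ R, ¬ Commute v z := by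
    intro r hr hr5 R hRK hRc
    obtain ⟨v, hv, hv1⟩ : ∃ v ∈ R, v ≠ 1 := by
      by_contra hne
      push Not at hne
      rw [(eq_bot_iff_forall R).2 hne, card_bot] at hRc
      exact hr.ne_one hRc.symm
    refine ⟨v, hv, fun hc => hv1 ?_⟩
    have h1 : orderOf v ∣ r := hRc ▸ R.orderOf_dvd_natCard hv
    have h2 : orderOf v ∣ 5 := L.cardA ▸ W.orderOf_dvd_natCard (O.fixed v (hRK hv) hc)
    exact orderOf_eq_one_iff.1 (Nat.eq_one_of_dvd_coprimes
      ((Nat.coprime_primes hr (by norm_num)).2 hr5) h1 h2)
  have hprime : ∀ {r : ℕ}, r.Prime → r ≠ 5 → r ∣ Nat.card K → ¬ r ^ 2 ∣ Nat.card K → 8 ∣ r - 1 := by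
    intro r hr hr5 h1 h2
    haveI := Fact.mk hr
    obtain ⟨R, hRK, hRc, hRn⟩ := exists_invariant O h1 h2
    haveI : IsCyclic R := isCyclic_of_prime_card hRc
    refine (range_eight (hRn hhm.2) hh8 hh4 (hmove hr hr5 hRK hRc)).trans ?_
    rw [← Nat.totient_prime hr, ← hRc, ← IsCyclic.card_mulAut R]
    exact card_subgroup_dvd_card _
  rcases hidx' with e | e | e <;> norm_cast at e <;> rw [e] at hGc
  · omega
  all_goals exfalso
  · -- index 357
    obtain ⟨j, hj⟩ := h5K
    have hN8 : Nat.card N = 40 * j := by rw [hj] at hNc; linarith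
    obtain ⟨W5, hW5⟩ := (IsPGroup.of_card (p := 5) (n := 1) (G := W) (by rw [L.cardA, pow_one])).exists_le_sylow
    have hW5' : (W5 : Subgroup G) = W := by
      refine (eq_of_le_of_card_ge hW5 ?_).symm
      obtain ⟨i, hi⟩ := IsPGroup.iff_card.1 W5.2
      rw [hi, L.cardA]
      have : i ≤ 1 := by
        by_contra hlt
        have := (Nat.pow_dvd_pow 5 (show 2 ≤ i by omega)).trans (hi ▸ card_subgroup_dvd_card (W5 : Subgroup G))
        rw [hGc] at this
        norm_num at this
      simpa using Nat.pow_le_pow_right (show 0 < 5 by norm_num) this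
    have hn := card_sylow_modEq_one 5 G
    rw [Sylow.card_eq_index_normalizer W5] at hn
    replace hn : (normalizer ((W5 : Subgroup G) : Set G)).index % 5 = 1 := hn
    rw [hW5'] at hn
    have hmul := N.index_mul_card
    rw [hN8, hGc] at hmul
    have hjd : j ∈ Nat.divisors 2142 := Nat.mem_divisors.2 ⟨⟨N.index, by linarith⟩, by norm_num⟩
    have key : ∀ j ∈ Nat.divisors 2142, j % 2 = 1 → (2142 / j) % 5 = 1 → j = 7 ∨ j = 17 ∨ j = 357 := by
      decide +kernel
    have hjodd : j % 2 = 1 := by
      rcases Nat.mod_two_eq_zero_or_one j with h0 | h0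
      · exfalso
        obtain ⟨i, rfl⟩ := Nat.dvd_of_mod_eq_zero h0
        rw [hj] at hko
        omega
      · exact h0
    have hj0 : 0 < j := Nat.pos_of_ne_zero fun h0 => by rw [h0] at hjodd; norm_num at hjodd
    rcases key j hjd hjodd (by
      rw [show 2142 / j = N.index from Nat.div_eq_of_eq_mul_left hj0 (by linarith)]
      exact hn) with rfl | rfl | rfl
    · have := hprime (r := 7) (by norm_num) (by norm_num) (by rw [hj]; norm_num) (by rw [hj]; norm_num)
      norm_num at this
    · -- the subgroup of order 17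
      haveI : Fact (Nat.Prime 17) := ⟨by norm_num⟩
      obtain ⟨R, hRK, hRc, hRn⟩ := exists_invariant (r := 17) O (by rw [hj]; norm_num) (by rw [hj]; norm_num)
      haveI : IsCyclic R := isCyclic_of_prime_card hRc
      obtain ⟨P, hP⟩ := (IsPGroup.of_card (p := 17) (n := 1) (G := R) (by rw [hRc, pow_one])).exists_le_sylow
      have hP' : (P : Subgroup G) = R := by
        refine (eq_of_le_of_card_ge hP ?_).symm
        obtain ⟨i, hi⟩ := IsPGroup.iff_card.1 P.2
        rw [hi, hRc]
        have : i ≤ 1 := by
          by_contra hlt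
          have := (Nat.pow_dvd_pow 17 (show 2 ≤ i by omega)).trans (hi ▸ card_subgroup_dvd_card (P : Subgroup G))
          rw [hGc] at this
          norm_num at this
        simpa using Nat.pow_le_pow_right (show 0 < 17 by norm_num) this
      have hR := card_sylow_modEq_one 17 G
      rw [Sylow.card_eq_index_normalizer P] at hR
      replace hR : (normalizer ((P : Subgroup G) : Set G)).index % 17 = 1 := hR
      rw [hP'] at hR
      have hR1 : (normalizer (R : Set G)).index ≠ 1 := fun h1 => normalizer_ne_top hna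
        (fun e => by rw [e, card_bot] at hRc; omega) (Group.isSolvable_of_comm fun a b =>
          (IsCyclic.isMulCommutative (α := R)).is_comm.comm a b) (index_eq_one.1 h1)
      have hd := card_dvd_of_le hRn
      rw [← hN, hN8] at hd
      obtain ⟨i, hi⟩ := hd
      have hmulR := (normalizer (R : Set G)).index_mul_card
      rw [hi, hGc] at hmulR
      have hx : (normalizer (R : Set G)).index = 18 := by
        have hd' : (normalizer (R : Set G)).index ∈ Nat.divisors 126 :=
          Nat.mem_divisors.2 ⟨⟨i, by linarith⟩, by norm_num⟩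
        have key : ∀ d ∈ Nat.divisors 126, d % 17 = 1 → d = 1 ∨ d = 18 := by decide +kernel
        exact (key _ hd' hR).resolve_left hR1
      have hRN : Nat.card (normalizer (R : Set G)) = 4760 := by
        have := (normalizer (R : Set G)).index_mul_card
        rw [hx, hGc] at this
        omega
      -- the kernel of the action on `R`
      set ψ := R.normalizerMonoidHom
      have h8 := range_eight (hRn hhm.2) hh8 hh4 (hmove (by norm_num) (by norm_num) hRK hRc)
      have h16 : Nat.card ψ.range ∣ 16 := by
        refine (card_subgroup_dvd_card _).trans ?_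
        rw [IsCyclic.card_mulAut, hRc, Nat.totient_prime (by norm_num)]
      have hk : Nat.card ψ.ker = 595 := by
        have := ψ.ker.card_mul_index
        rw [index_ker, hRN] at this
        have h16' : ∀ d ∈ Nat.divisors 16, 8 ∣ d → d = 8 ∨ d = 16 := by decide +kernel
        rcases h16' _ (Nat.mem_divisors.2 ⟨h16, by norm_num⟩) h8 with e | e <;> rw [e] at this <;> omega
      have hWk : (W.subgroupOf (normalizer (R : Set G))) ≤ ψ.ker := fun w hw => by
        rw [MonoidHom.mem_ker]
        ext v
        show (w : G) * v * (w : G)⁻¹ = v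
        rw [mem_centralizer_iff.1 (O.leC (hRK v.2)) w (mem_subgroupOf.1 hw), mul_inv_cancel_right]
      set WK := (W.subgroupOf (normalizer (R : Set G))).subgroupOf ψ.ker with hWK
      have hWKc : Nat.card WK = 5 := by
        rw [hWK, Nat.card_congr (subgroupOfEquivOfLe hWk).toEquiv,
          Nat.card_congr (subgroupOfEquivOfLe (show W ≤ normalizer (R : Set G) from
            le_normalizer.trans hRn)).toEquiv, L.cardA]
      obtain ⟨Q, hQ⟩ := (IsPGroup.of_card (p := 5) (n := 1) (G := WK) (by rw [hWKc, pow_one])).exists_le_sylow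
      have hQ' : (Q : Subgroup ψ.ker) = WK := by
        refine (eq_of_le_of_card_ge hQ ?_).symm
        obtain ⟨l, hl⟩ := IsPGroup.iff_card.1 Q.2
        rw [hl, hWKc]
        have : l ≤ 1 := by
          by_contra hlt
          have := (Nat.pow_dvd_pow 5 (show 2 ≤ l by omega)).trans (hl ▸ card_subgroup_dvd_card (Q : Subgroup ψ.ker))
          rw [hk] at this
          norm_num at this
        simpa using Nat.pow_le_pow_right (show 0 < 5 by norm_num) this
      have hq := card_sylow_modEq_one 5 ψ.ker
      rw [Sylow.card_eq_index_normalizer Q] at hq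
      replace hq : (normalizer ((Q : Subgroup ψ.ker) : Set ψ.ker)).index % 5 = 1 := hq
      rw [hQ'] at hq
      have hq1 : (normalizer (WK : Set ψ.ker)).index = 1 := by
        have h1 := index_dvd_of_le (le_normalizer (H := WK))
        have h2 := WK.card_mul_index
        rw [hWKc, hk] at h2
        rw [show WK.index = 119 by omega] at h1
        have key : ∀ d ∈ Nat.divisors 119, d % 5 = 1 → d = 1 := by decide +kernel
        exact key _ (Nat.mem_divisors.2 ⟨h1, by norm_num⟩) hq
      haveI : WK.Normal := normalizer_eq_top_iff.1 (index_eq_one.1 hq1)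
      have hle : ψ.ker.map (normalizer (R : Set G)).subtype ≤ N := by
        rintro _ ⟨v, hv, rfl⟩
        refine Cfsg.Lib.Fusion.mem_normalizer_of_maps_finite fun w hw => ?_
        have hwR : w ∈ normalizer (R : Set G) := hRn (le_normalizer hw)
        have := (inferInstance : WK.Normal).conj_mem (⟨⟨w, hwR⟩, hWk (show w ∈ W from hw)⟩ : ψ.ker)
          (show w ∈ W from hw) ⟨v, hv⟩
        exact this
      have := card_dvd_of_le hle
      rw [card_map_of_injective (normalizer (R : Set G)).subtype_injective, hk, hN8] at this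
      norm_num at this
    · rw [hj, ArithmeticFunction.cardFactors_mul (by norm_num) (by norm_num),
        ArithmeticFunction.cardFactors_apply_prime (show Nat.Prime 5 by norm_num),
        show (357 : ℕ) = 3 * (7 * 17) by norm_num, ArithmeticFunction.cardFactors_mul (by norm_num) (by norm_num),
        ArithmeticFunction.cardFactors_mul (by norm_num) (by norm_num),
        ArithmeticFunction.cardFactors_apply_prime (show Nat.Prime 3 by norm_num),
        ArithmeticFunction.cardFactors_apply_prime (show Nat.Prime 7 by norm_num),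
        ArithmeticFunction.cardFactors_apply_prime (show Nat.Prime 17 by norm_num)] at hOm
      omega
  · -- index 285
    obtain ⟨j, hj⟩ := sq_dvd_local L O (by rw [hGc]; norm_num) (by rw [hM]; norm_num)
    have hN8 : Nat.card N = 200 * j := by rw [hj] at hNc; linarith
    have hjd : j ∣ 342 := by
      obtain ⟨i, hi⟩ := hNG
      rw [hN8, hGc] at hi
      exact ⟨i, by linarith⟩
    have key : ∀ j ∈ Nat.divisors 342, j % 2 = 1 →
        j = 1 ∨ j = 3 ∨ j = 19 ∨ j = 9 ∨ j = 57 ∨ j = 171 := by decide +kernel
    have hjodd : j % 2 = 1 := by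
      rcases Nat.mod_two_eq_zero_or_one j with h0 | h0
      · exfalso
        obtain ⟨i, rfl⟩ := Nat.dvd_of_mod_eq_zero h0
        rw [hj] at hko
        omega
      · exact h0
    rw [hj, ArithmeticFunction.cardFactors_mul (by norm_num) (fun h0 => by rw [h0] at hjodd; norm_num at hjodd),
      ArithmeticFunction.cardFactors_apply_prime_pow (show Nat.Prime 5 by norm_num)] at hOm
    rcases key j (Nat.mem_divisors.2 ⟨hjd, by norm_num⟩) hjodd with rfl | rfl | rfl | rfl | rfl | rfl
    rotate_left
    · have := hprime (r := 3) (by norm_num) (by norm_num) (by rw [hj]; norm_num) (by rw [hj]; norm_num)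
      norm_num at this
    · have := hprime (r := 19) (by norm_num) (by norm_num) (by rw [hj]; norm_num) (by rw [hj]; norm_num)
      norm_num at this
    · rw [show (9 : ℕ) = 3 ^ 2 by norm_num, ArithmeticFunction.cardFactors_apply_prime_pow Nat.prime_three] at hOm
      omega
    · rw [show (57 : ℕ) = 3 * 19 by norm_num, ArithmeticFunction.cardFactors_mul (by norm_num) (by norm_num),
        ArithmeticFunction.cardFactors_apply_prime Nat.prime_three,
        ArithmeticFunction.cardFactors_apply_prime (show Nat.Prime 19 by norm_num)] at hOm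
      omega
    · rw [show (171 : ℕ) = 3 ^ 2 * 19 by norm_num, ArithmeticFunction.cardFactors_mul (by norm_num) (by norm_num),
        ArithmeticFunction.cardFactors_apply_prime_pow Nat.prime_three,
        ArithmeticFunction.cardFactors_apply_prime (show Nat.Prime 19 by norm_num)] at hOm
      omega
    -- `K` has order 25
    have hKc : Nat.card K = 5 ^ 2 := by rw [hj, mul_one]
    haveI := O.nilpotent
    obtain ⟨P, hP⟩ := (IsPGroup.of_card hKc).exists_le_sylow
    have hP' : (P : Subgroup G) = K := by
      refine (eq_of_le_of_card_ge hP ?_).symm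
      obtain ⟨i, hi⟩ := IsPGroup.iff_card.1 P.2
      rw [hi, hKc]
      refine Nat.pow_le_pow_right (by norm_num) ?_
      by_contra hlt
      have := (Nat.pow_dvd_pow 5 (show 3 ≤ i by omega)).trans (hi ▸ card_subgroup_dvd_card (P : Subgroup G))
      rw [hGc] at this
      norm_num at this
    have hn := card_sylow_modEq_one 5 G
    rw [Sylow.card_eq_index_normalizer P] at hn
    replace hn : (normalizer ((P : Subgroup G) : Set G)).index % 5 = 1 := hn
    rw [hP'] at hn
    set NK := normalizer (K : Set G) with hNK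
    have hne : NK ≠ ⊤ := normalizer_ne_top hna (fun e => by rw [e, card_bot] at hKc; norm_num at hKc) inferInstance
    obtain ⟨i, hi⟩ := card_dvd_of_le O.normal
    rw [← hNK, ← hN, hN8] at hi
    have hmul := NK.index_mul_card
    rw [hi, hGc] at hmul
    have hd : NK.index ∈ Nat.divisors 342 := Nat.mem_divisors.2 ⟨⟨i, by linarith⟩, by norm_num⟩
    have key2 : ∀ d ∈ Nat.divisors 342, d % 5 = 1 → d = 1 ∨ d = 6 ∨ d = 171 := by decide +kernel
    rcases key2 _ hd hn with h1 | h6 | h171
    · exact hne (index_eq_one.1 h1)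
    · have hb := Cfsg.Lib.SolvLinear.index_core_le_factorial NK
      rcases IsSimpleGroup.eq_bot_or_eq_top_of_normal NK.normalCore inferInstance with e | e
      · rw [e, index_bot, hGc, h6] at hb
        exact absurd hb (by decide)
      · exact hne (top_le_iff.1 (e ▸ normalCore_le NK))
    · have hi2 : i = 2 := by rw [h171] at hmul; omega
      rw [hi2] at hi
      have hidx2 : (N.subgroupOf NK).index = 2 := by
        have h2 := (N.subgroupOf NK).card_mul_index
        rw [Nat.card_congr (subgroupOfEquivOfLe (show N ≤ NK from O.normal)).toEquiv, hN8, hi] at h2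
        omega
      haveI := normal_of_index_eq_two hidx2
      obtain ⟨v, -, hvN⟩ : ∃ v : NK, v ∈ (⊤ : Subgroup NK) ∧ v ∉ N.subgroupOf NK :=
        SetLike.exists_of_lt (lt_top_iff_ne_top.2 fun e => by rw [e, index_top] at hidx2; omega)
      have hzN : z ∈ N := O.zN
      have hy : (v : G) * z * (v : G)⁻¹ ∈ N :=
        (inferInstance : (N.subgroupOf NK).Normal).conj_mem ⟨z, O.normal hzN⟩ hzN v
      -- the involutions of `N`
      set T : Subgroup N := zpowers ⟨h, hhm.2⟩
      have hTc : Nat.card T = 2 ^ 3 := by rw [Nat.card_zpowers, Subgroup.orderOf_mk, hh8]; norm_num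
      obtain ⟨S, hS⟩ := (IsPGroup.of_card hTc).exists_le_sylow
      have hS' : (S : Subgroup N) = T := by
        refine (eq_of_le_of_card_ge hS ?_).symm
        obtain ⟨l, hl⟩ := IsPGroup.iff_card.1 S.2
        rw [hl, hTc]
        refine Nat.pow_le_pow_right (by norm_num) ?_
        by_contra hlt
        have := (Nat.pow_dvd_pow 2 (show 4 ≤ l by omega)).trans (hl ▸ card_subgroup_dvd_card (S : Subgroup N))
        rw [hN8] at this
        norm_num at this
      have hyo : orderOf (⟨_, hy⟩ : N) = 2 := by
        rw [Subgroup.orderOf_mk, ← MulAut.conj_apply, MulEquiv.orderOf_eq, L.z_ord]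
      obtain ⟨R, hR⟩ := (show IsPGroup 2 (zpowers (⟨_, hy⟩ : N)) from IsPGroup.of_card (n := 1) (by
        rw [Nat.card_zpowers, hyo, pow_one])).exists_le_sylow
      obtain ⟨c, hc⟩ := MulAction.exists_smul_eq N S R
      obtain ⟨t, ht, hte⟩ : (⟨_, hy⟩ : N) ∈ (S : Subgroup N).map (MulAut.conj c).toMonoidHom := by
        have := hR (mem_zpowers _)
        rw [← hc] at this
        exact this
      have hto : orderOf t = 2 := by
        exact ((MulAut.conj c).orderOf_eq t).symm.trans ((congrArg orderOf hte).trans hyo)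
      haveI : IsCyclic T := inferInstance
      have htz : t = ⟨z, hzN⟩ := invol_unique_cyclic (T := T) (hS' ▸ ht)
        ⟨4, Subtype.ext (show h ^ (4 : ℤ) = z by exact_mod_cast hh4)⟩ hto
        ((Subgroup.orderOf_mk _ _).trans L.z_ord)
      rw [htz] at hte
      have hte' : (c : G) * z * (c : G)⁻¹ = (v : G) * z * (v : G)⁻¹ := congrArg Subtype.val hte
      set g' := (c : G)⁻¹ * v with hg'
      have hg'z : Commute g' z := by
        refine mul_inv_eq_iff_eq_mul.1 ?_
        calc g' * z * g'⁻¹ = (c : G)⁻¹ * ((v : G) * z * (v : G)⁻¹) * c := by rw [hg']; group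
          _ = z := by rw [← hte']; group
      have hg'K : g' ∈ NK := NK.mul_mem (NK.inv_mem (O.normal c.2)) v.2
      have hg'N : g' ∈ N := Cfsg.Lib.Fusion.mem_normalizer_of_maps_finite fun w hw => by
        refine O.fixed _ ((mem_normalizer_iff.1 hg'K w).1 (O.le hw)) ?_
        have hwz : Commute w z := mem_centralizer_iff.1 L.zA w hw
        exact (hg'z.mul_left hwz).mul_left hg'z.inv_left
      refine hvN (mem_subgroupOf.2 ?_)
      have : (v : G) = c * g' := by rw [hg']; group
      rw [this]
      exact N.mul_mem c.2 hg'N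

end Cfsg.Lib.LenSeven
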