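import Cfsg.Agent.LenSeven.Chain
import Cfsg.Agent.RuSylow.Aut
import Cfsg.Agent.Fusion.Saturation
import Mathlib.GroupTheory.Transfer

/-!
The normaliser of a subgroup of prime order in the centraliser of an involution: the odd normal subgroup that the
involution inverts modulo it.
-/

set_option autoImplicit false
set_option linter.style.haveILetI false
set_option linter.unusedSectionVars false

namespace Cfsg.Lib.LenSeven

open Subgroup
open scoped Pointwise

universe u

variable {G : Type u} [Group G] [Finite G]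

/-- A cyclic group has one involution. -/
theorem invol_unique_cyclic {T : Subgroup G} [IsCyclic T] {x y : G} (hx : x ∈ T) (hy : y ∈ T) (hxo : orderOf x = 2)
    (hyo : orderOf y = 2) : x = y := by
  classical
  haveI := Fintype.ofFinite T
  by_contra hne
  have h := IsCyclic.card_pow_eq_one_le (α := T) (n := 2) two_pos
  have key : ∀ {v : G} (hv : v ∈ T), orderOf v = 2 → (⟨v, hv⟩ : T) ^ 2 = 1 := fun hv ho => by
    rw [← ho, ← Subgroup.orderOf_mk _ hv]; exact pow_orderOf_eq_one _
  have hs : ({1, ⟨x, hx⟩, ⟨y, hy⟩} : Finset T) ⊆ Finset.univ.filter fun v => v ^ 2 = 1 := by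
    intro v hv
    simp only [Finset.mem_insert, Finset.mem_singleton] at hv
    refine Finset.mem_filter.2 ⟨Finset.mem_univ _, ?_⟩
    rcases hv with rfl | rfl | rfl
    exacts [one_pow 2, key hx hxo, key hy hyo]
  have h1 : x ≠ 1 := fun e => by rw [e, orderOf_one] at hxo; omega
  have h2 : y ≠ 1 := fun e => by rw [e, orderOf_one] at hyo; omega
  have h3 : ({1, ⟨x, hx⟩, ⟨y, hy⟩} : Finset T).card = 3 := by
    rw [Finset.card_insert_of_notMem (by simp [Subtype.ext_iff, Ne.symm h1, Ne.symm h2]),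
      Finset.card_insert_of_notMem (by simp [Subtype.ext_iff, hne]), Finset.card_singleton]
  have := (Finset.card_le_card hs).trans h
  omega

/-- A subgroup `A` of odd prime order `s` centralized by the involution `z`, with `C(z) ⊓ C(A)` of order
`2 ^ k * s` and cyclic Sylow 2-subgroup. -/
structure Local (z : G) (A : Subgroup G) (s k : ℕ) : Prop where
  z_ord : orderOf z = 2
  prime : s.Prime
  odd : s ≠ 2
  cardA : Nat.card A = s
  zA : z ∈ centralizer (A : Set G)
  two : ∃ T : Subgroup G, T ≤ centralizer ({z} : Set G) ⊓ centralizer (A : Set G) ∧ IsCyclic T ∧ z ∈ T ∧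
    Nat.card T = 2 ^ k
  cent : Nat.card ↥(centralizer ({z} : Set G) ⊓ centralizer (A : Set G)) = 2 ^ k * s

/-- What follows from the local data. -/
structure LocalOut (z : G) (A : Subgroup G) (s : ℕ) (K : Subgroup G) : Prop where
  le : A ≤ K
  leC : K ≤ centralizer (A : Set G)
  normal : normalizer (A : Set G) ≤ normalizer (K : Set G)
  odd : Odd (Nat.card K)
  nilpotent : Group.IsNilpotent K
  fixed : ∀ v ∈ K, Commute v z → v ∈ A
  fusion : ∀ g ∈ normalizer (A : Set G), ∃ v ∈ K, Commute (v⁻¹ * g) z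
  zN : z ∈ normalizer (A : Set G)
  card : Nat.card ↥(normalizer (A : Set G)) * s =
    Nat.card K * Nat.card ↥(centralizer ({z} : Set G) ⊓ normalizer (A : Set G))
  solvable : Group.IsSolvable ↥(normalizer (A : Set G))

theorem Local.out {z : G} {A : Subgroup G} {s k : ℕ} (L : Local z A s k) : ∃ K, LocalOut z A s K := by
  classical
  haveI := Fact.mk L.prime
  haveI : Fact (Nat.Prime 2) := ⟨Nat.prime_two⟩
  set C := centralizer ({z} : Set G) with hC
  set CA := centralizer (A : Set G) with hCA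
  obtain ⟨T, hTle, hTc, hzT, hTcard⟩ := L.two
  haveI := hTc
  haveI hAc : IsCyclic A := isCyclic_of_prime_card L.cardA
  have hA_comm : ∀ a ∈ A, ∀ b ∈ A, a * b = b * a := fun a ha b hb =>
    congrArg Subtype.val (IsCyclic.isMulCommutative (α := A) |>.is_comm.comm ⟨a, ha⟩ ⟨b, hb⟩)
  have hAC : A ≤ C := fun a ha => mem_centralizer_singleton_iff.2 (mem_centralizer_iff.1 L.zA a ha)
  have hACA : A ≤ CA := fun a ha => mem_centralizer_iff.2 fun b hb => hA_comm b hb a ha
  -- `T` is a Sylow 2-subgroup of the centralizer of `A`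
  set TC : Subgroup CA := T.subgroupOf CA with hTC
  have hTCA : T ≤ CA := hTle.trans inf_le_right
  have hTCcard : Nat.card TC = 2 ^ k := by rw [hTC, Nat.card_congr (subgroupOfEquivOfLe hTCA).toEquiv, hTcard]
  obtain ⟨P, hP⟩ := (IsPGroup.of_card hTCcard).exists_le_sylow
  have hPT : (P : Subgroup CA) = TC := by
    haveI : Group.IsNilpotent (P : Subgroup CA) := P.2.isNilpotent
    by_contra hne
    have hlt : TC.subgroupOf (P : Subgroup CA) < ⊤ := lt_top_iff_ne_top.2 fun e => by
      rw [subgroupOf_eq_top] at e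
      exact hne (le_antisymm e hP)
    obtain ⟨v, hv, hvn⟩ := SetLike.exists_of_lt
      ((Group.normalizerCondition_of_isNilpotent (G := (P : Subgroup CA))) _ hlt)
    have hvz : Commute ((v : CA) : G) z := by
      refine mul_inv_eq_iff_eq_mul.1 (invol_unique_cyclic (T := T) ?_ hzT
        (by rw [← MulAut.conj_apply, MulEquiv.orderOf_eq, L.z_ord]) L.z_ord)
      have h := (mem_normalizer_iff.1 hv (⟨⟨z, hTCA hzT⟩, hP hzT⟩ : (P : Subgroup CA))).1
        (show (⟨z, hTCA hzT⟩ : CA) ∈ TC from hzT)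
      exact h
    -- the 2-group in `C ⊓ CA` properly above `T`
    have hle : T ⊔ zpowers ((v : CA) : G) ≤ C ⊓ CA := sup_le hTle (zpowers_le.2
      ⟨mem_centralizer_singleton_iff.2 hvz.eq, (v : CA).2⟩)
    have hp : IsPGroup 2 ↥(T ⊔ zpowers ((v : CA) : G)) := by
      refine (P.2.map CA.subtype).to_le (sup_le ?_ (zpowers_le.2 ⟨(v : CA), v.2, rfl⟩))
      exact fun t ht => ⟨⟨t, hTCA ht⟩, hP (show (⟨t, hTCA ht⟩ : CA) ∈ TC from ht), rfl⟩
    obtain ⟨j, hj⟩ := IsPGroup.iff_card.1 hp
    have hd := card_dvd_of_le hle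
    rw [hj, L.cent] at hd
    have hd' : 2 ^ j ∣ 2 ^ k :=
      (Nat.Coprime.pow_left j (Nat.coprime_two_left.2 (L.prime.odd_of_ne_two L.odd))).dvd_of_dvd_mul_right hd
    have heq : T = T ⊔ zpowers ((v : CA) : G) := eq_of_le_of_card_ge le_sup_left (by
      rw [hj, hTcard]; exact Nat.le_of_dvd (by positivity) hd')
    exact hvn (mem_subgroupOf.2 (mem_subgroupOf.2 (heq.ge (mem_sup_right (mem_zpowers _)))))
  haveI hPc : IsCyclic (P : Subgroup CA) := by
    rw [hPT]
    exact isCyclic_of_injective (subgroupOfEquivOfLe hTCA).toMonoidHom (subgroupOfEquivOfLe hTCA).injective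
  have h2CA : 2 ∣ Nat.card CA := by
    have := orderOf_dvd_natCard (⟨z, L.zA⟩ : CA)
    rwa [Subgroup.orderOf_mk, L.z_ord] at this
  have hle := IsCyclic.normalizer_le_centralizer ((Nat.minFac_eq_two_iff _).2 h2CA) hPc
  set φ := MonoidHom.transferSylow P hle with hφ
  have hkodd : Odd (Nat.card φ.ker) := Nat.not_even_iff_odd.1 fun hev =>
    MonoidHom.not_dvd_card_ker_transferSylow P hle hev.two_dvd
  set K := φ.ker.map CA.subtype with hK
  have hKodd : Odd (Nat.card K) := by rwa [hK, card_map_of_injective CA.subtype_injective]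
  have hKCA : K ≤ CA := map_subtype_le _
  have hsub : Odd s := L.prime.odd_of_ne_two L.odd
  have hKodd_mem : ∀ v : CA, Odd (orderOf v) → v ∈ φ.ker := fun v hv => by
    obtain ⟨j, hj⟩ := IsPGroup.iff_orderOf.1 P.2 (φ v)
    refine MonoidHom.mem_ker.2 (orderOf_eq_one_iff.1 (Nat.eq_one_of_dvd_coprimes
      ((Nat.coprime_two_right.2 hv).pow_right j) (orderOf_map_dvd φ v) hj.dvd))
  have hAK : A ≤ K := fun a ha => ⟨⟨a, hACA ha⟩, hKodd_mem _ (by
    rw [Subgroup.orderOf_mk]
    exact hsub.of_dvd_nat (L.cardA ▸ A.orderOf_dvd_natCard ha)), rfl⟩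
  have hKn : normalizer (A : Set G) ≤ normalizer (K : Set G) := by
    intro g hg
    refine Cfsg.Lib.Fusion.mem_normalizer_of_maps_finite ?_
    rintro _ ⟨v, hv, rfl⟩
    have hm : g * (v : G) * g⁻¹ ∈ CA := mem_centralizer_iff.2 fun a ha => by
      have h1 : g⁻¹ * a * g ∈ A := by
        have := (mem_normalizer_iff.1 (inv_mem hg) a).1 ha
        rwa [inv_inv] at this
      have h2 : g⁻¹ * a * g * (v : G) = v * (g⁻¹ * a * g) := mem_centralizer_iff.1 v.2 _ h1
      calc a * (g * v * g⁻¹) = g * (g⁻¹ * a * g * v) * g⁻¹ := by group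
        _ = g * v * g⁻¹ * a := by rw [h2]; group
    refine ⟨⟨_, hm⟩, hKodd_mem _ ?_, rfl⟩
    rw [show orderOf (⟨_, hm⟩ : CA) = orderOf v from (Subgroup.orderOf_mk _ _).trans
      (((MulAut.conj g).orderOf_eq (v : G)).trans (Subgroup.orderOf_coe v))]
    exact hkodd.of_dvd_nat (φ.ker.orderOf_dvd_natCard hv)
  have hfix : ∀ v ∈ K, Commute v z → v ∈ A := by
    intro v hv hvz
    have hKC : K ⊓ C = A := by
      refine (eq_of_le_of_card_ge (le_inf hAK hAC) ?_).symm
      have h1 : Nat.card ↥(K ⊓ C) ∣ 2 ^ k * s :=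
        L.cent ▸ card_dvd_of_le (le_inf inf_le_right (inf_le_left.trans hKCA))
      have h2 : Nat.card ↥(K ⊓ C) ∣ s := (Nat.Coprime.pow_right k (Nat.coprime_two_right.2
        (hKodd.of_dvd_nat (card_dvd_of_le inf_le_left)))).dvd_of_dvd_mul_left h1
      rw [L.cardA]
      exact Nat.le_of_dvd L.prime.pos h2
    exact hKC.le ⟨hv, mem_centralizer_singleton_iff.2 hvz.eq⟩
  have hzN : z ∈ normalizer (A : Set G) := Cfsg.Lib.Fusion.mem_normalizer_of_maps_finite fun a ha => by
    rw [← mem_centralizer_iff.1 L.zA a ha, mul_inv_cancel_right]; exact ha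
  -- nilpotency: `z` inverts `K` modulo `A`
  have hnil : Group.IsNilpotent K := by
    haveI hAn : (A.subgroupOf K).Normal := ⟨fun a ha g => by
      rw [mem_subgroupOf] at ha ⊢
      show (g : G) * a * (g : G)⁻¹ ∈ A
      rw [← mem_centralizer_iff.1 (hKCA g.2) a ha, mul_inv_cancel_right]; exact ha⟩
    have hconjK : ∀ v ∈ K, z * v * z⁻¹ ∈ K := fun v hv => (mem_normalizer_iff.1 (hKn hzN) v).1 hv
    let σ : K → K := fun v => ⟨z * v * z⁻¹, hconjK v v.2⟩
    have hσ : ∀ v w : K, σ (v * w) = σ v * σ w := fun v w => Subtype.ext (by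
      show z * ((v : G) * w) * z⁻¹ = z * v * z⁻¹ * (z * w * z⁻¹); group)
    -- the map `v ↦ v⁻¹ σ v` gives all cosets of `A`
    let Q := K ⧸ A.subgroupOf K
    have hzz : z * z = 1 := by rw [← pow_two, ← L.z_ord, pow_orderOf_eq_one]
    let τ : Q → Q := QuotientGroup.map (A.subgroupOf K) (A.subgroupOf K)
      ({ toFun := σ, map_one' := Subtype.ext (show z * 1 * z⁻¹ = 1 by group), map_mul' := hσ } : K →* K)
      (fun a ha => by
        rw [mem_comap, mem_subgroupOf]
        show z * (a : G) * z⁻¹ ∈ A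
        exact (mem_normalizer_iff.1 hzN _).1 ha)
    have hoddA : Odd (Nat.card A) := L.cardA.symm ▸ hsub
    have hfixQ : ∀ q : Q, τ q = q → q = 1 := by
      intro q hq
      obtain ⟨v, rfl⟩ := QuotientGroup.mk_surjective q
      have h' : v⁻¹ * σ v ∈ A.subgroupOf K := QuotientGroup.eq.1 hq.symm
      rw [mem_subgroupOf] at h'
      set a : G := ((v⁻¹ * σ v : K) : G) with ha
      have hva : z * (v : G) * z⁻¹ = v * a := by
        rw [ha]; show z * (v : G) * z⁻¹ = v * ((v : G)⁻¹ * (z * v * z⁻¹)); group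
      have haz : z * a * z⁻¹ = a := by rw [← mem_centralizer_iff.1 L.zA a h', mul_inv_cancel_right]
      have ha2 : a * a = 1 := by
        have hvv : z * (z * (v : G) * z⁻¹) * z⁻¹ = v := by
          rw [show z * (z * (v : G) * z⁻¹) * z⁻¹ = z * z * v * (z * z)⁻¹ by group, hzz]; group
        rw [hva, show z * ((v : G) * a) * z⁻¹ = z * v * z⁻¹ * (z * a * z⁻¹) by group, hva, haz, mul_assoc] at hvv
        exact mul_eq_left.1 hvv
      have ha1 : a = 1 := by
        have ho : orderOf a ∣ 2 := orderOf_dvd_of_pow_eq_one (by rw [pow_two]; exact ha2)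
        have := Nat.eq_one_of_dvd_coprimes (Nat.coprime_two_left.2 hoddA) ho (A.orderOf_dvd_natCard h')
        exact orderOf_eq_one_iff.1 this
      rw [ha1, mul_one] at hva
      exact (QuotientGroup.eq_one_iff v).2 (mem_subgroupOf.2
        (hfix v v.2 (mul_inv_eq_iff_eq_mul.1 hva).symm))
    have hττ : ∀ q : Q, τ (τ q) = q := by
      intro q
      obtain ⟨v, rfl⟩ := QuotientGroup.mk_surjective q
      refine congrArg QuotientGroup.mk (Subtype.ext ?_)
      show z * (z * (v : G) * z⁻¹) * z⁻¹ = v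
      rw [show z * (z * (v : G) * z⁻¹) * z⁻¹ = z * z * v * (z * z)⁻¹ by group, hzz]; group
    have hτmul : ∀ q r : Q, τ (q * r) = τ q * τ r := fun q r => map_mul _ q r
    have hcom : ∀ q r : Q, q * r = r * q := by
      have hsurj : Function.Surjective fun q : Q => q⁻¹ * τ q := Finite.injective_iff_surjective.1 fun q r h => by
        change q⁻¹ * τ q = r⁻¹ * τ r at h
        have : r * q⁻¹ = τ (r * q⁻¹) := by
          have h1 : τ q = q * (r⁻¹ * τ r) := by rw [← h]; group
          have h2 : τ (r * q⁻¹) * τ q = τ r := by rw [← hτmul, inv_mul_cancel_right]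
          rw [h1] at h2
          calc r * q⁻¹ = τ r * (q * (r⁻¹ * τ r))⁻¹ := by group
            _ = τ (r * q⁻¹) := by rw [eq_mul_inv_of_mul_eq h2]
        exact (mul_inv_eq_one.1 (hfixQ _ this.symm)).symm
      have hinv : ∀ q : Q, τ q = q⁻¹ := fun q => by
        obtain ⟨r, rfl⟩ := hsurj q
        refine eq_inv_of_mul_eq_one_left ?_
        show τ (r⁻¹ * τ r) * (r⁻¹ * τ r) = 1
        have h3 : τ r⁻¹ = (τ r)⁻¹ := eq_inv_of_mul_eq_one_left (by
          rw [← hτmul, inv_mul_cancel]; exact map_one _)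
        rw [hτmul, hττ, h3]; group
      intro q r
      have h := hinv (q * r)
      rw [hτmul, hinv, hinv, mul_inv_rev] at h
      exact (inv_injective (show (r * q)⁻¹ = (q * r)⁻¹ by rw [mul_inv_rev, mul_inv_rev, h])).symm
    letI : CommGroup (K ⧸ A.subgroupOf K) :=
      { (inferInstance : Group (K ⧸ A.subgroupOf K)) with mul_comm := hcom }
    haveI : Group.IsNilpotent (K ⧸ A.subgroupOf K) := CommGroup.isNilpotent
    refine Subgroup.isNilpotent_of_ker_le_center (QuotientGroup.mk' (A.subgroupOf K)) ?_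
    rw [QuotientGroup.ker_mk']
    intro a ha
    exact mem_center_iff.2 fun g => Subtype.ext (mem_centralizer_iff.1 (hKCA g.2) a (mem_subgroupOf.1 ha)).symm
  -- every element of the normaliser is in `K` times the centraliser of `z`
  have hfus : ∀ g ∈ normalizer (A : Set G), ∃ v ∈ K, Commute (v⁻¹ * g) z := by
    intro g hg
    have hw : g * z * g⁻¹ ∈ CA := mem_centralizer_iff.2 fun a ha => by
      have h1 : g⁻¹ * a * g ∈ A := by
        have := (mem_normalizer_iff.1 (inv_mem hg) a).1 ha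
        rwa [inv_inv] at this
      have h2 : g⁻¹ * a * g * z = z * (g⁻¹ * a * g) := mem_centralizer_iff.1 L.zA _ h1
      calc a * (g * z * g⁻¹) = g * (g⁻¹ * a * g * z) * g⁻¹ := by group
        _ = g * z * g⁻¹ * a := by rw [h2]; group
    have hwo : orderOf (g * z * g⁻¹) = 2 := by rw [← MulAut.conj_apply, MulEquiv.orderOf_eq, L.z_ord]
    obtain ⟨R, hR⟩ := (show IsPGroup 2 (zpowers (⟨_, hw⟩ : CA)) from IsPGroup.of_card (n := 1) (by
      rw [Nat.card_zpowers, Subgroup.orderOf_mk, hwo, pow_one])).exists_le_sylow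
    obtain ⟨c, hc⟩ := MulAction.exists_smul_eq CA P R
    obtain ⟨t, ht, hte⟩ : (⟨_, hw⟩ : CA) ∈ (P : Subgroup CA).map (MulAut.conj c).toMonoidHom := by
      have := hR (mem_zpowers _)
      rw [← hc] at this
      exact this
    have hcomp := (MonoidHom.ker_transferSylow_isComplement' P hle).mul_eq
    obtain ⟨v, hv, t', ht', rfl⟩ : c ∈ (φ.ker : Set CA) * (P : Set CA) := hcomp.symm ▸ Set.mem_univ c
    have htT : ((t : CA) : G) ∈ T := by rw [hPT] at ht; exact ht
    have htT' : ((t' : CA) : G) ∈ T := (hPT ▸ (show t' ∈ (P : Subgroup CA) from ht') : t' ∈ TC)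
    have hteq : g * z * g⁻¹ = (v : G) * (t' : G) * t * ((v : G) * (t' : G))⁻¹ := (congrArg Subtype.val hte).symm
    have htz : ((t : CA) : G) = z := invol_unique_cyclic htT hzT (by
      rw [← hwo, hteq, ← MulAut.conj_apply, MulEquiv.orderOf_eq]) L.z_ord
    refine ⟨v, ⟨v, hv, rfl⟩, mul_inv_eq_iff_eq_mul.1 ?_⟩
    have htz' : (t' : G) * z = z * t' := mem_centralizer_singleton_iff.1 (hTle htT').1
    rw [show (v : G)⁻¹ * g * z * ((v : G)⁻¹ * g)⁻¹ = (v : G)⁻¹ * (g * z * g⁻¹) * v by group, hteq, htz]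
    rw [show (v : G)⁻¹ * ((v : G) * (t' : G) * z * ((v : G) * (t' : G))⁻¹) * v = (t' : G) * z * (t' : G)⁻¹ by group,
      htz', mul_inv_cancel_right]
  have hKN : K ≤ normalizer (A : Set G) := fun v hv => Cfsg.Lib.Fusion.mem_normalizer_of_maps_finite fun a ha => by
    rw [← mem_centralizer_iff.1 (hKCA hv) a ha, mul_inv_cancel_right]; exact ha
  refine ⟨K, hAK, hKCA, hKn, hKodd, hnil, hfix, hfus, hzN, ?_, ?_⟩
  · set N := normalizer (A : Set G) with hN
    set CN := C ⊓ N with hCN
    have hcap : K ⊓ CN = A := le_antisymm (fun v hv => hfix v hv.1 (mem_centralizer_singleton_iff.1 hv.2.1))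
      (le_inf hAK (le_inf hAC le_normalizer))
    let f : K × CN → N := fun q => ⟨(q.1 : G) * q.2, N.mul_mem (hKN q.1.2) q.2.2.2⟩
    let φA : A → K × CN := fun a => (⟨a, hAK a.2⟩, ⟨a, hAC a.2, le_normalizer a.2⟩)
    have hsurj : Function.Surjective f := fun g => by
      obtain ⟨v, hv, hvg⟩ := hfus g g.2
      exact ⟨(⟨v, hv⟩, ⟨v⁻¹ * g, mem_centralizer_singleton_iff.2 hvg.eq, N.mul_mem (N.inv_mem (hKN hv)) g.2⟩),
        Subtype.ext (mul_inv_cancel_left v (g : G))⟩
    have hfib : ∀ g : N, Nat.card {q : K × CN // f q = g} = s := by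
      intro g
      obtain ⟨q₀, hq₀⟩ := hsurj g
      rw [← L.cardA]
      refine (Nat.card_congr
        { toFun := fun a : A => (⟨(q₀.1 * (φA a).1, (φA a).2⁻¹ * q₀.2), by
            rw [← hq₀]; refine Subtype.ext ?_
            show (q₀.1 : G) * a * ((a : G)⁻¹ * q₀.2) = q₀.1 * q₀.2
            group⟩ : {q : K × CN // f q = g})
          invFun := fun q => ⟨(q₀.1 : G)⁻¹ * q.1.1, by
            have h : (q₀.1 : G) * q₀.2 = (q.1.1 : G) * q.1.2 := congrArg Subtype.val (hq₀.trans q.2.symm)
            refine hcap.le ⟨K.mul_mem (K.inv_mem q₀.1.2) q.1.1.2, ?_⟩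
            have h' : (q₀.1 : G)⁻¹ * q.1.1 = q₀.2 * (q.1.2 : G)⁻¹ := by
              rw [eq_mul_inv_iff_mul_eq, mul_assoc, ← h, inv_mul_cancel_left]
            rw [h']
            exact CN.mul_mem q₀.2.2 (CN.inv_mem q.1.2.2)⟩
          left_inv := fun a => Subtype.ext (show (q₀.1 : G)⁻¹ * ((q₀.1 : G) * a) = a by group)
          right_inv := fun q => Subtype.ext (Prod.ext (Subtype.ext (by
              show (q₀.1 : G) * ((q₀.1 : G)⁻¹ * q.1.1) = q.1.1
              group)) (Subtype.ext (by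
              have h : (q₀.1 : G) * q₀.2 = (q.1.1 : G) * q.1.2 := congrArg Subtype.val (hq₀.trans q.2.symm)
              show ((q₀.1 : G)⁻¹ * q.1.1)⁻¹ * q₀.2 = q.1.2
              rw [mul_inv_rev, inv_inv, mul_assoc, h, inv_mul_cancel_left]))) }).symm
    have h := Nat.card_congr (Equiv.sigmaFiberEquiv f)
    haveI := Fintype.ofFinite N
    rw [Nat.card_sigma, Finset.sum_congr rfl (fun g _ => hfib g), Finset.sum_const, Finset.card_univ,
      ← Nat.card_eq_fintype_card, smul_eq_mul, Nat.card_prod] at h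
    exact h
  · -- solvability
    set N := normalizer (A : Set G)
    haveI := hnil
    haveI : Group.IsSolvable φ.ker := Group.isSolvable_of_isSolvable_injective
      (f := (φ.ker.equivMapOfInjective CA.subtype CA.subtype_injective).toMonoidHom)
      (φ.ker.equivMapOfInjective CA.subtype CA.subtype_injective).injective
    haveI : Group.IsNilpotent (P : Subgroup CA) := P.2.isNilpotent
    haveI hCAs : Group.IsSolvable CA := Group.isSolvable_of_ker_le_range φ.ker.subtype φ
      (by rw [range_subtype])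
    let ψ : N →* MulAut A := A.normalizerMonoidHom
    haveI : Group.IsSolvable (MulAut A) := Group.isSolvable_of_comm Cfsg.Lib.RuSylow.aut_cyclic_comm
    have hker : ψ.ker ≤ (centralizer (A : Set G)).subgroupOf N := fun g hg => by
      rw [mem_subgroupOf, mem_centralizer_iff]
      intro a ha
      have h := congrArg (fun e : MulAut A => ((e ⟨a, ha⟩ : A) : G)) (MonoidHom.mem_ker.1 hg)
      have h' : (g : G) * a * (g : G)⁻¹ = a := h
      exact (mul_inv_eq_iff_eq_mul.1 h').symm
    haveI : Group.IsSolvable ((centralizer (A : Set G)).subgroupOf N) :=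
      Group.isSolvable_of_isSolvable_injective
        (f := (Subgroup.subgroupOfEquivOfLe (show centralizer (A : Set G) ≤ N from
          centralizer_le_normalizer _)).toMonoidHom)
        (Subgroup.subgroupOfEquivOfLe _).injective
    exact Group.isSolvable_of_ker_le_range ((centralizer (A : Set G)).subgroupOf N).subtype ψ
      (by rw [range_subtype]; exact hker)

end Cfsg.Lib.LenSeven
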