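import Cfsg.Agent.LenSeven.QdTop
import Cfsg.Agent.LenSeven.QdLocal
import Cfsg.Agent.SemiCyclic.Model.Main

/-!
The two local configurations in the centralizer of the involution when its odd core is trivial.
-/

set_option autoImplicit false
set_option linter.style.haveILetI false
set_option linter.unusedSectionVars false

namespace Cfsg.Lib.LenSeven

open Subgroup
open scoped MatrixGroups
open Cfsg.Lib.SemiCyclic (TopData Geo Rep sgnPrime)

universe u

theorem topData_congr {H H' : Type u} [Group H] [Group H'] (f : H ≃* H') {z : H} {z' : H'} (hz : f z = z') {p : ℕ}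
    (hT : TopData H z p) : TopData H' z' p := by
  obtain ⟨hp, h3, hzo, hc, ⟨N, hN, hi, ⟨e⟩, u, huN, hu⟩, hsd⟩ := hT
  refine ⟨hp, h3, ?_, ?_, ⟨N.map f.toMonoidHom, hN.map _ f.surjective, ?_, ⟨?_⟩, f u, ?_, ?_⟩, ?_⟩
  · rw [← hz, MulEquiv.orderOf_eq, hzo]
  · rw [mem_center_iff] at hc ⊢
    intro g
    obtain ⟨v, rfl⟩ := f.surjective g
    rw [← hz, ← map_mul, ← map_mul, hc v]
  · exact (index_map_equiv N f).trans hi
  · exact (N.equivMapOfInjective f.toMonoidHom f.injective).symm.trans e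
  · rintro ⟨v, hv, h⟩
    exact huN (f.injective h ▸ hv)
  · rw [MulEquiv.orderOf_eq, hu]
  · intro S
    set S₀ : Sylow 2 H := S.comapOfInjective f.toMonoidHom f.injective (fun v _ => f.surjective v)
    refine Cfsg.Lib.SemiCyclic.qd_congr ?_ (hsd S₀)
    exact (S₀.equivMapOfInjective f.toMonoidHom f.injective).trans
      (MulEquiv.subgroupCongr (map_comap_eq_self_of_surjective f.surjective _))

variable {G : Type u} [Group G] [Finite G]

theorem QdData.geo {z : G} {p : ℕ} (D : QdData z p) (hK : Cfsg.oddCore ↥(centralizer ({z} : Set G)) = ⊥)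
    [Fintype ↥(centralizer ({z} : Set G))] :
    Nonempty (Geo ↥(centralizer ({z} : Set G)) ⟨z, mem_centralizer_singleton_iff.2 rfl⟩ p) := by
  have hT : TopData ↥(centralizer ({z} : Set G)) ⟨z, mem_centralizer_singleton_iff.2 rfl⟩ p :=
    topData_congr ((QuotientGroup.quotientMulEquivOfEq hK).trans QuotientGroup.quotientBot) rfl D.top
  obtain ⟨hp, h3, hzo, hc, ⟨N, -, hi, ⟨e⟩, u, huN, hu⟩, hsd⟩ := hT
  haveI := Fact.mk hp
  let R : Rep ↥(centralizer ({z} : Set G)) ⟨z, mem_centralizer_singleton_iff.2 rfl⟩ p :=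
    ⟨N, hi, e, by omega, hzo, hc, hsd⟩
  exact R.nonempty_geo hu huN h3

theorem QdData.card_cent {z : G} {p : ℕ} (D : QdData z p) (hK : Cfsg.oddCore ↥(centralizer ({z} : Set G)) = ⊥) :
    Nat.card ↥(centralizer ({z} : Set G)) = 2 * p * (p ^ 2 - 1) := by
  letI := Fintype.ofFinite ↥(centralizer ({z} : Set G))
  obtain ⟨Γ⟩ := D.geo hK
  have h := Γ.card
  have h1 : 1 ≤ p ^ 2 := Nat.one_le_pow _ _ Γ.prime.pos
  zify [h1]
  exact h

/-- A cyclic subgroup and its normaliser in a subgroup. -/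
theorem centralizer_zpowers_eq (x : G) : centralizer (zpowers x : Set G) = centralizer ({x} : Set G) := by
  refine le_antisymm (centralizer_le (Set.singleton_subset_iff.2 (mem_zpowers x))) fun g hg => ?_
  refine mem_centralizer_iff.2 fun h hh => ?_
  obtain ⟨k, rfl⟩ := mem_zpowers_iff.1 hh
  exact ((show Commute g x from mem_centralizer_singleton_iff.1 hg).zpow_right k).eq.symm

theorem card_inf_centralizer_val (C : Subgroup G) (x : C) :
    Nat.card ↥(C ⊓ centralizer ({(x : G)} : Set G)) = Nat.card ↥(centralizer ({x} : Set C)) := by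
  rw [← card_map_of_injective C.subtype_injective]
  congr 2
  ext v
  simp only [mem_inf, mem_centralizer_singleton_iff, mem_map, Subgroup.coe_subtype]
  exact ⟨fun ⟨h1, h2⟩ => ⟨⟨v, h1⟩, Subtype.ext h2, rfl⟩,
    fun ⟨w, hw, e⟩ => e ▸ ⟨w.2, congrArg Subtype.val hw⟩⟩

theorem QdData.torus {z : G} {p a : ℕ} (D : QdData z p) (hK : Cfsg.oddCore ↥(centralizer ({z} : Set G)) = ⊥)
    (ha : a.Prime) (ha2 : a ≠ 2) (hpa : p + 1 = 4 * a ∨ p = 4 * a + 1) :
    ∃ A : Subgroup G, Local z A a 3 ∧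
      Nat.card ↥(centralizer ({z} : Set G) ⊓ normalizer (A : Set G)) = 16 * a := by
  classical
  haveI := Fact.mk ha
  letI := Fintype.ofFinite ↥(centralizer ({z} : Set G))
  obtain ⟨Γ⟩ := D.geo hK
  set C := centralizer ({z} : Set G) with hC
  set zC : C := ⟨z, mem_centralizer_singleton_iff.2 rfl⟩
  obtain ⟨o, ho⟩ := ha.odd_of_ne_two ha2
  have hT : Nat.card Γ.T = 8 * a := by
    rw [Γ.T_card]
    unfold sgnPrime
    split_ifs <;> omega
  have hk : 2 ^ (Γ.k + 1) = 8 := by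
    have h1 := Γ.T_two
    rw [hT] at h1
    have hk2 := Γ.two_le_k
    rcases (show Γ.k = 2 ∨ 3 ≤ Γ.k by omega) with h | h
    · rw [h]; norm_num
    · obtain ⟨j, hj⟩ : ∃ j, 2 ^ (Γ.k + 1) = 16 * j := ⟨2 ^ (Γ.k - 3), by
        rw [show (16 : ℕ) = 2 ^ 4 by norm_num, ← pow_add]; congr 1; omega⟩
      rw [hj, mul_assoc] at h1
      generalize j * Γ.m = e at h1
      omega
  obtain ⟨⟨t, htT⟩, ht⟩ := exists_prime_orderOf_dvd_card' (G := Γ.T) a (hT ▸ dvd_mul_left a 8)
  rw [Subgroup.orderOf_mk] at ht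
  have ht1 : t ≠ 1 := fun h => by rw [h, orderOf_one] at ht; exact ha.one_lt.ne ht
  have htz : t ≠ zC := fun h => by rw [h, Γ.z_ord] at ht; omega
  have htN : t ∈ Γ.N := by
    by_contra h
    have h2 : ∀ j, t ^ (2 * j) ∈ Γ.N := fun j => by
      rw [pow_mul, pow_two]; exact pow_mem (mul_self_mem_of_index_two Γ.N_index t) j
    have h1 : t ^ (2 * o + 1) = 1 := by rw [← ho, ← ht, pow_orderOf_eq_one]
    rw [pow_succ] at h1
    exact h (eq_inv_of_mul_eq_one_right h1 ▸ inv_mem (h2 o))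
  set A : Subgroup G := zpowers (t : G) with hA
  have hta : orderOf (t : G) = a := by rw [Subgroup.orderOf_coe, ht]
  have hcent : Nat.card ↥(C ⊓ centralizer (A : Set G)) = 2 ^ 3 * a := by
    rw [hA, centralizer_zpowers_eq, card_inf_centralizer_val, Γ.T_cent t htT ht1 htz, hT]
    norm_num
  refine ⟨A, ⟨D.z_ord, ha, ha2, by rw [hA, Nat.card_zpowers, hta], ?_, ⟨zpowers (Γ.a : G), ?_, ?_, ?_, ?_⟩, hcent⟩,
    ?_⟩
  · rw [hA, centralizer_zpowers_eq, mem_centralizer_singleton_iff]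
    exact (mem_centralizer_singleton_iff.1 t.2).symm
  · rw [zpowers_le, mem_inf, hA, centralizer_zpowers_eq]
    exact ⟨Γ.a.2, mem_centralizer_singleton_iff.2 (congrArg Subtype.val (Γ.T_comm _ Γ.a_T _ htT))⟩
  · infer_instance
  · exact ⟨(2 : ℤ) ^ Γ.k, by
      have h := congrArg Subtype.val Γ.a_half
      rw [SubmonoidClass.coe_pow] at h
      show (Γ.a : G) ^ ((2 : ℤ) ^ Γ.k) = z
      rw [show ((2 : ℤ) ^ Γ.k) = ((2 ^ Γ.k : ℕ) : ℤ) by push_cast; rfl, zpow_natCast]
      exact h⟩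
  · rw [Nat.card_zpowers, Subgroup.orderOf_coe, Γ.a_ord, hk]; norm_num
  -- the normaliser in `C`
  have hmem : ∀ g : C, (g : G) ∈ normalizer (A : Set G) ↔ g ∈ Γ.T ∨ Γ.w * g ∈ Γ.T := by
    have hz : ∀ v : C, v ∈ zpowers t ↔ (v : G) ∈ A := fun v => by
      constructor
      · rintro ⟨i, rfl⟩; exact ⟨i, (SubgroupClass.coe_zpow t i).symm⟩
      · rintro ⟨i, hi⟩; exact ⟨i, Subtype.ext ((SubgroupClass.coe_zpow t i).trans hi)⟩
    intro g
    constructor
    · intro hg
      refine Γ.T_norm t htT ht1 htz g ?_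
      exact zpowers_le.2 htT ((hz (g * t * g⁻¹)).2 ((mem_normalizer_iff.1 hg _).1 (mem_zpowers _)))
    · intro hg
      refine Cfsg.Lib.Fusion.mem_normalizer_of_maps_finite ?_
      rintro _ ⟨i, rfl⟩
      have key : g * t * g⁻¹ ∈ zpowers t := by
        rcases hg with hg | hg
        · rw [Γ.T_comm g hg t htT, mul_inv_cancel_right]; exact mem_zpowers t
        · have h1 : Γ.w * g * t * (Γ.w * g)⁻¹ = t := by rw [Γ.T_comm _ hg t htT, mul_inv_cancel_right]
          have h2 : g * t * g⁻¹ = Γ.w⁻¹ * t * Γ.w := by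
            calc g * t * g⁻¹ = Γ.w⁻¹ * (Γ.w * g * t * (Γ.w * g)⁻¹) * Γ.w := by group
              _ = _ := by rw [h1]
          have h3 := Γ.w_conj t htT htN
          rw [h2, Γ.w_inv]
          rw [Γ.w_inv] at h3
          rw [h3]
          exact inv_mem (mem_zpowers t)
      have key' := (hz _).1 key
      have e : (g : G) * (t : G) ^ i * (g : G)⁻¹ = ((g : G) * t * (g : G)⁻¹) ^ i := conj_zpow.symm
      show (g : G) * (t : G) ^ i * (g : G)⁻¹ ∈ A
      rw [e]
      exact zpow_mem key' i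
  have hw : ∀ v : C, v ∈ Γ.T → Γ.w * v ∉ Γ.T := fun v hv h =>
    Γ.w_not_T (by simpa using mul_mem h (inv_mem hv))
  let f : Γ.T ⊕ Γ.T → ↥(C ⊓ normalizer (A : Set G)) := fun q => match q with
    | .inl v => ⟨((v : C) : G), (v : C).2, (hmem v).2 (Or.inl v.2)⟩
    | .inr v => ⟨((Γ.w * (v : C) : C) : G), (Γ.w * (v : C)).2, (hmem _).2 (Or.inr (by
        rw [← mul_assoc, show Γ.w * Γ.w = 1 by rw [← pow_two]; exact orderOf_dvd_iff_pow_eq_one.1 (dvd_of_eq Γ.w_ord),
          one_mul]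
        exact v.2))⟩
  rw [← Nat.card_congr (Equiv.ofBijective f ⟨?_, ?_⟩), Nat.card_sum, hT]
  · omega
  · intro q r h
    have h' := congrArg (fun v : ↥(C ⊓ normalizer (A : Set G)) => (v : G)) h
    rcases q with v | v <;> rcases r with v' | v'
    · exact congrArg Sum.inl (Subtype.ext (Subtype.ext h'))
    · exact absurd ((Subtype.ext h' : (v : C) = Γ.w * (v' : C)) ▸ v.2) (hw v' v'.2)
    · exact absurd ((Subtype.ext h' : Γ.w * (v : C) = (v' : C)).symm ▸ v'.2) (hw v v.2)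
    · exact congrArg Sum.inr (Subtype.ext (mul_left_cancel (Subtype.ext h' : Γ.w * (v : C) = Γ.w * (v' : C))))
  · rintro ⟨g, hgC, hgN⟩
    rcases (hmem ⟨g, hgC⟩).1 hgN with h | h
    · exact ⟨.inl ⟨_, h⟩, rfl⟩
    · refine ⟨.inr ⟨_, h⟩, Subtype.ext ?_⟩
      show (((Γ.w * (Γ.w * ⟨g, hgC⟩)) : C) : G) = ((⟨g, hgC⟩ : C) : G)
      refine congrArg Subtype.val ?_
      rw [← mul_assoc, show Γ.w * Γ.w = 1 by rw [← pow_two]; exact orderOf_dvd_iff_pow_eq_one.1 (dvd_of_eq Γ.w_ord),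
        one_mul]

theorem QdData.unipotent {z : G} {p : ℕ} (D : QdData z p) (hK : Cfsg.oddCore ↥(centralizer ({z} : Set G)) = ⊥) :
    ∃ W : Subgroup G, Local z W p 1 ∧
      Nat.card ↥(centralizer ({z} : Set G) ⊓ normalizer (W : Set G)) = 2 * p * (p - 1) ∧
      (p = 5 → ∃ h ∈ centralizer ({z} : Set G) ⊓ normalizer (W : Set G), orderOf h = 8 ∧ h ^ 4 = z) := by
  classical
  letI := Fintype.ofFinite ↥(centralizer ({z} : Set G))
  obtain ⟨Γ⟩ := D.geo hK
  haveI := Fact.mk Γ.prime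
  set C := centralizer ({z} : Set G) with hC
  set zC : C := ⟨z, mem_centralizer_singleton_iff.2 rfl⟩
  set W : Subgroup G := zpowers (Γ.x : G) with hW
  have hxo : orderOf (Γ.x : G) = p := by rw [Subgroup.orderOf_coe, Γ.x_ord]
  have hWc : Nat.card W = p := by rw [hW, Nat.card_zpowers, hxo]
  have hcent : Nat.card ↥(C ⊓ centralizer (W : Set G)) = 2 * p := by
    rw [hW, centralizer_zpowers_eq, card_inf_centralizer_val, Γ.x_cent]
  have hzW : z ∈ centralizer (W : Set G) := by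
    rw [hW, centralizer_zpowers_eq, mem_centralizer_singleton_iff]
    exact (mem_centralizer_singleton_iff.1 Γ.x.2).symm
  have hloc : Local z W p 1 := by
    refine ⟨D.z_ord, Γ.prime, by have := Γ.three_le; omega, hWc, hzW, ⟨zpowers z, ?_, ?_, mem_zpowers z, ?_⟩,
      by rw [hcent, pow_one]⟩
    · exact zpowers_le.2 ⟨mem_centralizer_singleton_iff.2 rfl, hzW⟩
    · infer_instance
    · rw [Nat.card_zpowers, D.z_ord, pow_one]
  -- the action on `W`
  set M := C ⊓ normalizer (W : Set G) with hM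
  let ψ : M →* MulAut W := W.normalizerMonoidHom.comp (inclusion inf_le_right)
  have hval : ∀ (g : M) (v : W), ((ψ g v : W) : G) = (g : G) * v * (g : G)⁻¹ := fun g v => rfl
  haveI : IsCyclic W := isCyclic_of_prime_card hWc
  have hker : ψ.ker = (C ⊓ centralizer (W : Set G)).subgroupOf M := by
    ext g
    rw [MonoidHom.mem_ker, mem_subgroupOf, mem_inf, mem_centralizer_iff]
    constructor
    · intro h
      refine ⟨g.2.1, fun v hv => ?_⟩
      have h' : (g : G) * v * (g : G)⁻¹ = v := by rw [← hval g ⟨v, hv⟩, h]; rfl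
      exact (mul_inv_eq_iff_eq_mul.1 h').symm
    · intro h
      ext v
      rw [hval, ← h.2 v v.2, mul_inv_cancel_right]
      rfl
  have hsurj : Function.Surjective ψ := fun φ => by
    set xw : W := ⟨Γ.x, mem_zpowers _⟩
    set y : W := φ xw
    have hyC : (y : G) ∈ C := by
      obtain ⟨i, hi⟩ := y.2
      exact hi ▸ zpow_mem Γ.x.2 i
    have hy : orderOf (⟨(y : G), hyC⟩ : C) = p := by
      rw [Subgroup.orderOf_mk, Subgroup.orderOf_coe, MulEquiv.orderOf_eq, Subgroup.orderOf_mk, hxo]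
    obtain ⟨g, hg⟩ := isConj_iff.1 (Γ.x_conj _ hy)
    have hg' : (g : G) * Γ.x * (g : G)⁻¹ = y := congrArg Subtype.val hg
    have hgN : (g : G) ∈ normalizer (W : Set G) := Cfsg.Lib.Fusion.mem_normalizer_of_maps_finite (by
      rintro _ ⟨i, rfl⟩
      show (g : G) * (Γ.x : G) ^ i * (g : G)⁻¹ ∈ W
      rw [← conj_zpow, hg']
      exact zpow_mem y.2 i)
    refine ⟨⟨g, g.2, hgN⟩, ?_⟩
    ext v
    obtain ⟨v, hv⟩ := v
    obtain ⟨i, rfl⟩ := hv
    rw [hval]
    show (g : G) * (Γ.x : G) ^ i * (g : G)⁻¹ = _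
    rw [← conj_zpow, hg', show (⟨(Γ.x : G) ^ i, _⟩ : W) = xw ^ i from Subtype.ext rfl, map_zpow]
    rfl
  have hcard : Nat.card M = 2 * p * (p - 1) := by
    have h := ψ.ker.card_mul_index
    rw [index_ker, MonoidHom.range_eq_top.2 hsurj, card_top, IsCyclic.card_mulAut, hWc,
      Nat.totient_prime Γ.prime, hker, Nat.card_congr (subgroupOfEquivOfLe
        (show C ⊓ centralizer (W : Set G) ≤ M from inf_le_inf_left C (centralizer_le_normalizer _))).toEquiv,
      hcent] at h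
    exact h.symm
  refine ⟨W, hloc, hcard, ?_⟩
  rintro rfl
  -- an element of order 4 modulo the centralizer
  obtain ⟨φ, hφ⟩ : ∃ φ : MulAut W, orderOf φ = 4 := by
    have hc4 : Nat.card (MulAut W) = 4 := by
      rw [IsCyclic.card_mulAut, hWc, Nat.totient_prime Γ.prime]
    let e := IsCyclic.mulAutMulEquiv W
    haveI : Fact (Nat.Prime 5) := ⟨by norm_num⟩
    haveI : IsCyclic (ZMod (Nat.card W))ˣ := by rw [hWc]; infer_instance
    haveI : IsCyclic (MulAut W) := e.isCyclic.2 inferInstance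
    obtain ⟨φ, hφ⟩ := IsCyclic.exists_generator (α := MulAut W)
    exact ⟨φ, by rw [orderOf_eq_card_of_forall_mem_zpowers hφ, hc4]⟩
  obtain ⟨g, hg⟩ := hsurj φ
  set h := g ^ 5 with hh
  have hψh : ψ h = φ := by
    rw [hh, map_pow, hg, pow_succ, ← hφ, pow_orderOf_eq_one, one_mul]
  have hd : orderOf (g : G) ∣ 40 := by
    rw [Subgroup.orderOf_coe]
    exact (orderOf_dvd_natCard g).trans (by rw [hcard])
  have h8 : (h : G) ^ 8 = 1 := by
    rw [hh, SubmonoidClass.coe_pow, ← pow_mul]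
    exact orderOf_dvd_iff_pow_eq_one.1 hd
  have h4 : ∀ {e : ℕ}, 4 ∣ e ↔ h ^ e ∈ ψ.ker := fun {e} => by
    rw [MonoidHom.mem_ker, map_pow, hψh, ← orderOf_dvd_iff_pow_eq_one, hφ]
  have hz4 : (h : G) ^ 4 = 1 ∨ (h : G) ^ 4 = z := by
    have hm : h ^ 4 ∈ ψ.ker := h4.1 dvd_rfl
    rw [hker, mem_subgroupOf] at hm
    haveI : Fact (Nat.Prime 2) := ⟨Nat.prime_two⟩
    by_contra hne
    push Not at hne
    set v : ↥(C ⊓ centralizer (W : Set G)) := ⟨((h ^ 4 : M) : G), hm⟩
    set zz : ↥(C ⊓ centralizer (W : Set G)) := ⟨z, mem_centralizer_singleton_iff.2 rfl, hzW⟩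
    have hv2 : orderOf v = 2 := by
      refine orderOf_eq_prime (Subtype.ext ?_) fun e => hne.1 ?_
      · show ((h : G) ^ 4) ^ 2 = 1
        rw [← pow_mul]; exact h8
      · exact congrArg Subtype.val e
    have hz2 : orderOf zz = 2 := (Subgroup.orderOf_mk _ _).trans D.z_ord
    have hcm : v * zz = zz * v := Subtype.ext (mem_centralizer_singleton_iff.1 hm.1)
    have hkl := Cfsg.Lib.Classical.PSLFour.four_klein (a := v) (b := zz)
      (by rw [← pow_two]; exact orderOf_dvd_iff_pow_eq_one.1 (dvd_of_eq hv2))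
      (by rw [← pow_two]; exact orderOf_dvd_iff_pow_eq_one.1 (dvd_of_eq hz2)) hcm
      (fun e => by rw [e, orderOf_one] at hv2; omega) (fun e => by rw [e, orderOf_one] at hz2; omega)
      (fun e => hne.2 (congrArg Subtype.val e))
    have h1 := card_subgroup_dvd_card (Subgroup.closure ({v, zz} : Set ↥(C ⊓ centralizer (W : Set G))))
    rw [hkl.card_four, hcent] at h1
    omega
  rcases hz4 with h1 | h1
  · exfalso
    -- then `h ^ 2` is an involution outside, centralized by `h`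
    set hC4 : C := ⟨(h : G), h.2.1⟩
    set v : C := hC4 ^ 2
    have hvk : ¬ h ^ 2 ∈ ψ.ker := fun hm => by
      have := h4.2 hm
      omega
    have hv2 : orderOf v = 2 := by
      refine orderOf_eq_prime (Subtype.ext ?_) fun e => hvk ?_
      · show ((h : G) ^ 2) ^ 2 = 1
        rw [← pow_mul]; exact h1
      · rw [show h ^ 2 = 1 from Subtype.ext (show (h : G) ^ 2 = 1 from congrArg Subtype.val e)]
        exact one_mem _
    have hvz : v ≠ zC := fun e => hvk (by
      rw [hker, mem_subgroupOf, show ((h ^ 2 : M) : G) = z from congrArg Subtype.val e]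
      exact ⟨mem_centralizer_singleton_iff.2 rfl, hzW⟩)
    obtain ⟨c, hc⟩ := isConj_iff.1 (Γ.isConj_u hv2 hvz)
    set k := c⁻¹ * hC4 * c
    have hk2 : k ^ 2 = Γ.u := by
      rw [show k = c⁻¹ * hC4 * c⁻¹⁻¹ by simp [k], conj_pow, show hC4 ^ 2 = v from rfl, ← hc]; group
    have hkS : k ∈ Γ.S := by
      rw [← Γ.S_cent _ Γ.u_S Γ.u_ne.1 Γ.u_ne.2, mem_centralizer_singleton_iff, ← hk2]
      exact (Commute.self_pow k 2).eq
    have hS12 : Nat.card Γ.S = 12 := by rw [Γ.S_card]; rfl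
    have h3 : (k : C) ^ 3 ∈ Γ.four := by
      have := Γ.pow_sOdd_mem hkS
      rwa [show Cfsg.Lib.SemiCyclic.Geo.sOdd 5 = 3 by have := Γ.sOdd_odd.2; omega] at this
    have hsq : (k ^ 3) ^ 2 = 1 := by
      rcases Γ.mem_four.1 h3 with e | e | e | e <;> rw [e]
      · exact one_pow 2
      · rw [pow_two, Γ.u_sq]
      · rw [pow_two, Γ.z_sq]
      · rw [pow_two, show Γ.u * zC * (Γ.u * zC) = Γ.u * (zC * Γ.u) * zC by group, ← Γ.z_comm,
          show Γ.u * (Γ.u * zC) * zC = (Γ.u * Γ.u) * (zC * zC) by group, Γ.u_sq, Γ.z_sq, one_mul]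
    rw [← pow_mul, show 3 * 2 = 2 * 3 by norm_num, pow_mul, hk2, pow_succ, pow_two, Γ.u_sq, one_mul] at hsq
    exact Γ.u_ne.1 hsq
  · refine ⟨h, h.2, ?_, h1⟩
    refine orderOf_eq_prime_pow (p := 2) (n := 2) ?_ (by norm_num; exact h8)
    norm_num
    rw [h1]
    intro e
    rw [e] at hzW
    have := D.z_ord
    rw [e, orderOf_one] at this
    omega

end Cfsg.Lib.LenSeven
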