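import Cfsg.Agent.LenSeven.QdBound

/-!
No group has the centralizer `SL(2, p).2` with `p ≥ 13`.
-/

set_option autoImplicit false
set_option linter.style.haveILetI false
set_option linter.unusedSectionVars false

namespace Cfsg.Lib.LenSeven

open Subgroup
open scoped ArithmeticFunction.Omega
open Cfsg.Lib.SemiCyclic (sgnPrime)

universe u

variable {G : Type u} [Group G] [Finite G] [IsSimpleGroup G] {z : G} {p : ℕ}

theorem large_false (hna : ¬ IsMulCommutative G) (hG : Short G) (D : QdData z p)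
    (hK : Cfsg.oddCore ↥(centralizer ({z} : Set G)) = ⊥) (h13 : 13 ≤ p) (hOm : Ω (p - 1) = 3) {a : ℕ}
    (ha : a.Prime) (ha2 : a ≠ 2) (hpa : p + 1 = 4 * a ∨ p = 4 * a + 1) : False := by
  classical
  obtain ⟨o, ho⟩ := ha.odd_of_ne_two ha2
  have hp : p.Prime := D.top.prime
  obtain ⟨f, g, hf, hf0, hg, hidx, hord⟩ := D.counts hna hK
  set Q := sgnPrime p with hQdef
  have hQ : (Q = p ∧ p + 1 = 4 * a) ∨ (Q = -(p : ℤ) ∧ p = 4 * a + 1) := by
    rw [hQdef, sgnPrime]
    rcases hpa with h | h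
    · rw [if_pos (by omega)]; exact Or.inl ⟨rfl, h⟩
    · rw [if_neg (by omega)]; exact Or.inr ⟨rfl, h⟩
  obtain ⟨a', ha', hS⟩ : ∃ a' : ℤ, a'.natAbs = a ∧ Q + 1 = 4 * a' := by
    rcases hQ with ⟨e, h⟩ | ⟨e, h⟩
    · exact ⟨a, by simp, by rw [e]; exact_mod_cast h⟩
    · exact ⟨-a, by simp, by rw [e, h]; push_cast; ring⟩
  have hQp : Prime Q := by
    rw [Int.prime_iff_natAbs_prime, hQdef, Cfsg.Lib.SemiCyclic.natAbs_sgnPrime]
    exact hp
  have hGc : Nat.card G = (centralizer ({z} : Set G)).index * (2 * p * (p ^ 2 - 1)) := by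
    rw [← D.card_cent hK, index_mul_card]
  have hsq : p ^ 2 - 1 = (p + 1) * (p - 1) := by have := Nat.sq_sub_sq p 1; simpa using this
  rcases index_cases hQp hS (by rw [ha']; exact ha) (by rw [ha']; exact ha2) hf hf0 hg hidx hord with h | h | h
  · -- the torus
    obtain ⟨A, L, hM⟩ := D.torus hK ha ha2 hpa
    have hai : a ^ 2 ∣ (centralizer ({z} : Set G)).index := by
      have := Int.natAbs_dvd_natAbs.2 h
      rwa [Int.natAbs_pow, ha', Int.natAbs_natCast] at this
    have h3 : a ^ 3 ∣ Nat.card G := by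
      rw [hGc, pow_succ]
      refine Nat.mul_dvd_mul hai (Dvd.dvd.mul_left ?_ _)
      rw [hsq]
      rcases hpa with e | e
      · exact Dvd.dvd.mul_right ⟨4, by rw [e]; ring⟩ _
      · exact Dvd.dvd.mul_left ⟨4, by rw [e, Nat.add_sub_cancel]; ring⟩ _
    refine (local_bound hna hG L ?_ ?_ ((Nat.pow_dvd_pow a (by norm_num)).trans h3)).1 h3
    · rw [hM, show (16 : ℕ) = 2 ^ 4 by norm_num, ArithmeticFunction.cardFactors_mul (by norm_num) ha.ne_zero,
        ArithmeticFunction.cardFactors_apply_prime_pow Nat.prime_two, ArithmeticFunction.cardFactors_apply_prime ha]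
    · rw [hM, pow_two]
      intro h'
      have h2 := (ha.coprime_iff_not_dvd.2 (fun hd => ha2
        ((Nat.prime_dvd_prime_iff_eq ha Nat.prime_two).1 (ha.dvd_of_dvd_pow (m := 2) (n := 4) hd)))).dvd_of_dvd_mul_right
        (show a ∣ 1 * 2 ^ 4 by
          have := Nat.dvd_of_mul_dvd_mul_right ha.pos h'
          simpa using this)
      exact ha.one_lt.ne' (Nat.dvd_one.1 h2)
  all_goals
    obtain ⟨W, L, hM, -⟩ := D.unipotent hK
    have hp1 : ¬ p ^ 2 ∣ Nat.card ↥(centralizer ({z} : Set G) ⊓ normalizer (W : Set G)) := by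
      rw [hM, pow_two, show 2 * p * (p - 1) = p * (2 * (p - 1)) by ring]
      intro h'
      rcases hp.dvd_mul.1 (Nat.dvd_of_mul_dvd_mul_left hp.pos h') with h2 | h2
      · have := Nat.le_of_dvd (by norm_num) h2; omega
      · have := Nat.le_of_dvd (by omega) h2; omega
    have hp5 : Ω (Nat.card ↥(centralizer ({z} : Set G) ⊓ normalizer (W : Set G))) = 5 := by
      rw [hM, ArithmeticFunction.cardFactors_mul (by omega) (by omega),
        ArithmeticFunction.cardFactors_mul two_ne_zero hp.ne_zero, ArithmeticFunction.cardFactors_apply_prime Nat.prime_two,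
        ArithmeticFunction.cardFactors_apply_prime hp, hOm]
  · have hpi : p ^ 2 ∣ (centralizer ({z} : Set G)).index := by
      have := Int.natAbs_dvd_natAbs.2 h
      rwa [Int.natAbs_pow, hQdef, Cfsg.Lib.SemiCyclic.natAbs_sgnPrime, Int.natAbs_natCast] at this
    have h3 : p ^ 3 ∣ Nat.card G := by
      rw [hGc, pow_succ]
      exact Nat.mul_dvd_mul hpi (Dvd.dvd.mul_right (dvd_mul_left p 2) _)
    exact (local_bound hna hG L hp5 hp1 ((Nat.pow_dvd_pow p (by norm_num)).trans h3)).1 h3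
  · have hpi : p ∣ (centralizer ({z} : Set G)).index := by
      have : Q ∣ ((centralizer ({z} : Set G)).index : ℤ) := ⟨_, h.trans (mul_assoc _ _ _)⟩
      have := Int.natAbs_dvd_natAbs.2 this
      rwa [hQdef, Cfsg.Lib.SemiCyclic.natAbs_sgnPrime, Int.natAbs_natCast] at this
    have h2 : p ^ 2 ∣ Nat.card G := by
      rw [hGc, pow_two]
      exact Nat.mul_dvd_mul hpi (Dvd.dvd.mul_right (dvd_mul_left p 2) _)
    obtain ⟨-, n, hn, hn1⟩ := local_bound hna hG L hp5 hp1 h2
    rw [hM, hGc, hsq] at hn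
    have hn' : n * p = (centralizer ({z} : Set G)).index * (p + 1) := by
      refine Nat.eq_of_mul_eq_mul_right (show 0 < 2 * p * (p - 1) from
        Nat.mul_pos (by omega) (by omega)) ?_
      calc n * p * (2 * p * (p - 1)) = n * (p * (2 * p * (p - 1))) := by ring
        _ = _ := by rw [← hn]; ring
    obtain ⟨r, hr⟩ : ∃ r, n = p * r + 1 := ⟨n / p, by have := Nat.div_add_mod n p; omega⟩
    have hz : ((p : ℤ) * r + 1) * p = Q * (Q + 2) * (Q ^ 2 + Q - 1) * (p + 1) := by
      rw [← h]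
      exact_mod_cast hr ▸ hn'
    have hp0 : (p : ℤ) ≠ 0 := by omega
    have hd : (p : ℤ) ∣ 3 ∨ (p : ℤ) ∣ 1 := by
      rcases hQ with ⟨e, -⟩ | ⟨e, -⟩ <;> rw [e] at hz
      · refine Or.inl ⟨(p : ℤ) ^ 3 + 4 * p ^ 2 + 4 * p - 1 - r, mul_right_cancel₀ hp0 ?_⟩
        linear_combination hz
      · refine Or.inr ⟨r - ((p : ℤ) ^ 3 - 2 * p ^ 2 - 2 * p + 3), mul_right_cancel₀ hp0 ?_⟩
        linear_combination -hz
    rcases hd with hd | hd <;> have := Int.le_of_dvd (by norm_num) hd <;> omega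

end Cfsg.Lib.LenSeven
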