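import Cfsg.Agent.LenSeven.QdPsl
import Cfsg.Agent.SemiCyclic.Model.Main
import Cfsg.Agent.TwoFusion.GLTwoThree.Order
import Cfsg.Agent.Recognition.LinearThreeThree.Main

/-!
The centralizer modulo its core for `p = 3` is `GL(2, 3)`, and `SL(3, 3)` has seven steps below the top.
-/

set_option autoImplicit false
set_option linter.style.haveILetI false
set_option linter.unusedSectionVars false

namespace Cfsg.Lib.LenSeven

open Subgroup Cfsg.Lib.GLTwoThree
open Cfsg.Lib.SemiCyclic (TopData Rep)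

universe u

local instance factThree : Fact (Nat.Prime 3) := ⟨Nat.prime_three⟩

local notation "GL23" => Matrix.GeneralLinearGroup (Fin 2) (ZMod 3)

theorem card_GL23 : Nat.card GL23 = 48 := by
  obtain ⟨e⟩ := exists_iso
  rw [← Nat.card_congr e.toEquiv, Nat.card_eq_fintype_card (α := K48), card48]

/-- `SL(2, 3)` extended by an involution with semidihedral Sylow 2-subgroups is `GL(2, 3)`. -/
theorem top_three {H : Type u} [Group H] [Finite H] {z : H} (T : TopData H z 3) : Nonempty (H ≃* K48) := by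
  classical
  letI := Fintype.ofFinite H
  obtain ⟨-, -, hz, hc, ⟨N, -, hi, ⟨e⟩, u, huN, hu⟩, hsd⟩ := T
  let R : Rep H z 3 := ⟨N, hi, e, by norm_num, hz, hc, hsd⟩
  have huu : u * u = 1 := by rw [← pow_two]; exact orderOf_dvd_iff_pow_eq_one.1 (dvd_of_eq hu)
  have huN' : u ∉ R.N := huN
  set A := R.mat u with hA
  have htr : A.trace = 0 := R.trace_involution huN' huu
  have hdet : A.det = -1 := by
    have h1 := R.chi_det huN'
    have : ∀ d : ZMod 3, quadraticChar (ZMod 3) d = -1 → d = -1 := by decide +kernel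
    exact this _ h1
  have hAA : A * A = 1 := by
    rw [Matrix.trace_fin_two] at htr
    rw [Matrix.det_fin_two] at hdet
    ext i j
    fin_cases i <;> fin_cases j <;> simp [Matrix.mul_apply, Fin.sum_univ_two]
    · linear_combination A 0 0 * htr - hdet
    · linear_combination A 0 1 * htr
    · linear_combination A 1 0 * htr
    · linear_combination A 1 1 * htr - hdet
  have hcj : ∀ n : R.N, A * R.ex n * A = R.ex (R.cj u n) := fun n => by
    rw [← R.mat_spec, mul_assoc, hAA, mul_one]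
  let f : H → Matrix (Fin 2) (Fin 2) (ZMod 3) := fun h =>
    if hN : h ∈ R.N then R.ex ⟨h, hN⟩
    else R.ex ⟨h * u, (Subgroup.mul_mem_iff_of_index_two R.index).2 (iff_of_false hN huN')⟩ * A
  have hf1 : ∀ {h : H} (hN : h ∈ R.N), f h = R.ex ⟨h, hN⟩ := fun hN => dif_pos hN
  have hf2 : ∀ n : R.N, f ((n : H) * u) = R.ex n * A := fun n => by
    have hn : (n : H) * u ∉ R.N := fun h => huN' ((mul_mem_cancel_left n.2).1 h)
    simp only [f, dif_neg hn]
    congr 2
    exact Subtype.ext (show (n : H) * u * u = n by rw [mul_assoc, huu, mul_one])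
  have hsplit : ∀ h : H, h ∈ R.N ∨ ∃ n : R.N, h = (n : H) * u := fun h => by
    by_cases hN : h ∈ R.N
    · exact Or.inl hN
    · exact Or.inr ⟨⟨h * u, (Subgroup.mul_mem_iff_of_index_two R.index).2 (iff_of_false hN huN')⟩,
        (show h = h * u * u by rw [mul_assoc, huu, mul_one])⟩
  have hmul : ∀ g h : H, f (g * h) = f g * f h := by
    intro g h
    rcases hsplit g with hg | ⟨n, rfl⟩ <;> rcases hsplit h with hh | ⟨m, rfl⟩
    · rw [hf1 hg, hf1 hh, hf1 (mul_mem hg hh), ← R.ex_mul]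
      rfl
    · have e1 := hf2 (⟨g, hg⟩ * m)
      rw [Subgroup.coe_mul, mul_assoc] at e1
      rw [hf1 hg, hf2, e1, R.ex_mul, mul_assoc]
    · have e1 := hf2 (n * R.cj u ⟨h, hh⟩)
      rw [Subgroup.coe_mul] at e1
      have e2 : (n : H) * u * h = (n : H) * (R.cj u ⟨h, hh⟩ : R.N) * u := by
        show (n : H) * u * h = (n : H) * (u * h * u⁻¹) * u
        group
      rw [e2, e1, hf2, hf1 hh, R.ex_mul, ← hcj, ← mul_assoc, mul_assoc _ A A, hAA, mul_one, mul_assoc]
    · have hm : (n : H) * u * ((m : H) * u) = ((n * R.cj u m : R.N) : H) := by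
        show (n : H) * u * ((m : H) * u) = (n : H) * (u * m * u⁻¹)
        rw [inv_eq_of_mul_eq_one_right huu]
        group
      rw [hm, hf1 (n * R.cj u m).2, hf2, hf2, show (⟨_, (n * R.cj u m).2⟩ : R.N) = n * R.cj u m from rfl, R.ex_mul,
        ← hcj]
      simp only [mul_assoc]
  let F : H →* Matrix (Fin 2) (Fin 2) (ZMod 3) :=
    { toFun := f, map_one' := by rw [hf1 (one_mem R.N)]; exact R.ex_one, map_mul' := hmul }
  let Φ : H →* GL23 := F.toHomUnits
  have hinj : Function.Injective Φ := by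
    rw [injective_iff_map_eq_one]
    intro h hh
    have h1 : f h = 1 := congrArg Units.val hh
    rcases hsplit h with hN | ⟨n, rfl⟩
    · rw [hf1 hN] at h1
      exact congrArg Subtype.val (R.ex_inj (h1.trans R.ex_one.symm))
    · rw [hf2] at h1
      have h2 := congrArg Matrix.det h1
      rw [Matrix.det_mul, R.ex_det, hdet, Matrix.det_one, one_mul] at h2
      exact absurd h2 (by decide)
  have hcH : Nat.card H = 48 := by
    have h := R.card_H
    norm_num at h
    rw [Nat.card_eq_fintype_card]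
    exact_mod_cast h
  obtain ⟨e'⟩ := exists_iso
  exact ⟨(MulEquiv.ofBijective Φ ((Nat.bijective_iff_injective_and_card Φ).2 ⟨hinj, by rw [hcH, card_GL23]⟩)).trans
    e'.symm⟩

/-- `SL(3, 3)` has eight steps. -/
theorem steps_SL33 : Steps (⊤ : Subgroup Cfsg.Lib.LThreeThree.SL33) 8 := by
  classical
  haveI : Fact (Nat.Prime 2) := ⟨Nat.prime_two⟩
  let H : Subgroup Cfsg.Lib.LThreeThree.SL33 :=
    { carrier := {A | (A : Matrix (Fin 3) (Fin 3) (ZMod 3)) 1 0 = 0 ∧ (A : Matrix (Fin 3) (Fin 3) (ZMod 3)) 2 0 = 0}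
      one_mem' := by simp
      mul_mem' := fun {A B} hA hB => by
        simp [Matrix.SpecialLinearGroup.coe_mul, Matrix.mul_apply, Fin.sum_univ_three, hA.1, hA.2, hB.1, hB.2]
      inv_mem' := fun {A} hA => by
        simp [Matrix.SpecialLinearGroup.coe_inv, Matrix.adjugate_fin_three, hA.1, hA.2] }
  have hH0 : ∀ A : H, ((A : Cfsg.Lib.LThreeThree.SL33) : Matrix (Fin 3) (Fin 3) (ZMod 3)) 1 0 = 0 ∧
      ((A : Cfsg.Lib.LThreeThree.SL33) : Matrix (Fin 3) (Fin 3) (ZMod 3)) 2 0 = 0 := fun A => A.2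
  let ρ : H →* Matrix (Fin 2) (Fin 2) (ZMod 3) :=
    { toFun := fun A => ((A : Cfsg.Lib.LThreeThree.SL33) : Matrix (Fin 3) (Fin 3) (ZMod 3)).submatrix Fin.succ Fin.succ
      map_one' := by
        rw [OneMemClass.coe_one, Matrix.SpecialLinearGroup.coe_one]
        exact Matrix.submatrix_one _ (Fin.succ_injective _)
      map_mul' := fun A B => by
        ext i j
        rw [Subgroup.coe_mul, Matrix.SpecialLinearGroup.coe_mul]
        fin_cases i <;> fin_cases j <;>
          simp [Matrix.mul_apply, Fin.sum_univ_two, Fin.sum_univ_three, (hH0 A).1, (hH0 A).2] }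
  let Φ : H →* GL23 := ρ.toHomUnits
  have hsurj : Function.Surjective Φ := fun B => by
    set b := (B : Matrix (Fin 2) (Fin 2) (ZMod 3)) with hb
    have hd : b.det * b.det = 1 := by
      have h0 : b.det ≠ 0 := ((Matrix.isUnit_iff_isUnit_det _).1 B.isUnit).ne_zero
      exact (by decide : ∀ d : ZMod 3, d ≠ 0 → d * d = 1) _ h0
    let M : Cfsg.Lib.LThreeThree.SL33 :=
      ⟨!![b.det, 0, 0; 0, b 0 0, b 0 1; 0, b 1 0, b 1 1], by
        rw [Matrix.det_fin_three]
        simp
        rw [Matrix.det_fin_two] at hd ⊢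
        linear_combination hd⟩
    refine ⟨⟨M, ⟨rfl, rfl⟩⟩, Units.ext ?_⟩
    show (M : Matrix (Fin 3) (Fin 3) (ZMod 3)).submatrix Fin.succ Fin.succ = b
    ext i j
    fin_cases i <;> fin_cases j <;> rfl
  let e1 : H := ⟨⟨!![1, 1, 0; 0, 1, 0; 0, 0, 1], by decide⟩, ⟨rfl, rfl⟩⟩
  let e2 : H := ⟨⟨!![1, 0, 1; 0, 1, 0; 0, 0, 1], by decide⟩, ⟨rfl, rfl⟩⟩
  have hker : ∀ {v : H}, ρ v = 1 → v ∈ Φ.ker := fun h => MonoidHom.mem_ker.2 (Units.ext h)
  have h1 : e1 ∈ Φ.ker := hker (by ext i j; fin_cases i <;> fin_cases j <;> rfl)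
  have h2 : e2 ∈ Φ.ker := hker (by ext i j; fin_cases i <;> fin_cases j <;> rfl)
  have hne1 : e1 ≠ 1 := fun h => by
    have h' := congrArg (fun v : H => ((v : Cfsg.Lib.LThreeThree.SL33) : Matrix (Fin 3) (Fin 3) (ZMod 3)) 0 1) h
    simp [e1] at h'
  have he2 : e2 ∉ zpowers e1 := by
    intro hm
    let c : H → ZMod 3 := fun v => ((v : Cfsg.Lib.LThreeThree.SL33) : Matrix (Fin 3) (Fin 3) (ZMod 3)) 0 2
    have hc : ∀ v : H, v ∈ zpowers e1 → c v = 0 := by
      have ho : orderOf e1 = 3 := orderOf_eq_prime (Subtype.ext (Subtype.ext (by decide +kernel))) hne1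
      intro v hv
      obtain ⟨i, hi, rfl⟩ : ∃ i, i < 3 ∧ e1 ^ i = v := by
        obtain ⟨i, rfl⟩ := mem_zpowers_iff.1 hv
        refine ⟨(i % 3).toNat, by omega, ?_⟩
        rw [← zpow_natCast, Int.toNat_of_nonneg (by omega), show (3 : ℤ) = (orderOf e1 : ℤ) by rw [ho]; rfl,
          zpow_mod_orderOf]
      interval_cases i <;> rfl
    exact absurd (hc _ hm) (by decide +kernel)
  have hK : Steps Φ.ker 2 := by
    refine .step (A := zpowers e1) (lt_of_le_of_ne (zpowers_le.2 h1) fun h => he2 (h ▸ h2)) ?_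
    exact .step (bot_lt_iff_ne_bot.2 fun h => hne1 (zpowers_eq_bot.1 h)) (.zero _)
  have h5 : Steps (⊤ : Subgroup GL23) 5 := by
    refine steps_above (p := 2) (⊤ : Subgroup GL23) (a := 4) ?_ ?_ <;> rw [card_top, card_GL23] <;> norm_num
  have h7 := h5.comap hsurj hK
  rw [comap_top] at h7
  refine steps_succ_of_ne_top h7.of_sub fun h => ?_
  let M : Cfsg.Lib.LThreeThree.SL33 := ⟨!![1, 0, 0; 1, 1, 0; 0, 0, 1], by decide⟩
  have hmem : M ∈ H := h ▸ mem_top M
  exact absurd hmem.1 (by decide)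

end Cfsg.Lib.LenSeven
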