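import Cfsg.Agent.LenSeven.QdTop
import Cfsg.Agent.LenSeven.QdThreeModel
import Cfsg.Agent.SubdegThree.SdKill
import Cfsg.Agent.RuSylow.Aut
import Cfsg.Agent.Recognition.MathieuEleven.Main

/-!
The centralizer `GL(2, 3)`: the group is `M₁₁`.
-/

set_option autoImplicit false
set_option linter.style.haveILetI false
set_option linter.unusedSectionVars false
set_option maxRecDepth 8000

namespace Cfsg.Lib.LenSeven

open Subgroup Cfsg.Lib.GLTwoThree
open Cfsg.Lib.SubdegThree (CoreSetup)

universe u

theorem det_one_commutator : ∀ k : K48, det k.m = 1 → ∃ a b : K48, a * b * a⁻¹ * b⁻¹ = k := by decide +kernel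

theorem det_sq : ∀ k : K48, det (k * k).m = 1 := by decide +kernel

theorem det_ratio : ∀ a b : K48, det a.m ≠ 1 → det b.m ≠ 1 → det (a⁻¹ * b).m = 1 := by decide +kernel

theorem refl_facts : ∀ k : K48, k * k = 1 → k ≠ 1 → k ≠ zk →
    det k.m ≠ 1 ∧ (∀ j : K48, j * (j * j) = 1 → j * k = k * j → j = 1) ∧ ∃ j : K48, j * k ≠ k * j := by
  decide +kernel

theorem zk_unique : ∀ k : K48, (∀ j : K48, k * j = j * k) → k ≠ 1 → k * k = 1 → k = zk := by decide +kernel

theorem exists_refl : ∃ k : K48, k * k = 1 ∧ k ≠ 1 ∧ k ≠ zk := by decide +kernel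

variable {G : Type u} [Group G] [Finite G] [IsSimpleGroup G] {z : G}

theorem three_case (hna : ¬ IsMulCommutative G) (hG : Short G) (D : QdData z 3)
    (hcard : Nat.card (Cfsg.oddCore ↥(centralizer ({z} : Set G))) = 1 ∨
      (Nat.card (Cfsg.oddCore ↥(centralizer ({z} : Set G)))).Prime) : Cfsg.Spor.IsoM11 G := by
  classical
  haveI : Fact (Nat.Prime 2) := ⟨Nat.prime_two⟩
  letI := Fintype.ofFinite G
  set C := centralizer ({z} : Set G) with hC
  set K := Cfsg.oddCore C with hK
  haveI hKn : K.Normal := by rw [hK]; exact (inferInstance : (Cfsg.pPrimeCore 2 C).Normal)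
  have hKodd : Odd (Nat.card K) := Nat.coprime_two_right.1 (Cfsg.Lib.Components.coprime_card_pPrimeCore 2)
  obtain ⟨e⟩ := top_three D.top
  set π : C →* K48 := e.toMonoidHom.comp (QuotientGroup.mk' K) with hπ
  have hker : π.ker = K := by
    ext v
    rw [MonoidHom.mem_ker, hπ, MonoidHom.comp_apply]
    exact ⟨fun h => (QuotientGroup.eq_one_iff v).1 (e.injective (h.trans e.map_one.symm)),
      fun h => by
        rw [show QuotientGroup.mk' K v = 1 from (QuotientGroup.eq_one_iff v).2 h]
        exact e.map_one⟩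
  have hsurj : Function.Surjective π := e.surjective.comp (QuotientGroup.mk'_surjective K)
  set zC : C := ⟨z, mem_centralizer_singleton_iff.2 rfl⟩
  have hzC : zC * zC = 1 := Subtype.ext (by
    show z * z = 1
    rw [← pow_two]; exact orderOf_dvd_iff_pow_eq_one.1 (dvd_of_eq D.z_ord))
  have hzne : π zC ≠ 1 := fun h => by
    have h1 : zC ∈ K := hker ▸ MonoidHom.mem_ker.2 h
    have h2 := K.orderOf_dvd_natCard h1
    rw [(Subgroup.orderOf_mk _ _).trans D.z_ord] at h2
    exact Nat.not_even_iff_odd.2 hKodd (even_iff_two_dvd.2 h2)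
  have hπz : π zC = zk := zk_unique _ (fun j => by
    obtain ⟨v, rfl⟩ := hsurj j
    rw [← map_mul, ← map_mul]
    exact congrArg π (Subtype.ext (mem_centralizer_singleton_iff.1 v.2).symm)) hzne (by rw [← map_mul, hzC, map_one])
  -- the action on the core
  have hconj : ∀ (x y : C), π y = 1 → π (x * y * x⁻¹) = 1 := fun x y h => by
    rw [map_mul, map_mul, h, mul_one, map_inv, mul_inv_cancel]
  have hKcomm : ∀ a b : C, π a = 1 → π b = 1 → a * b = b * a := fun a b ha hb => by
    have ha' : a ∈ K := hker ▸ MonoidHom.mem_ker.2 ha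
    have hb' : b ∈ K := hker ▸ MonoidHom.mem_ker.2 hb
    haveI : IsCyclic K := by
      rcases hcard with h | h
      · haveI := (Nat.card_eq_one_iff_unique.1 h).1
        exact isCyclic_of_subsingleton
      · haveI := Fact.mk h
        exact isCyclic_of_prime_card rfl
    exact congrArg Subtype.val ((IsCyclic.isMulCommutative (α := K)).is_comm.comm ⟨a, ha'⟩ ⟨b, hb'⟩)
  let ψ : C →* MulAut K := MulAut.conjNormal
  have hψ : ∀ (x : C) (y : K), ((ψ x y : K) : C) = x * y * x⁻¹ := fun x y => rfl
  have hψK : ∀ x : C, π x = 1 → ψ x = 1 := fun x hx => by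
    ext y
    rw [hψ, hKcomm x y hx (MonoidHom.mem_ker.1 (hker.symm ▸ y.2)), mul_inv_cancel_right]
    rfl
  have hψc : ∀ a b : C, ψ a * ψ b = ψ b * ψ a := by
    haveI : IsCyclic K := by
      rcases hcard with h | h
      · haveI := (Nat.card_eq_one_iff_unique.1 h).1
        exact isCyclic_of_subsingleton
      · haveI := Fact.mk h
        exact isCyclic_of_prime_card rfl
    exact fun a b => Cfsg.Lib.RuSylow.aut_cyclic_comm _ _
  have hdet : ∀ x : C, det (π x).m = 1 → ψ x = 1 := fun x hx => by
    obtain ⟨a, b, hab⟩ := det_one_commutator _ hx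
    obtain ⟨a', rfl⟩ := hsurj a
    obtain ⟨b', rfl⟩ := hsurj b
    rw [← map_inv, ← map_inv, ← map_mul, ← map_mul, ← map_mul] at hab
    have h1 : ψ ((a' * b' * a'⁻¹ * b'⁻¹)⁻¹ * x) = 1 := hψK _ (by rw [map_mul, map_inv, hab, inv_mul_cancel])
    rw [map_mul, map_inv] at h1
    have h2 : ψ (a' * b' * a'⁻¹ * b'⁻¹) = 1 := by
      rw [map_mul, map_mul, map_mul, map_inv, map_inv, hψc a' b', mul_inv_cancel_right, mul_inv_cancel]
    rw [h2, inv_one, one_mul] at h1
    exact h1
  have hcomm : ∀ x y : C, π y = 1 → det (π x).m = 1 → x * y = y * x := fun x y hy hx => by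
    have h := congrArg (fun q : MulAut K => ((q ⟨y, hker ▸ MonoidHom.mem_ker.2 hy⟩ : K) : C)) (hdet x hx)
    have h' : x * y * x⁻¹ = y := h
    exact mul_inv_eq_iff_eq_mul.1 h'
  -- a reflection
  obtain ⟨k, hk2, hk1, hkz⟩ := exists_refl
  obtain ⟨u₀, hu₀⟩ := hsurj k
  set u := u₀ ^ Nat.card K with hu
  have hπu : π u = k := by
    obtain ⟨i, hi⟩ := hKodd
    rw [hu, map_pow, hu₀, hi, pow_succ, pow_mul, pow_two, hk2, one_pow, one_mul]
  have hu2 : u * u = 1 := by
    have hm : u₀ ^ 2 ∈ K := hker ▸ MonoidHom.mem_ker.2 (by rw [map_pow, hu₀, pow_two, hk2])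
    rw [← pow_two, hu, ← pow_mul, mul_comm, pow_mul]
    exact congrArg Subtype.val (pow_card_eq_one' (G := K) (x := ⟨_, hm⟩))
  obtain ⟨hkdet, hkodd, j, hj⟩ := refl_facts k hk2 hk1 hkz
  -- the reflections invert the core
  have hinvu : ∀ y : C, π y = 1 → u * y * u⁻¹ = y⁻¹ := by
    intro y hy
    rcases hcard with h1 | hr
    · haveI := (Nat.card_eq_one_iff_unique.1 h1).1
      have : y = 1 := congrArg Subtype.val
        (Subsingleton.elim (⟨y, hker ▸ MonoidHom.mem_ker.2 hy⟩ : K) 1)
      rw [this]; group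
    set α := ψ u with hα
    have hαα : ∀ v : K, α (α v) = v := fun v => by
      have h := hdet (u * u) (by rw [map_mul]; exact det_sq _)
      rw [map_mul] at h
      exact congrArg (fun q : MulAut K => q v) h
    haveI := Fact.mk hr
    let Fx : Subgroup K :=
      { carrier := {v | α v = v}
        one_mem' := map_one α
        mul_mem' := fun {a b} ha hb => by show α (a * b) = a * b; rw [map_mul, ha, hb]
        inv_mem' := fun {a} ha => by show α a⁻¹ = a⁻¹; rw [map_inv, ha] }
    rcases Subgroup.eq_bot_or_eq_top_of_prime_card Fx with hF | hF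
    · set v : K := ⟨y, hker ▸ MonoidHom.mem_ker.2 hy⟩
      have hvv : v * α v ∈ Fx := by
        show α (v * α v) = v * α v
        rw [map_mul, hαα]
        exact Subtype.ext (hKcomm _ _ (MonoidHom.mem_ker.1 (hker.symm ▸ (α v).2)) (MonoidHom.mem_ker.1 (hker.symm ▸ v.2)))
      rw [hF, mem_bot] at hvv
      have h' : α v = v⁻¹ := eq_inv_of_mul_eq_one_right hvv
      exact congrArg (fun w : K => (w : C)) h'
    · -- the core would be central
      exfalso
      have hfix : ∀ v : K, α v = v := fun v => (show v ∈ Fx from hF ▸ mem_top v)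
      have hcen : ∀ (x : C) (v : K), ψ x v = v := by
        intro x v
        by_cases hx : det (π x).m = 1
        · rw [hdet x hx]; rfl
        · have h := hdet (u⁻¹ * x) (by rw [map_mul, map_inv]; exact det_ratio _ _ (hπu.symm ▸ hkdet) hx)
          rw [show x = u * (u⁻¹ * x) by group, map_mul, h, mul_one]
          exact hfix v
      set KG : Subgroup G := K.map C.subtype with hKG
      have hKGc : Nat.card KG = Nat.card K := card_map_of_injective C.subtype_injective
      have hCle : C ≤ centralizer (KG : Set G) := fun c hc => mem_centralizer_iff.2 (by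
        rintro _ ⟨v, hv, rfl⟩
        have h : (⟨c, hc⟩ : C) * v * (⟨c, hc⟩ : C)⁻¹ = v :=
          congrArg (fun w : K => (w : C)) (hcen ⟨c, hc⟩ ⟨v, hv⟩)
        exact (congrArg Subtype.val (mul_inv_eq_iff_eq_mul.1 h)).symm)
      have hne : centralizer (KG : Set G) ≠ ⊤ := fun h => by
        obtain ⟨⟨v, hv⟩, hv1⟩ := exists_prime_orderOf_dvd_card' (Nat.card K) (dvd_of_eq hKGc.symm)
        rw [Subgroup.orderOf_mk] at hv1
        have hcv : v ∈ center G := mem_center_iff.2 fun g => (mem_centralizer_iff.1 (h ▸ mem_top g) v hv).symm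
        rcases IsSimpleGroup.eq_bot_or_eq_top_of_normal (center G) inferInstance with e' | e'
        · rw [e', mem_bot] at hcv
          rw [hcv, orderOf_one] at hv1
          exact hr.one_lt.ne hv1
        · exact hna ⟨⟨fun a b => (mem_center_iff.1 (e' ▸ mem_top b : b ∈ center G)) a⟩⟩
      have hsteps : Steps C 6 := by
        have h5 : Steps (⊤ : Subgroup K48) 5 := by
          refine steps_above (p := 2) (⊤ : Subgroup K48) (a := 4) ?_ ?_ <;>
            rw [card_top, Nat.card_eq_fintype_card, card48] <;> norm_num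
        have hk1' : Steps π.ker 1 := .step (bot_lt_iff_ne_bot.2 fun h => hr.one_lt.ne' (by
          rw [← hker, h, card_bot])) (.zero _)
        have := h5.comap hsurj hk1'
        rw [comap_top] at this
        exact this.of_sub
      have hCKeq : centralizer (KG : Set G) = C := by
        refine (eq_or_lt_of_le hCle).elim Eq.symm fun hlt => ?_
        have := hG.bound_two hsteps hlt (lt_top_iff_ne_top.2 hne)
        omega
      -- the centralizer of the reflection
      have huo : orderOf (u : G) = 2 := by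
        refine orderOf_eq_prime (by rw [pow_two]; exact congrArg Subtype.val hu2) fun h => hk1 ?_
        rw [← hπu, show u = 1 from Subtype.ext h, map_one]
      obtain ⟨g, hg⟩ := isConj_iff.1 (D.conj_all (u : G) huo)
      set Ct := centralizer ({(u : G)} : Set G)
      have hKt : KG.map (MulAut.conj g).toMonoidHom ≤ KG := by
        have hcomm' : ∀ v ∈ KG, ∀ w ∈ Ct, w * (g * v * g⁻¹) = g * v * g⁻¹ * w := by
          intro v hv w hw
          have hwC : g⁻¹ * w * g ∈ C := mem_centralizer_singleton_iff.2 (by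
            have h' : w * (u : G) = u * w := mem_centralizer_singleton_iff.1 hw
            rw [← hg] at h'
            calc g⁻¹ * w * g * z = g⁻¹ * (w * (g * z * g⁻¹)) * g := by group
              _ = g⁻¹ * (g * z * g⁻¹ * w) * g := by rw [h']
              _ = z * (g⁻¹ * w * g) := by group)
          have h2 : v * (g⁻¹ * w * g) = g⁻¹ * w * g * v := mem_centralizer_iff.1 (hCle hwC) v hv
          calc w * (g * v * g⁻¹) = g * (g⁻¹ * w * g * v) * g⁻¹ := by group
            _ = g * (v * (g⁻¹ * w * g)) * g⁻¹ := by rw [h2]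
            _ = g * v * g⁻¹ * w := by group
        rintro _ ⟨v, hv, rfl⟩
        have hvC : g * v * g⁻¹ ∈ C := by
          rw [← hCKeq, mem_centralizer_iff]
          intro w hw
          refine hcomm' v hv w (mem_centralizer_singleton_iff.2 ?_)
          exact mem_centralizer_iff.1 (hCle u.2) w hw
        have hcu : (⟨_, hvC⟩ : C) * u = u * ⟨_, hvC⟩ :=
          Subtype.ext (hcomm' v hv u (mem_centralizer_singleton_iff.2 rfl)).symm
        have hord : orderOf (⟨_, hvC⟩ : C) ∣ Nat.card K := by
          rw [Subgroup.orderOf_mk, ← MulAut.conj_apply, MulEquiv.orderOf_eq, ← hKGc]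
          exact KG.orderOf_dvd_natCard hv
        have h3 : π ⟨_, hvC⟩ * (π ⟨_, hvC⟩ * π ⟨_, hvC⟩) = 1 := by
          rw [← pow_two, ← pow_succ']
          refine orderOf_dvd_iff_pow_eq_one.1 ?_
          have h48 : orderOf (π ⟨_, hvC⟩) ∣ 48 := by
            have := orderOf_dvd_natCard (π (⟨_, hvC⟩ : C))
            rwa [Nat.card_eq_fintype_card, card48] at this
          have hr' : orderOf (π ⟨_, hvC⟩) ∣ Nat.card K := (orderOf_map_dvd π _).trans hord
          have : Nat.Coprime (orderOf (π ⟨_, hvC⟩)) 16 := by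
            rw [show (16 : ℕ) = 2 ^ 4 by norm_num]
            exact ((Nat.coprime_two_right.2 hKodd).coprime_dvd_left hr').pow_right 4
          exact this.dvd_of_dvd_mul_left (show orderOf (π ⟨_, hvC⟩) ∣ 16 * 3 from h48)
        have h1 := hkodd _ h3 (by rw [← hπu, ← map_mul, hcu, map_mul])
        exact ⟨⟨_, hvC⟩, hker ▸ MonoidHom.mem_ker.2 h1, rfl⟩
      have hKeq : KG.map (MulAut.conj g).toMonoidHom = KG := eq_of_le_of_card_ge hKt
        (le_of_eq (Nat.card_congr (KG.equivMapOfInjective (MulAut.conj g).toMonoidHom (MulAut.conj g).injective).toEquiv))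
      have hgN : g ∈ normalizer (KG : Set G) := Cfsg.Lib.Fusion.mem_normalizer_of_maps_finite fun v hv =>
        hKt ⟨v, hv, rfl⟩
      have hsub : ∀ c ∈ C, g * c * g⁻¹ ∈ C := by
        intro c hc
        rw [← hCKeq] at hc ⊢
        refine mem_centralizer_iff.2 fun v hv => ?_
        have h1 : g⁻¹ * v * g ∈ KG := by
          have := (mem_normalizer_iff.1 (inv_mem hgN) v).1 hv
          rwa [inv_inv] at this
        have h2 : g⁻¹ * v * g * c = c * (g⁻¹ * v * g) := mem_centralizer_iff.1 hc _ h1
        calc v * (g * c * g⁻¹) = g * (g⁻¹ * v * g * c) * g⁻¹ := by group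
          _ = g * c * g⁻¹ * v := by rw [h2]; group
      have hgC : g ∈ normalizer (C : Set G) := Cfsg.Lib.Fusion.mem_normalizer_of_maps_finite hsub
      obtain ⟨j', rfl⟩ := hsurj j
      refine hj ?_
      rw [← hπu, ← map_mul, ← map_mul]
      refine congrArg π (Subtype.ext ?_)
      have h1 : g⁻¹ * (j' : G) * g ∈ C := by
        have := (mem_normalizer_iff.1 (inv_mem hgC) (j' : G)).1 j'.2
        rwa [inv_inv] at this
      have h2 : g⁻¹ * (j' : G) * g * z = z * (g⁻¹ * (j' : G) * g) := mem_centralizer_singleton_iff.1 h1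
      show (j' : G) * u = u * j'
      rw [← hg]
      calc (j' : G) * (g * z * g⁻¹) = g * (g⁻¹ * j' * g * z) * g⁻¹ := by group
        _ = g * z * g⁻¹ * j' := by rw [h2]; group
  have hinv : ∀ x y : C, π y = 1 → det (π x).m ≠ 1 → x * y * x⁻¹ = y⁻¹ := by
    intro x y hy hx
    have hx' : det (π (u⁻¹ * x)).m = 1 := by
      rw [map_mul, map_inv]
      exact det_ratio _ _ (hπu.symm ▸ hkdet) hx
    have h := hcomm _ y hy hx'
    calc x * y * x⁻¹ = u * (u⁻¹ * x * y) * (u⁻¹ * x)⁻¹ * u⁻¹ := by group
      _ = u * y * u⁻¹ := by rw [h]; group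
      _ = y⁻¹ := hinvu y hy
  let D' : CoreSetup G :=
    { z := z
      z_ne := fun h => by have := D.z_ord; rw [h, orderOf_one] at this; omega
      z_sq := congrArg Subtype.val hzC
      π := π
      surj := hsurj
      odd := by rw [hker]; exact hKodd
      π_z := hπz
      comm := hcomm
      inv := hinv
      one := fun x hx hx1 => D.conj_all _ (orderOf_eq_prime (by rw [pow_two]; exact congrArg Subtype.val hx)
        fun h => hx1 (by rw [show x = 1 from Subtype.ext h, map_one])) }
  have hbot := D'.ker_bot inferInstance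
  obtain ⟨e2⟩ := exists_iso
  obtain ⟨S, -⟩ := exists_setup (fun r _ => (perfect hna).symm ▸ mem_top r) z D.z_ord
    ⟨(MulEquiv.ofBijective π ⟨(MonoidHom.ker_eq_bot_iff _).1 hbot, hsurj⟩).trans e2⟩
  rcases S.order with h | h
  · exfalso
    haveI : Fact (Nat.Prime 3) := ⟨Nat.prime_three⟩
    obtain ⟨e3⟩ := Cfsg.Lib.LThreeThree.equiv_PSL ⟨S, h, S.isSimple⟩
    let f : Cfsg.Lib.LThreeThree.SL33 ≃* G := (QuotientGroup.quotientBot.symm.trans
      (QuotientGroup.quotientMulEquivOfEq Cfsg.Lib.LThreeThree.center_SL33.symm)).trans e3.symm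
    have := hG.bound (steps_SL33.map (f := f.toMonoidHom) f.injective)
    omega
  · exact Cfsg.Lib.MathieuEleven.equiv_M11 h

end Cfsg.Lib.LenSeven
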