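import Cfsg.Agent.LenSeven.QdLarge
import Cfsg.Agent.LenSeven.QdFive
import Cfsg.Agent.LenSeven.QdThree

/-!
The quasidihedral case.
-/

set_option autoImplicit false
set_option linter.style.haveILetI false
set_option linter.unusedSectionVars false

namespace Cfsg.Lib.LenSeven

open Subgroup

universe u

variable {G : Type u} [Group G] [Finite G] [IsSimpleGroup G]

theorem qd_case (hna : ¬ IsMulCommutative G) (hG : Short G) (S : Sylow 2 G)
    (hS : Cfsg.IsQuasiDihedral (S : Subgroup G)) : Outcome G := by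
  obtain ⟨z, p, D, h⟩ := qd_top hna hG S hS
  rcases h with ⟨rfl, h⟩ | ⟨hK, rfl | ⟨h13, hOm, a, ha, ha2, hpa⟩⟩
  · exact Or.inr (Or.inr (Or.inr (Or.inl (three_case hna hG D h))))
  · exact Or.inr (Or.inr (Or.inr (Or.inr (Or.inr (five_order hna hG D hK)))))
  · exact (large_false hna hG D hK h13 hOm ha ha2 hpa).elim

end Cfsg.Lib.LenSeven
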