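import Cfsg.Agent.LenSeven.Chain
import Cfsg.Agent.Classical.Misc.Icosian
import Cfsg.Agent.Classical.Misc.SmallPSL
import Cfsg.Agent.Classical.Misc.PSLMaxExceptional
import Cfsg.Agent.Classical.Misc.PSLFourGroupsMain
import Cfsg.Agent.Fusion.Saturation
import Cfsg.Agent.SolvLinear.Core
import Cfsg.Agent.S0806
import Cfsg.Agent.S0811
import Cfsg.Agent.S0812

/-!
The groups `PSL(2, q)`, `q` odd, without chains of five proper steps.
-/

set_option autoImplicit false
set_option linter.style.haveILetI false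
set_option linter.unusedSectionVars false

namespace Cfsg.Lib.LenSeven

open Subgroup
open scoped ArithmeticFunction.Omega

universe u v

variable {G : Type u} [Group G] [Finite G]

/-- One step above a subgroup of prime power order. -/
theorem steps_above {p : ℕ} [hp : Fact p.Prime] (H : Subgroup G) {a : ℕ} (h : p ^ a ∣ Nat.card H)
    (hlt : p ^ a < Nat.card H) : Steps H (a + 1) := by
  obtain ⟨P, hP⟩ := Sylow.exists_subgroup_card_pow_prime (G := H) p h
  have hP' : Nat.card (P.map H.subtype) = p ^ a := by rw [card_map_of_injective H.subtype_injective, hP]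
  haveI : Group.IsNilpotent (P.map H.subtype) := (IsPGroup.of_card hP').isNilpotent
  have h1 := steps_of_solvable (P.map H.subtype)
  rw [hP', ArithmeticFunction.cardFactors_apply_prime_pow hp.out] at h1
  refine .step (lt_of_le_of_ne (map_subtype_le _) fun e => ?_) h1
  rw [e] at hP'
  omega

theorem steps_dihedral {n : ℕ} [NeZero n] {H : Subgroup G} (e : H ≃* DihedralGroup n) : Steps H (Ω n + 1) := by
  set R : Subgroup G := (zpowers (e.symm (DihedralGroup.r 1))).map H.subtype with hR
  have hc : Nat.card R = n := by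
    rw [hR, card_map_of_injective H.subtype_injective, Nat.card_zpowers, MulEquiv.orderOf_eq,
      DihedralGroup.orderOf_r_one]
  haveI : IsCyclic R := ((zpowers (e.symm (DihedralGroup.r 1))).equivMapOfInjective H.subtype
    H.subtype_injective).isCyclic.1 inferInstance
  letI : CommGroup R := IsCyclic.commGroup
  haveI : Group.IsNilpotent R := CommGroup.isNilpotent
  have h1 := steps_of_solvable R
  rw [hc] at h1
  refine .step (lt_of_le_of_ne (map_subtype_le _) fun h => ?_) h1
  have := Nat.card_congr e.toEquiv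
  rw [DihedralGroup.nat_card, ← h, hc] at this
  have := NeZero.ne n
  omega

theorem steps_succ_of_ne_top {H : Subgroup G} {n : ℕ} (h : Steps H n) (hH : H ≠ ⊤) :
    Steps (⊤ : Subgroup G) (n + 1) :=
  .step (lt_top_iff_ne_top.2 hH) h

theorem omega_two_mul {n : ℕ} (hn : n ≠ 0) : Ω (2 * n) = Ω n + 1 := by
  rw [ArithmeticFunction.cardFactors_mul two_ne_zero hn, ArithmeticFunction.cardFactors_apply_prime Nat.prime_two,
    Nat.add_comm]

variable {F : Type} [Field F] [Fintype F]

local notation "PSL₂" => Matrix.ProjectiveSpecialLinearGroup (Fin 2) F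

theorem card_psl_odd {q : ℕ} (hF : Fintype.card F = q) (hq : q % 2 = 1) (h3 : 3 ≤ q) :
    2 * Nat.card PSL₂ = q * (q ^ 2 - 1) := by
  rw [← Cfsg.Lib.Classical.SmallPSL.card_psl hF, show Nat.gcd 2 (q - 1) = 2 from
    Nat.gcd_eq_left (by omega)]

theorem psl_seven_steps (hF : Fintype.card F = 7) : Steps (⊤ : Subgroup PSL₂) 5 := by
  classical
  haveI : Fact (Nat.Prime 2) := ⟨Nat.prime_two⟩
  haveI : IsSimpleGroup PSL₂ :=
    Matrix.ProjectiveSpecialLinearGroup.rank_two_simple (by rw [Nat.card_eq_fintype_card]; omega)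
  have hG : Nat.card PSL₂ = 168 := by
    have := card_psl_odd hF (by norm_num) (by norm_num)
    omega
  have hk := Cfsg.Lib.Classical.PSLFour.card_four_groups (F := F) (hodd := by rw [hF]; decide)
  rw [hG] at hk
  obtain ⟨⟨V, hV⟩⟩ : Nonempty {V : Subgroup PSL₂ // IsKleinFour V} := by
    refine (Nat.card_pos_iff.1 ?_).1
    omega
  have hV4 : Nat.card V = 4 := hV.card_four
  set N := normalizer (V : Set PSL₂) with hN
  -- the conjugates of `V` are four groups
  have hi : N.index ≤ 14 := by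
    have hb : N.index ≤ Nat.card {V : Subgroup PSL₂ // IsKleinFour V} := by
      let f : PSL₂ ⧸ N → {V : Subgroup PSL₂ // IsKleinFour V} := fun x =>
        ⟨V.map (MulAut.conj x.out).toMonoidHom, by
          have e := V.equivMapOfInjective (MulAut.conj x.out).toMonoidHom (MulAut.conj x.out).injective
          exact ⟨(Nat.card_congr e.toEquiv).symm.trans hV.card_four,
            (Monoid.exponent_eq_of_mulEquiv e).symm.trans hV.exponent_two⟩⟩
      refine Nat.card_le_card_of_injective f fun x y h => ?_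
      have h' : V.map (MulAut.conj x.out).toMonoidHom = V.map (MulAut.conj y.out).toMonoidHom :=
        congrArg Subtype.val h
      rw [← x.out_eq, ← y.out_eq]
      refine QuotientGroup.eq.2 (Cfsg.Lib.Fusion.mem_normalizer_of_maps_finite fun v hv => ?_)
      obtain ⟨w, hw, e⟩ := (h' ▸ ⟨v, hv, rfl⟩ : y.out * v * y.out⁻¹ ∈ V.map (MulAut.conj x.out).toMonoidHom)
      have e' : x.out * w * x.out⁻¹ = y.out * v * y.out⁻¹ := e
      have : x.out⁻¹ * y.out * v * (x.out⁻¹ * y.out)⁻¹ = w := by
        calc _ = x.out⁻¹ * (y.out * v * y.out⁻¹) * x.out := by group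
          _ = w := by rw [← e']; group
      rwa [this]
    omega
  have hne : N ≠ ⊤ := fun h => by
    haveI : V.Normal := normalizer_eq_top_iff.1 h
    rcases IsSimpleGroup.eq_bot_or_eq_top_of_normal V inferInstance with e | e
    · rw [e, card_bot] at hV4; omega
    · rw [e, card_top, hG] at hV4; omega
  -- a Sylow 2-subgroup above `V` normalises it
  obtain ⟨P, hP⟩ := (IsPGroup.of_card (p := 2) (n := 2) (G := V) (by rw [hV4]; norm_num)).exists_le_sylow
  have hP8 : Nat.card (P : Subgroup PSL₂) = 8 := by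
    rw [P.card_eq_multiplicity, hG, Nat.factorization_def _ Nat.prime_two,
      show (168 : ℕ) = 2 ^ 3 * 21 by norm_num, padicValNat.mul (by norm_num) (by norm_num),
      padicValNat.prime_pow, padicValNat.eq_zero_of_not_dvd (by norm_num)]
    norm_num
  haveI : (V.subgroupOf (P : Subgroup PSL₂)).Normal := normal_of_index_eq_two (by
    have := (V.subgroupOf (P : Subgroup PSL₂)).card_mul_index
    rw [Nat.card_congr (subgroupOfEquivOfLe hP).toEquiv, hV4, hP8] at this
    omega)
  have hPN : (P : Subgroup PSL₂) ≤ N := (normal_subgroupOf_iff_le_normalizer hP).1 inferInstance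
  have hmul := N.card_mul_index
  rw [hG] at hmul
  have h8 := card_dvd_of_le hPN
  rw [hP8] at h8
  have h1 : N.index ≠ 1 := fun h => hne (index_eq_one.1 h)
  have h3 : N.index ≠ 3 := fun h => by
    have hd : (N.normalCore).index ≤ Nat.factorial 3 := by
      rw [← h]
      exact Cfsg.Lib.SolvLinear.index_core_le_factorial N
    rcases IsSimpleGroup.eq_bot_or_eq_top_of_normal N.normalCore inferInstance with e | e
    · rw [e, index_bot, hG] at hd
      exact absurd hd (by decide)
    · exact hne (top_le_iff.1 (e ▸ normalCore_le N))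
  have hc : Nat.card N = 24 := by
    obtain ⟨k, hk'⟩ := h8
    rw [hk'] at hmul ⊢
    have h21 : N.index * k = 21 := by linarith
    have hd : N.index ∣ 21 := ⟨k, h21.symm⟩
    have : N.index = 7 := by
      have hi' := Nat.le_of_dvd (by norm_num) hd
      interval_cases hh : N.index <;> simp_all
    rw [this] at h21
    omega
  exact steps_succ_of_ne_top (steps_above (p := 2) N (a := 3) (by rw [hc]; norm_num) (by rw [hc]; norm_num)) hne

/-- The orders `q` for which `PSL(2, q)` has no chain of five steps. -/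
theorem psl_short {q : ℕ} (hF : Fintype.card F = q) (hq : Odd q)
    (hb : ∀ n, Steps (⊤ : Subgroup PSL₂) n → n ≤ 4) :
    (q = 3 ∧ Steps (⊤ : Subgroup PSL₂) 3) ∨ (Steps (⊤ : Subgroup PSL₂) 4 ∧ (q = 5 ∨
      (13 ≤ q ∧ q.Prime ∧ Ω (q - 1) = 3 ∧
        ∃ a : ℕ, a.Prime ∧ a ≠ 2 ∧ (q + 1 = 4 * a ∨ q = 4 * a + 1)))) := by
  classical
  haveI : Fact (Nat.Prime 2) := ⟨Nat.prime_two⟩
  obtain ⟨p, hchar⟩ := CharP.exists F
  obtain ⟨f, hp, hpf⟩ := FiniteField.card F p
  rw [hF] at hpf
  haveI := Fact.mk hp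
  have hq2 : q % 2 = 1 := Nat.odd_iff.1 hq
  have hq3 : 3 ≤ q := by
    have : 2 ≤ q := by rw [← hF]; exact Fintype.one_lt_card
    omega
  have hcard := card_psl_odd hF hq2 hq3
  -- the alternating group of degree 5
  have h12 : Steps (⊤ : Subgroup (alternatingGroup (Fin 5))) 4 := by
    refine steps_succ_of_ne_top (steps_above (p := 2) Cfsg.Lib.Classical.PSLMaxExceptional.fix4 (a := 2)
      (by rw [Cfsg.Lib.Classical.PSLMaxExceptional.card_fix4]; norm_num)
      (by rw [Cfsg.Lib.Classical.PSLMaxExceptional.card_fix4]; norm_num)) fun h => ?_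
    have h' := Cfsg.Lib.Classical.PSLMaxExceptional.card_fix4
    rw [h, card_top, nat_card_alternatingGroup, Nat.card_fin] at h'
    exact absurd h' (by decide)
  have hA5 : ∀ {H : Subgroup PSL₂} (_ : H ≃* alternatingGroup (Fin 5)), Steps H 4 := fun {H} e => by
    have h := h12.map (f := e.symm.toMonoidHom) e.symm.injective
    rw [← MonoidHom.range_eq_map, MonoidHom.range_eq_top.2 e.symm.surjective] at h
    exact h.of_sub
  rcases (show q = 3 ∨ q = 5 ∨ q = 7 ∨ 9 ≤ q by omega) with rfl | rfl | rfl | h9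
  · refine Or.inl ⟨rfl, steps_above (p := 2) (⊤ : Subgroup PSL₂) (a := 2) ?_ ?_⟩ <;>
      rw [card_top, show Nat.card PSL₂ = 12 by omega] <;> norm_num
  · refine Or.inr ⟨?_, Or.inl rfl⟩
    obtain ⟨e⟩ := Cfsg.Lib.Classical.SmallPSL.psl_five hF
    exact (hA5 (Subgroup.topEquiv.trans e)).of_le_top le_rfl
  · exact absurd (hb 5 (psl_seven_steps hF)) (by norm_num)
  have hndvd : ¬ 5 ∣ q * (q ^ 2 - 1) := fun h5 => by
    obtain ⟨H, ⟨e⟩⟩ := (Cfsg.Lib.Classical.Icosian.iff_A5 hF).2 h5
    have hne : H ≠ ⊤ := fun h => by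
      have h1 := Nat.card_congr e.toEquiv
      rw [h, card_top, nat_card_alternatingGroup, Nat.card_fin] at h1
      have h2 : 9 * (9 ^ 2 - 1) ≤ q * (q ^ 2 - 1) :=
        Nat.mul_le_mul h9 (Nat.sub_le_sub_right (Nat.pow_le_pow_left h9 2) 1)
      rw [← hcard, h1] at h2
      exact absurd h2 (by decide)
    have := hb 5 (steps_succ_of_ne_top (hA5 e) hne)
    omega
  have h11 : q ≠ 9 ∧ q ≠ 11 := ⟨fun h => hndvd (h ▸ by norm_num), fun h => hndvd (h ▸ by norm_num)⟩
  have hq13 : 13 ≤ q := by omega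
  have hnot : q ∉ ({2, 3, 5, 7, 9, 11} : Finset ℕ) := by simp; omega
  have hgcd : Nat.gcd 2 (q - 1) = 2 := Nat.gcd_eq_left (by omega)
  -- the two dihedral subgroups
  obtain ⟨n, hn⟩ : ∃ n, q = 2 * n + 1 := ⟨q / 2, by omega⟩
  obtain ⟨H1, hH1, ⟨e1⟩⟩ := Cfsg.Agent.S0811.result hF (by simp; omega)
  obtain ⟨H2, hH2, ⟨e2⟩⟩ := Cfsg.Agent.S0812.result hF hnot
  haveI : NeZero ((q + 1) / Nat.gcd 2 (q - 1)) := ⟨by rw [hgcd]; omega⟩
  haveI : NeZero ((q - 1) / Nat.gcd 2 (q - 1)) := ⟨by rw [hgcd]; omega⟩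
  have s1 := steps_succ_of_ne_top (steps_dihedral e1) hH1.1
  have s2 := steps_succ_of_ne_top (steps_dihedral e2) hH2.1
  rw [show (q + 1) / Nat.gcd 2 (q - 1) = n + 1 by rw [hgcd]; omega] at s1
  rw [show (q - 1) / Nat.gcd 2 (q - 1) = n by rw [hgcd]; omega] at s2
  have b1 := hb _ s1
  have b2 := hb _ s2
  -- the field is prime
  obtain ⟨⟨-, H, hH⟩⟩ := And.intro (Cfsg.Agent.S0806.result hF hnot) trivial
  have hHne : H ≠ ⊤ := fun h => by rw [h, index_top] at hH; omega
  have hHc : Nat.card H = q * n := by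
    have h1 := H.card_mul_index
    rw [hH] at h1
    have h2 : q ^ 2 - 1 = (q + 1) * (q - 1) := by have := Nat.sq_sub_sq q 1; simpa using this
    rw [h2, ← h1, hn, show 2 * n + 1 - 1 = 2 * n by omega] at hcard
    refine Nat.eq_of_mul_eq_mul_right (show 0 < 2 * (2 * n + 1 + 1) by omega) ?_
    rw [hn]
    linarith
  have hf3 : (f : ℕ) + 1 + 1 ≤ 4 := hb _ (steps_succ_of_ne_top (steps_above (p := p) H (a := f)
    (by rw [hHc, ← hpf]; exact dvd_mul_right q n) (by
      rw [hHc, ← hpf]
      exact lt_mul_of_one_lt_right (by omega) (by omega))) hHne)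
  have hfpos := f.pos
  have hf1 : (f : ℕ) = 1 := by
    by_contra hne
    have hf2 : (f : ℕ) = 2 := by omega
    rw [hf2] at hpf
    have hp3 : p ≠ 3 := fun h => h11.1 (by rw [hpf, h]; norm_num)
    have hp2 : p ≠ 2 := fun h => by rw [hpf, h] at hq2; norm_num at hq2
    -- `12 ∣ n`
    have h24 : 24 ∣ 2 * n := by
      have e : 2 * n = (p + 1) * (p - 1) := by
        have := Nat.sq_sub_sq p 1
        simp at this
        rw [← this]
        omega
      rw [e]
      have hm3 : p % 3 ≠ 0 := fun h => hp3 ((Nat.prime_dvd_prime_iff_eq Nat.prime_three hp).1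
        (Nat.dvd_of_mod_eq_zero h)).symm
      have hm2 : p % 2 ≠ 0 := fun h => hp2 ((Nat.prime_dvd_prime_iff_eq Nat.prime_two hp).1
        (Nat.dvd_of_mod_eq_zero h)).symm
      obtain ⟨j, hj⟩ : ∃ j, p = 2 * j + 1 := ⟨p / 2, by omega⟩
      rw [hj, show 2 * j + 1 - 1 = 2 * j by omega, show (2 * j + 1 + 1) * (2 * j) = 4 * ((j + 1) * j) by ring,
        show 24 = 4 * 6 by norm_num]
      refine Nat.mul_dvd_mul_left 4 (Nat.dvd_of_mod_eq_zero ?_)
      rw [Nat.mul_mod]
      have h6 : j % 6 < 6 := Nat.mod_lt _ (by norm_num)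
      have h61 : (j + 1) % 6 = (j % 6 + 1) % 6 := by omega
      have : j % 6 ≠ 1 ∧ j % 6 ≠ 4 := ⟨fun h => hm3 (by omega), fun h => hm3 (by omega)⟩
      rw [h61]
      interval_cases j % 6 <;> simp_all
    obtain ⟨k, hk⟩ : 12 ∣ n := by
      obtain ⟨k, hk⟩ := h24
      exact ⟨k, by omega⟩
    have hk0 : k ≠ 0 := fun h => by rw [h] at hk; omega
    rw [hk, ArithmeticFunction.cardFactors_mul (by norm_num) hk0,
      show (12 : ℕ) = 2 * (2 * 3) by norm_num, omega_two_mul (by norm_num), omega_two_mul (by norm_num),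
      ArithmeticFunction.cardFactors_apply_prime Nat.prime_three] at b2
    omega
  have hqp : q.Prime := by rw [hpf, hf1, pow_one]; exact hp
  -- the arithmetic
  have hpr : ∀ m, 2 ≤ m → Ω m ≤ 1 → m.Prime := fun m hm h =>
    ArithmeticFunction.cardFactors_eq_one_iff_prime.1 (le_antisymm h (by
      rw [Nat.one_le_iff_ne_zero, Ne, ArithmeticFunction.cardFactors_eq_zero_iff_eq_zero_or_one]
      omega))
  have hOm : Ω (q - 1) = Ω n + 1 := by rw [hn, Nat.add_sub_cancel, omega_two_mul (by omega)]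
  refine Or.inr ?_
  rcases Nat.even_or_odd n with ⟨a, ha⟩ | ⟨a, ha⟩
  · rw [← two_mul] at ha
    rw [ha, omega_two_mul (by omega)] at b2 s2
    have hap := hpr a (by omega) (by omega)
    have ha1 : Ω a = 1 := ArithmeticFunction.cardFactors_apply_prime hap
    rw [ha1] at s2
    refine ⟨s2, Or.inr ⟨hq13, hqp, ?_, a, hap, by omega, Or.inr (by omega)⟩⟩
    rw [hOm, ha, omega_two_mul (by omega), ha1]
  · rw [ha, show 2 * a + 1 + 1 = 2 * (a + 1) by ring, omega_two_mul (by omega)] at b1 s1
    have hap := hpr (a + 1) (by omega) (by omega)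
    rw [ArithmeticFunction.cardFactors_apply_prime hap] at s1
    refine ⟨s1, Or.inr ⟨hq13, hqp, ?_, a + 1, hap, by omega, Or.inl (by omega)⟩⟩
    rw [hOm]
    by_contra hne
    have hnp := hpr n (by omega) (by omega)
    have h3n : n % 3 ≠ 0 := fun h => by
      have := (Nat.prime_dvd_prime_iff_eq Nat.prime_three hnp).1 (Nat.dvd_of_mod_eq_zero h)
      omega
    have h3q : q % 3 ≠ 0 := fun h => by
      have := (Nat.prime_dvd_prime_iff_eq Nat.prime_three hqp).1 (Nat.dvd_of_mod_eq_zero h)
      omega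
    have h3a : a % 3 = 2 := by
      rcases (show a % 3 = 0 ∨ a % 3 = 1 ∨ a % 3 = 2 by omega) with h | h | h
      · exact absurd (show q % 3 = 0 by rw [hn, ha]; omega) h3q
      · exact absurd (show n % 3 = 0 by rw [ha]; omega) h3n
      · exact h
    have := (Nat.prime_dvd_prime_iff_eq Nat.prime_three hap).1 (Nat.dvd_of_mod_eq_zero (show (a + 1) % 3 = 0 by omega))
    omega

end Cfsg.Lib.LenSeven
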