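import Cfsg.Agent.LenSeven.Cases
import Cfsg.Agent.LenSeven.QdPsl
import Cfsg.Agent.SemiCyclic.Reduce.SD

/-!
The centralizer of an involution in the quasidihedral case.
-/

set_option autoImplicit false
set_option linter.style.haveILetI false
set_option linter.unusedSectionVars false

namespace Cfsg.Lib.LenSeven

open Subgroup
open scoped MatrixGroups ArithmeticFunction.Omega commutatorElement
open Cfsg.Lib.SemiCyclic (TopData)

universe u

variable {G : Type u} [Group G] [Finite G]

/-- A chain below `H` is a chain in the group `H`. -/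
theorem steps_top_of_sub {X : Type u} [Group X] {H : Subgroup X} {n : ℕ} (h : Steps H n) :
    Steps (⊤ : Subgroup H) n := by
  suffices ∀ B : Subgroup X, Steps B n → B ≤ H → Steps (B.subgroupOf H) n by
    have := this H h le_rfl
    rwa [subgroupOf_self] at this
  intro B hB
  clear h
  induction hB with
  | zero B => exact fun _ => .zero _
  | @step A B k hlt _ ih =>
    refine fun hBH => .step (lt_of_le_of_ne (fun v hv => hlt.le hv) fun he => hlt.ne ?_) (ih (hlt.le.trans hBH))
    ext v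
    refine ⟨fun hv => hlt.le hv, fun hv => ?_⟩
    exact mem_subgroupOf.1 (he ▸ mem_subgroupOf.2 (show ((⟨v, hBH hv⟩ : H) : X) ∈ B from hv))

/-- Without chains of two steps the order is `1` or a prime. -/
theorem card_one_or_prime {K : Subgroup G} (h : ∀ n, Steps K n → n ≤ 1) : Nat.card K = 1 ∨ (Nat.card K).Prime := by
  rcases eq_or_ne (Nat.card K) 1 with h1 | h1
  · exact Or.inl h1
  obtain ⟨r, hr, hd⟩ := Nat.exists_prime_and_dvd h1
  haveI := Fact.mk hr
  obtain ⟨⟨x, hxK⟩, hx⟩ := exists_prime_orderOf_dvd_card' r hd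
  rw [Subgroup.orderOf_mk] at hx
  by_cases he : zpowers x = K
  · exact Or.inr (by rw [← he, Nat.card_zpowers, hx]; exact hr)
  exfalso
  have hne : (⊥ : Subgroup G) < zpowers x := bot_lt_iff_ne_bot.2 fun e => by
    rw [zpowers_eq_bot] at e
    rw [e, orderOf_one] at hx
    exact hr.one_lt.ne hx
  have := h 2 (.step (lt_of_le_of_ne (zpowers_le.2 hxK) he) (.step hne (.zero _)))
  omega

/-- The centralizer `C` of the involution `z` modulo its odd core is `SL(2, p)` extended by an involution. -/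
structure QdData (z : G) (p : ℕ) : Prop where
  z_ord : orderOf z = 2
  conj_all : ∀ s : G, orderOf s = 2 → IsConj z s
  sd : ∀ S : Sylow 2 G, Cfsg.IsQuasiDihedral (S : Subgroup G)
  top : TopData (↥(centralizer ({z} : Set G)) ⧸ Cfsg.oddCore ↥(centralizer ({z} : Set G)))
    (QuotientGroup.mk ⟨z, mem_centralizer_singleton_iff.2 rfl⟩) p

theorem perfect [IsSimpleGroup G] (hna : ¬ IsMulCommutative G) : commutator G = ⊤ := by
  rcases IsSimpleGroup.eq_bot_or_eq_top_of_normal (commutator G) inferInstance with h | h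
  · refine absurd ⟨⟨fun a b => ?_⟩⟩ hna
    have : ⁅a, b⁆ ∈ commutator G := commutator_mem_commutator (mem_top a) (mem_top b)
    rw [h, mem_bot, commutatorElement_eq_one_iff_mul_comm] at this
    exact this
  · exact h

theorem centralizer_invol_ne_top [IsSimpleGroup G] (hna : ¬ IsMulCommutative G) {z : G} (hz : orderOf z = 2) :
    centralizer ({z} : Set G) ≠ ⊤ := fun h => by
  have hc : z ∈ center G := mem_center_iff.2 fun g => mem_centralizer_singleton_iff.1 (h ▸ mem_top g)
  rcases IsSimpleGroup.eq_bot_or_eq_top_of_normal (center G) inferInstance with e | e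
  · rw [e, mem_bot] at hc
    rw [hc, orderOf_one] at hz
    omega
  · exact hna ⟨⟨fun a b => (mem_center_iff.1 (e ▸ mem_top b : b ∈ center G)) a⟩⟩

theorem qd_top [IsSimpleGroup G] (hna : ¬ IsMulCommutative G) (hG : Short G) (S : Sylow 2 G)
    (hS : Cfsg.IsQuasiDihedral (S : Subgroup G)) : ∃ (z : G) (p : ℕ), QdData z p ∧
      ((p = 3 ∧ (Nat.card (Cfsg.oddCore ↥(centralizer ({z} : Set G))) = 1 ∨
          (Nat.card (Cfsg.oddCore ↥(centralizer ({z} : Set G)))).Prime)) ∨
        (Cfsg.oddCore ↥(centralizer ({z} : Set G)) = ⊥ ∧ (p = 5 ∨ (13 ≤ p ∧ Ω (p - 1) = 3 ∧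
          ∃ a : ℕ, a.Prime ∧ a ≠ 2 ∧ (p + 1 = 4 * a ∨ p = 4 * a + 1))))) := by
  classical
  haveI : Fact (Nat.Prime 2) := ⟨Nat.prime_two⟩
  have hP := perfect hna
  have hsd : ∀ T : Sylow 2 G, Cfsg.IsQuasiDihedral (T : Subgroup G) := Cfsg.Lib.SemiCyclic.qd_all hS
  obtain ⟨m, a, b, hg⟩ := Cfsg.Lib.QD.exists_gen hS
  set zS := a ^ ((2 : ℤ) ^ (m - 1)) with hzS
  set z : G := (zS : G) with hz
  have hzo : orderOf z = 2 := by rw [hz, Subgroup.orderOf_coe, hzS, Cfsg.Lib.QD.orderOf_z hg]
  have hA : (zpowers a).index = 2 := by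
    have h1 := (zpowers a).card_mul_index
    rw [Nat.card_zpowers, hg.2.ord, hg.2.card, pow_succ] at h1
    exact Nat.eq_of_mul_eq_mul_left (Nat.two_pow_pos _) h1
  have hconj : ∀ s : G, orderOf s = 2 → IsConj z s := fun s hs => by
    obtain ⟨g, c, hc, hgc⟩ := Cfsg.Lib.SemiCyclic.conj_into_cyclic hP S (zpowers a) hA hs
    obtain ⟨k, rfl⟩ := mem_zpowers_iff.1 hc
    have hco : orderOf (a ^ k) = 2 := by
      rw [← Subgroup.orderOf_coe, ← hgc, show g⁻¹ * s * g = MulAut.conj g⁻¹ s by simp, MulEquiv.orderOf_eq, hs]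
    rw [(Cfsg.Lib.QD.zpow_order_two hg).1 hco, ← hzS, ← hz] at hgc
    exact isConj_iff.2 ⟨g, by rw [← hgc]; group⟩
  set C := centralizer ({z} : Set G) with hC
  have hCtop : C < ⊤ := lt_top_iff_ne_top.2 (centralizer_invol_ne_top hna hzo)
  have hSC : (S : Subgroup G) ≤ C := fun v hv => mem_centralizer_singleton_iff.2 (by
    rcases Cfsg.Lib.CyclicMax.cases hg.2 (⟨v, hv⟩ : (S : Subgroup G)) with ⟨k, hk⟩ | ⟨k, hk⟩
    all_goals
      rw [show v = ((⟨v, hv⟩ : (S : Subgroup G)) : G) from rfl, hk, hz, ← Subgroup.coe_mul, ← Subgroup.coe_mul]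
      refine congrArg Subtype.val (Commute.eq ?_)
    · exact Commute.zpow_zpow_self a k _
    · exact (Commute.zpow_zpow_self a k _).mul_left ((Cfsg.Lib.QD.zpow_comm_b_iff hg _).2 (Or.inr rfl)))
  set SC : Sylow 2 C := S.subtype hSC
  set K := Cfsg.oddCore C with hK
  haveI : K.Normal := by rw [hK]; exact (inferInstance : (Cfsg.pPrimeCore 2 C).Normal)
  have hKodd : Odd (Nat.card K) := Nat.coprime_two_right.1 (Cfsg.Lib.Components.coprime_card_pPrimeCore 2)
  set π := QuotientGroup.mk' K with hπ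
  set T := SC.mapSurjective (QuotientGroup.mk'_surjective K)
  have hTsd : Cfsg.IsQuasiDihedral ((T : Sylow 2 (C ⧸ K)) : Subgroup (C ⧸ K)) := by
    have hinj : Function.Injective (π.subgroupMap (SC : Subgroup C)) := by
      rw [injective_iff_map_eq_one]
      intro v hv
      have h1 : (v : C) ∈ K := (QuotientGroup.eq_one_iff _).1 (congrArg Subtype.val hv)
      obtain ⟨k, hk⟩ := SC.2 v
      have h2 : orderOf (v : C) ∣ Nat.gcd (Nat.card K) (2 ^ k) := Nat.dvd_gcd (K.orderOf_dvd_natCard h1)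
        (orderOf_dvd_of_pow_eq_one (by rw [← SubmonoidClass.coe_pow, hk]; rfl))
      rw [(Nat.coprime_two_right.2 hKodd).pow_right k, Nat.dvd_one, orderOf_eq_one_iff] at h2
      exact Subtype.ext h2
    exact Cfsg.Lib.SemiCyclic.qd_congr (MulEquiv.ofBijective _ ⟨hinj, π.subgroupMap_surjective _⟩)
      (Cfsg.Lib.SemiCyclic.qd_congr (Subgroup.subgroupOfEquivOfLe hSC).symm hS)
  obtain ⟨F, iF, iF', hFodd, ⟨e⟩⟩ := Cfsg.Agent.S1240.result S (Or.inl hS)
    (Cfsg.Lib.SemiCyclic.index_ne_two_of_perfect hP)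
    (fun x y hx hy => (hconj x hx).symm.trans (hconj y hy)) z hzo
  set N := commutator (C ⧸ K)
  -- the field has odd characteristic
  obtain ⟨p, hchar⟩ := CharP.exists F
  obtain ⟨f, hp, hpf⟩ := FiniteField.card F p
  haveI := Fact.mk hp
  have hp2 : p ≠ 2 := fun h => by
    rw [hpf, h] at hFodd
    exact absurd hFodd (Nat.not_odd_iff_even.2 (Nat.even_pow.2 ⟨even_two, f.pos.ne'⟩))
  set ν : SL(2, F) := -1 with hν
  have hν1 : ν ≠ 1 := fun h => by
    have h' := congrArg (fun v : SL(2, F) => (v : Matrix (Fin 2) (Fin 2) F) 0 0) h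
    have h2 : (2 : F) ≠ 0 := fun h2 => hp2 ((Nat.prime_dvd_prime_iff_eq hp Nat.prime_two).1
      ((CharP.cast_eq_zero_iff F p 2).1 (by exact_mod_cast h2)))
    simp [hν] at h'
    exact h2 (by linear_combination -h')
  -- the commutator subgroup is proper
  have hNne : N ≠ ⊤ := fun hN => by
    obtain ⟨m', a', b', hg'⟩ := Cfsg.Lib.QD.exists_gen hTsd
    have huniq : ∀ v : (T : Subgroup (C ⧸ K)), orderOf v = 2 → e ⟨v, hN ▸ mem_top _⟩ = ν := fun v hv => by
      have ho : orderOf (e ⟨(v : C ⧸ K), hN ▸ mem_top _⟩) = 2 := by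
        rw [MulEquiv.orderOf_eq, Subgroup.orderOf_mk, Subgroup.orderOf_coe, hv]
      refine Cfsg.Lib.Classical.SLTwoTori.eq_neg_one p hp2 (fun h => ?_) ?_
      · rw [h, orderOf_one] at ho
        omega
      · rw [← pow_two]
        exact orderOf_dvd_iff_pow_eq_one.1 (dvd_of_eq ho)
    have hb : orderOf b' = 2 := by
      have := (Cfsg.Lib.QD.orderOf_b hg' 0).1 (dvd_zero 2)
      rwa [zpow_zero, one_mul] at this
    have h := e.injective ((huniq b' hb).trans (huniq _ (Cfsg.Lib.QD.orderOf_z hg')).symm)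
    have h' : b' = a' ^ ((2 : ℤ) ^ (m' - 1)) := Subtype.ext (congrArg (fun v : N => (v : C ⧸ K)) h)
    exact hg'.2.notMem (by rw [h']; exact zpow_mem (mem_zpowers a') _)
  -- the chain through the preimage of `N`
  set L : Subgroup C := N.comap π with hL
  have hLtop : L ≠ ⊤ := fun h => hNne (top_le_iff.1 fun v _ => by
    obtain ⟨w, rfl⟩ := QuotientGroup.mk'_surjective K v
    exact (h ▸ mem_top w : w ∈ L))
  set ψ : L →* Matrix.ProjectiveSpecialLinearGroup (Fin 2) F :=
    (QuotientGroup.mk' (center SL(2, F))).comp (e.toMonoidHom.comp (π.subgroupComap N)) with hψ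
  have hsurj : Function.Surjective ψ := by
    refine (QuotientGroup.mk'_surjective _).comp (e.surjective.comp fun v => ?_)
    obtain ⟨w, hw⟩ := QuotientGroup.mk'_surjective K (v : C ⧸ K)
    exact ⟨⟨w, show π w ∈ N from hw ▸ v.2⟩, Subtype.ext hw⟩
  have hKL : K ≤ L := fun v hv => by
    show π v ∈ N
    rw [show π v = 1 from (QuotientGroup.eq_one_iff v).2 hv]
    exact one_mem N
  -- the kernel
  have hker : ∀ n, Steps K n → Steps ψ.ker (n + 1) := fun n hn => by
    obtain ⟨w, hw⟩ := QuotientGroup.mk'_surjective K (e.symm ν : C ⧸ K)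
    have hwL : w ∈ L := show π w ∈ N from hw ▸ (e.symm ν).2
    have hwe : e (π.subgroupComap N ⟨w, hwL⟩) = ν := by
      rw [show π.subgroupComap N ⟨w, hwL⟩ = e.symm ν from Subtype.ext hw, MulEquiv.apply_symm_apply]
    have hlt : K.subgroupOf L < ψ.ker := by
      refine lt_of_le_of_ne (fun v hv => ?_) fun h => ?_
      · rw [mem_subgroupOf] at hv
        have : π.subgroupComap N v = 1 := Subtype.ext ((QuotientGroup.eq_one_iff (v : C)).2 hv)
        rw [MonoidHom.mem_ker, hψ, MonoidHom.comp_apply, MonoidHom.comp_apply, this, map_one, map_one]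
      · have hmem : (⟨w, hwL⟩ : L) ∈ ψ.ker := by
          refine MonoidHom.mem_ker.2 ?_
          show QuotientGroup.mk' (center SL(2, F)) (e (π.subgroupComap N ⟨w, hwL⟩)) = 1
          rw [hwe]
          exact Cfsg.Lib.Classical.PSLFour.π_one_iff.2 (Or.inr rfl)
        rw [← h, mem_subgroupOf] at hmem
        refine hν1 ?_
        rw [← hwe, show π.subgroupComap N ⟨w, hwL⟩ = 1 from Subtype.ext ((QuotientGroup.eq_one_iff w).2 hmem),
          map_one]
    refine .step hlt ?_
    have h1 : Steps (⊤ : Subgroup (K.subgroupOf L)) n := by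
      have hnK : Steps (⊤ : Subgroup K) n := steps_top_of_sub hn
      have := hnK.map (f := (Subgroup.subgroupOfEquivOfLe hKL).symm.toMonoidHom)
        (Subgroup.subgroupOfEquivOfLe hKL).symm.injective
      rwa [← MonoidHom.range_eq_map,
        MonoidHom.range_eq_top.2 (Subgroup.subgroupOfEquivOfLe hKL).symm.surjective] at this
    exact h1.of_sub
  have hbound : ∀ n k, Steps (⊤ : Subgroup (Matrix.ProjectiveSpecialLinearGroup (Fin 2) F)) n → Steps K k →
      n + (k + 1) ≤ 5 := fun n k hn hk => by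
    have h1 := (hn.comap hsurj (hker k hk))
    rw [comap_top] at h1
    have h2 := h1.of_sub.map C.subtype_injective
    refine hG.bound_two h2 ?_ hCtop
    refine lt_of_le_of_ne (map_subtype_le _) fun h => hLtop ?_
    apply map_injective C.subtype_injective
    rw [h, ← MonoidHom.range_eq_map, range_subtype]
  have hbPSL : ∀ n, Steps (⊤ : Subgroup (Matrix.ProjectiveSpecialLinearGroup (Fin 2) F)) n → n ≤ 4 := fun n hn => by
    have := hbound n 0 hn (.zero _)
    omega
  -- conclusion for a prime field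
  have mk : ∀ (r : ℕ), r.Prime → Fintype.card F = r → QdData z r := fun r hr hcF => by
    haveI := Fact.mk hr
    have hr2 : r ≠ 2 := fun h => by rw [hcF, h] at hFodd; exact absurd hFodd (by decide)
    obtain ⟨σ⟩ := Cfsg.Lib.EqualOrder.slCongr (FiniteField.ringEquivOfCardEq (K := F) (K' := ZMod r)
      (by rw [hcF, ZMod.card]))
    obtain ⟨hidx, u, huN, hu⟩ := Cfsg.Lib.SemiCyclic.sl_extension hr2 N (e.trans σ)
      Cfsg.Lib.Components.pPrimeCore_quotient_eq_bot (Cfsg.Lib.SemiCyclic.qd_all hTsd)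
    refine ⟨hzo, hconj, hsd, hr, ?_, ?_, ?_, ⟨N, inferInstance, hidx, ⟨e.trans σ⟩, u, huN, hu⟩,
      Cfsg.Lib.SemiCyclic.qd_all hTsd⟩
    · have := hr.two_le; omega
    · set zC : C := ⟨z, mem_centralizer_singleton_iff.2 rfl⟩
      have hzC : orderOf zC = 2 := (Subgroup.orderOf_mk _ _).trans hzo
      refine orderOf_eq_prime ?_ fun h1 => ?_
      · rw [← QuotientGroup.mk_pow, show zC ^ 2 = 1 from orderOf_dvd_iff_pow_eq_one.1 (dvd_of_eq hzC),
          QuotientGroup.mk_one]
      · have h2 := K.orderOf_dvd_natCard ((QuotientGroup.eq_one_iff zC).1 h1)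
        rw [hzC] at h2
        exact Nat.not_even_iff_odd.2 hKodd (even_iff_two_dvd.2 h2)
    · refine mem_center_iff.2 fun g => ?_
      obtain ⟨v, rfl⟩ := QuotientGroup.mk_surjective g
      rw [← QuotientGroup.mk_mul, ← QuotientGroup.mk_mul]
      exact congrArg _ (Subtype.ext (mem_centralizer_singleton_iff.1 v.2))
  refine ⟨z, Fintype.card F, ?_⟩
  rcases psl_short rfl hFodd hbPSL with ⟨h3, h⟩ | ⟨h, h5⟩
  · exact ⟨mk _ (h3 ▸ Nat.prime_three) rfl, Or.inl ⟨h3, card_one_or_prime fun n hn => by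
      have := hbound 3 n h hn
      omega⟩⟩
  · have hpr : (Fintype.card F).Prime := by
      rcases h5 with h5 | ⟨-, h5, -⟩
      · rw [h5]; norm_num
      · exact h5
    refine ⟨mk _ hpr rfl, Or.inr ⟨?_, ?_⟩⟩
    · by_contra hne
      have := hbound 4 1 h (.step (bot_lt_iff_ne_bot.2 hne) (.zero _))
      omega
    · exact h5.imp id fun h => ⟨h.1, h.2.2⟩

end Cfsg.Lib.LenSeven
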