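import Cfsg.Agent.Coprime.Sylow
import Mathlib.GroupTheory.SpecificGroups.Cyclic

/-!
Transvections of an elementary abelian group of order at most eight, inside a group of automorphisms whose order is
not divisible by eight.
-/

set_option autoImplicit false
set_option linter.style.haveILetI false
set_option linter.unusedSectionVars false

namespace Cfsg.Lib.LenSeven

open Subgroup

universe u

variable {V : Type u} [Group V]

/-- `t` moves elements by `a` only. -/
structure Tv (t : MulAut V) (a : V) : Prop where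
  ne : a ≠ 1
  step : ∀ v, t v = v ∨ t v = v * a
  moved : ∃ v, t v ≠ v

/-- Membership in `{1, a, b, a * b}`. -/
def InW (a b u : V) : Prop := u = 1 ∨ u = a ∨ u = b ∨ u = a * b

section

variable (hV : ∀ v : V, v * v = 1)
include hV

theorem cm (a b : V) : a * b = b * a := by
  have h := hV (a * b)
  calc a * b = (a * b)⁻¹ := eq_inv_of_mul_eq_one_left h
    _ = b⁻¹ * a⁻¹ := mul_inv_rev a b
    _ = b * a := by rw [inv_eq_of_mul_eq_one_right (hV a), inv_eq_of_mul_eq_one_right (hV b)]

theorem cancel_two (a b : V) : a * b * b = a := by rw [mul_assoc, hV, mul_one]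

theorem cancel_left_two (a b : V) : a * (a * b) = b := by rw [← mul_assoc, hV, one_mul]

theorem InW.mul {a b u w : V} (hu : InW a b u) (hw : InW a b w) : InW a b (u * w) := by
  have h1 : b * (a * b) = a := by rw [cm hV a b, cancel_left_two hV]
  have h2 : a * b * a = b := by rw [cm hV a b, cancel_two hV]
  have h3 : a * (b * (a * b)) = 1 := by rw [h1, hV]
  rcases hu with h | h | h | h <;> rcases hw with g | g | g | g <;> rw [h, g] <;>
    simp only [InW, one_mul, mul_one, hV, h1, h2, cancel_two hV, cancel_left_two hV, cm hV b a, true_or, or_true]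

theorem Tv.fix_self {t : MulAut V} {a : V} (h : Tv t a) : t a = a :=
  (h.step a).resolve_right fun e => by
    rw [hV] at e
    exact h.ne (t.injective (e.trans (map_one t).symm))

theorem Tv.sq {t : MulAut V} {a : V} (h : Tv t a) : t * t = 1 := by
  refine MulEquiv.ext fun v => ?_
  show t (t v) = v
  rcases h.step v with e | e
  · rw [e, e]
  · rw [e, map_mul, h.fix_self hV, e, cancel_two hV]

theorem Tv.ne_one {t : MulAut V} {a : V} (h : Tv t a) : t ≠ 1 := fun e => by
  obtain ⟨v, hv⟩ := h.moved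
  exact hv (by rw [e]; rfl)

theorem Tv.order {t : MulAut V} {a : V} (h : Tv t a) : orderOf t = 2 :=
  orderOf_eq_prime (by rw [pow_two, h.sq hV]) (h.ne_one hV)

theorem Tv.inv_eq {t : MulAut V} {a : V} (h : Tv t a) : t⁻¹ = t :=
  inv_eq_of_mul_eq_one_right (h.sq hV)

theorem Tv.centre_unique {t : MulAut V} {a a' : V} (h : Tv t a) (h' : Tv t a') : a = a' := by
  obtain ⟨v, hv⟩ := h.moved
  exact mul_left_cancel (((h.step v).resolve_left hv).symm.trans ((h'.step v).resolve_left hv))

theorem Tv.conj {t : MulAut V} {a : V} (h : Tv t a) (x : MulAut V) : Tv (x * t * x⁻¹) (x a) := by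
  refine ⟨fun e => h.ne (x.injective (e.trans (map_one x).symm)), fun v => ?_, ?_⟩
  · rcases h.step (x⁻¹ v) with e | e
    · left
      show x (t (x⁻¹ v)) = v
      rw [e, MulAut.apply_inv_self]
    · right
      show x (t (x⁻¹ v)) = v * x a
      rw [e, map_mul, MulAut.apply_inv_self]
  · obtain ⟨v, hv⟩ := h.moved
    refine ⟨x v, fun e => hv (x.injective ?_)⟩
    have e' : x (t (x⁻¹ (x v))) = x v := e
    rwa [MulAut.inv_apply_self] at e'

/-- Two commuting transvections fix each other's centre. -/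
theorem Tv.fix_of_commute {t τ : MulAut V} {a b : V} (ht : Tv t a) (hτ : Tv τ b) (h : Commute t τ) :
    t b = b := by
  refine ((hτ.conj hV t).centre_unique hV ?_)
  rwa [h.eq, mul_inv_cancel_right]

/-- If one transvection fixes the centre of the other, the fourth power of the product is trivial. -/
theorem pow_four {t τ : MulAut V} {a b : V} (ht : Tv t a) (hτ : Tv τ b) (h : τ a = a) : (t * τ) ^ 4 = 1 := by
  set L := t * τ with hL
  have hLa : L a = a := by show t (τ a) = a; rw [h, ht.fix_self hV]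
  have hLb : L b = b ∨ L b = b * a := by
    show t (τ b) = b ∨ t (τ b) = b * a
    rw [hτ.fix_self hV]
    exact ht.step b
  have hstep : ∀ v, ∃ u, L v = v * u ∧ (L u = u ∨ L u = u * a) := by
    intro v
    rcases hτ.step v with e | e
    · rcases ht.step v with e' | e'
      · exact ⟨1, by show t (τ v) = _; rw [e, e', mul_one], Or.inl (map_one L)⟩
      · exact ⟨a, by show t (τ v) = _; rw [e, e'], Or.inl hLa⟩
    · rcases ht.step v with e' | e'
      · refine ⟨t b, by show t (τ v) = _; rw [e, map_mul, e'], ?_⟩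
        rcases ht.step b with e'' | e''
        · rw [e'']; exact hLb
        · rw [e'', map_mul, hLa]
          rcases hLb with e3 | e3 <;> rw [e3]
          · exact Or.inl rfl
          · exact Or.inr rfl
      · refine ⟨a * t b, by show t (τ v) = _; rw [e, map_mul, e', mul_assoc], ?_⟩
        rcases ht.step b with e'' | e''
        · rw [e'', map_mul, hLa]
          rcases hLb with e3 | e3 <;> rw [e3]
          · exact Or.inl rfl
          · exact Or.inr (by rw [mul_assoc])
        · rw [e'', cm hV b a, cancel_left_two hV]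
          exact hLb
  have h2 : ∀ v, L (L v) = v ∨ L (L v) = v * a := by
    intro v
    obtain ⟨u, e, hu | hu⟩ := hstep v
    · left; rw [e, map_mul, e, hu, cancel_two hV]
    · right; rw [e, map_mul, e, hu, ← mul_assoc, cancel_two hV]
  refine MulEquiv.ext fun v => ?_
  show L (L (L (L v))) = v
  rcases h2 v with e | e <;> rw [e]
  · exact e
  · rw [map_mul, map_mul, hLa, hLa, e, cancel_two hV]

variable [Finite V]

/-- Two involutions generating a dihedral group of order eight. -/
theorem eight_dvd {X : Subgroup (MulAut V)} {t τ : MulAut V} (ht : t ∈ X) (hτ : τ ∈ X) (h1 : t * t = 1)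
    (h2 : τ * τ = 1) (hne : ¬ Commute t τ) (h4 : (t * τ) ^ 4 = 1) : 8 ∣ Nat.card X := by
  haveI : Fact (Nat.Prime 2) := ⟨Nat.prime_two⟩
  set x := t * τ with hx
  have hti : t⁻¹ = t := inv_eq_of_mul_eq_one_right h1
  have hτi : τ⁻¹ = τ := inv_eq_of_mul_eq_one_right h2
  have hx2 : ¬ x ^ 2 = 1 := fun e => hne (by
    show t * τ = τ * t
    calc t * τ = (t * τ)⁻¹ := eq_inv_of_mul_eq_one_left (by rw [← pow_two]; exact e)
      _ = τ * t := by rw [mul_inv_rev, hti, hτi])
  have hxo : orderOf x = 2 ^ 2 := orderOf_eq_prime_pow (by simpa using hx2) (by simpa using h4)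
  have hn : zpowers t ≤ normalizer (zpowers x : Set (MulAut V)) := by
    refine zpowers_le.2 (mem_normalizer_iff_map_conj_eq.2
      (eq_of_le_of_card_ge ?_ (card_map_of_injective (MulEquiv.injective _)).ge))
    rintro _ ⟨_, ⟨i, rfl⟩, rfl⟩
    show t * x ^ i * t⁻¹ ∈ zpowers x
    rw [← conj_zpow]
    refine zpow_mem ?_ i
    have : t * x * t⁻¹ = x⁻¹ := by
      rw [hx, mul_inv_rev, hτi, hti, ← mul_assoc t t τ, h1, one_mul]
    rw [this]
    exact inv_mem (mem_zpowers x)
  have hc := Cfsg.Lib.Coprime.card_sup_mul_card_inf hn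
  rw [inf_comm] at hc
  have hinf : zpowers t ⊓ zpowers x = ⊥ := by
    refine (Subgroup.eq_bot_iff_forall _).2 fun y hy => by_contra fun hy1 => hne ?_
    obtain ⟨i, rfl⟩ := mem_zpowers_iff.1 hy.1
    have e : t ^ i = t := by
      rcases Int.even_or_odd i with ⟨j, rfl⟩ | ⟨j, rfl⟩
      · exact absurd (by rw [← two_mul, zpow_mul, zpow_two, h1, one_zpow]) hy1
      · rw [zpow_add, zpow_mul, zpow_two, h1, one_zpow, one_mul, zpow_one]
    rw [e] at hy
    obtain ⟨j, hj⟩ := mem_zpowers_iff.1 hy.2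
    have h : Commute t x := by rw [← hj]; exact (Commute.refl x).zpow_left j
    have := (Commute.refl t).inv_right.mul_right h
    rwa [hx, inv_mul_cancel_left] at this
  have hto : orderOf t = 2 := orderOf_eq_prime (by rw [pow_two, h1]) fun e => hne (by rw [e]; exact Commute.one_left τ)
  rw [hinf, card_bot, mul_one, Nat.card_zpowers, Nat.card_zpowers, hxo, hto] at hc
  have hle : zpowers x ⊔ zpowers t ≤ X := sup_le (zpowers_le.2 (mul_mem ht hτ)) (zpowers_le.2 ht)
  have := card_dvd_of_le hle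
  rw [hc] at this
  norm_num at this
  exact this

/-- Non-commuting transvections move each other's centre. -/
theorem pair {X : Subgroup (MulAut V)} (h8 : ¬ 8 ∣ Nat.card X) {t τ : MulAut V} {a b : V} (ht : Tv t a)
    (hτ : Tv τ b) (htX : t ∈ X) (hτX : τ ∈ X) (hne : ¬ Commute t τ) : t b = b * a ∧ τ a = a * b :=
  ⟨(ht.step b).resolve_left fun e => h8 (eight_dvd hV hτX htX (hτ.sq hV) (ht.sq hV) (fun h => hne h.symm)
      (pow_four hV hτ ht e)),
    (hτ.step a).resolve_left fun e => h8 (eight_dvd hV htX hτX (ht.sq hV) (hτ.sq hV) hne (pow_four hV ht hτ e))⟩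

/-- The conjugate `τ t τ` commutes with a third transvection meeting both. -/
theorem three {X : Subgroup (MulAut V)} (h8 : ¬ 8 ∣ Nat.card X) {t τ σ : MulAut V} {a b c : V} (ht : Tv t a)
    (hτ : Tv τ b) (hσ : Tv σ c) (htX : t ∈ X) (hτX : τ ∈ X) (hσX : σ ∈ X) (h1 : ¬ Commute t τ)
    (h2 : ¬ Commute t σ) (h3 : ¬ Commute τ σ) : Commute σ (τ * t * τ⁻¹) := by
  by_contra hno
  obtain ⟨-, hτa⟩ := pair hV h8 ht hτ htX hτX h1
  obtain ⟨htc, -⟩ := pair hV h8 ht hσ htX hσX h2
  obtain ⟨hτc, -⟩ := pair hV h8 hτ hσ hτX hσX h3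
  have h := (pair hV h8 hσ (ht.conj hV τ) hσX (mul_mem (mul_mem hτX htX) (inv_mem hτX)) hno).2
  have e : (τ * t * τ⁻¹) c = c := by
    show τ (t (τ⁻¹ c)) = c
    rw [hτ.inv_eq hV, hτc, map_mul, htc, cm hV c a, mul_assoc]
    rcases ht.step b with e | e
    · exact absurd e fun e => h8 (eight_dvd hV hτX htX (hτ.sq hV) (ht.sq hV) (fun h => h1 h.symm)
        (pow_four hV hτ ht e))
    · rw [e, map_mul, map_mul, map_mul, hτc, hτ.fix_self hV, hτa]
      rw [show a * b * (c * b * (b * (a * b))) = a * b * (c * (b * b) * (a * b)) by simp only [mul_assoc], hV,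
        mul_one, cm hV c (a * b), cancel_left_two hV]
  rw [e] at h
  exact (ht.conj hV τ).ne (mul_left_cancel ((mul_one c).trans h)).symm

variable (h8V : Nat.card V ≤ 8)
include h8V

/-- An automorphism commuting with a transvection has order dividing four. -/
theorem cent_pow {t k : MulAut V} {a : V} (ht : Tv t a) (hc : Commute k t) : k ^ 4 = 1 := by
  classical
  let H : Subgroup V :=
    { carrier := {v | t v = v}
      one_mem' := map_one t
      mul_mem' := fun {x y} hx hy => by
        show t (x * y) = x * y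
        rw [map_mul, hx, hy]
      inv_mem' := fun {x} hx => by
        show t x⁻¹ = x⁻¹
        rw [map_inv, hx] }
  have hka : k a = a := by
    refine (ht.conj hV k).centre_unique hV ?_
    rwa [hc.eq, mul_inv_cancel_right]
  have hH : Nat.card H ≤ 4 := by
    obtain ⟨v, hv⟩ := ht.moved
    have hi : H.index ≠ 1 := fun e => hv ((index_eq_one.1 e ▸ mem_top v : v ∈ H))
    have hi0 : H.index ≠ 0 := index_ne_zero_of_finite
    have := H.card_mul_index
    by_contra h
    have h2 : 5 * 2 ≤ Nat.card H * H.index := Nat.mul_le_mul (by omega) (by omega)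
    omega
  have hfix : ∀ v, t v = v → k v = v ∨ k v = v * a := by
    intro v hv
    have hkv : t (k v) = k v := by
      have e := DFunLike.congr_fun hc.eq v
      show t (k v) = k v
      rw [show t (k v) = k (t v) from e.symm, hv]
    by_contra hno
    push Not at hno
    have hv1 : v ≠ 1 := fun e => hno.1 (by rw [e, map_one])
    have hva : v ≠ a := fun e => hno.1 (by rw [e, hka])
    have hk1 : k v ≠ 1 := fun e => hv1 (k.injective (e.trans (map_one k).symm))
    have hk2 : k v ≠ a := fun e => hva (k.injective (e.trans hka.symm))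
    have hsub : ({1, a, v, v * a, k v} : Set V) ⊆ (H : Set V) := by
      intro x hx
      simp only [Set.mem_insert_iff, Set.mem_singleton_iff] at hx
      rcases hx with rfl | rfl | rfl | rfl | rfl
      exacts [map_one t, ht.fix_self hV, hv, by show t (v * a) = v * a; rw [map_mul, hv, ht.fix_self hV], hkv]
    have hcard := Set.ncard_le_ncard hsub (Set.toFinite _)
    rw [← Nat.card_coe_set_eq (H : Set V)] at hcard
    have h5 : ({1, a, v, v * a, k v} : Set V).ncard = 5 := by
      have a1 : (1 : V) ≠ a := fun e => ht.ne e.symm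
      have a2 : a ≠ v * a := fun e => hv1 (right_eq_mul.1 e)
      have a3 : v ≠ v * a := fun e => ht.ne (left_eq_mul.1 e)
      have a4 : (1 : V) ≠ v * a := fun e => hva (by rw [eq_inv_of_mul_eq_one_left e.symm,
        inv_eq_of_mul_eq_one_right (hV a)])
      rw [Set.ncard_insert_of_notMem (by simp [a1, hv1.symm, a4, hk1.symm]) (Set.toFinite _),
        Set.ncard_insert_of_notMem (by simp [hva.symm, a2, hk2.symm]) (Set.toFinite _),
        Set.ncard_insert_of_notMem (by simp [a3, (Ne.symm hno.1)]) (Set.toFinite _),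
        Set.ncard_pair (Ne.symm hno.2)]
    have : Nat.card (H : Set V) = Nat.card H := rfl
    omega
  have h2 : ∀ v, k (k v) = v ∨ k (k v) = v * a := by
    intro v
    have hd : t (v * k v) = v * k v := by
      have e := DFunLike.congr_fun hc.eq v
      rw [map_mul, show t (k v) = k (t v) from e.symm]
      rcases ht.step v with e1 | e1 <;> rw [e1]
      rw [map_mul, hka, cm hV (k v) a, mul_assoc, cancel_left_two hV]
    have hkv : k v = v * (v * k v) := (cancel_left_two hV _ _).symm
    rcases hfix _ hd with e | e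
    · left
      conv_lhs => rw [hkv, map_mul, e, cm hV v (k v), cancel_left_two hV]
    · right
      conv_lhs => rw [hkv, map_mul, e, ← mul_assoc, cm hV v (k v), cancel_left_two hV]
  refine MulEquiv.ext fun v => ?_
  show k (k (k (k v))) = v
  rcases h2 v with e | e <;> rw [e]
  · exact e
  · rw [map_mul, map_mul, hka, hka, e, cancel_two hV]

/-- Every involutory automorphism is a transvection. -/
theorem exists_tv {t : MulAut V} (h2 : t * t = 1) (h1 : t ≠ 1) : ∃ a, Tv t a := by
  classical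
  obtain ⟨v, hv⟩ : ∃ v, t v ≠ v := by
    by_contra hno
    push Not at hno
    exact h1 (MulEquiv.ext hno)
  let f : V →* V := MonoidHom.mk' (fun x => x * t x) fun x y => by
    rw [map_mul]
    calc x * y * (t x * t y) = x * (y * t x) * t y := by simp only [mul_assoc]
      _ = x * t x * (y * t y) := by rw [cm hV y (t x)]; simp only [mul_assoc]
  have htt : ∀ x, t (t x) = x := fun x => DFunLike.congr_fun h2 x
  have hle : f.range ≤ f.ker := by
    rintro _ ⟨x, rfl⟩
    show x * t x * t (x * t x) = 1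
    rw [map_mul, htt, cm hV (t x) x, hV]
  have hprod : Nat.card f.range * Nat.card f.ker = Nat.card V := by
    have h := f.ker.card_mul_index
    rw [Subgroup.index_ker f] at h
    rw [mul_comm]; exact h
  have hr : Nat.card f.range ≤ 2 := by
    have := Nat.mul_le_mul_left (Nat.card f.range) (card_le_of_le hle)
    nlinarith
  have ha : v * t v ≠ 1 := fun e => hv ((eq_inv_of_mul_eq_one_right e).trans (inv_eq_of_mul_eq_one_right (hV v)))
  refine ⟨v * t v, ha, fun x => ?_, v, hv⟩
  by_contra hno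
  push Not at hno
  have h3 : ({1, v * t v, x * t x} : Set V) ⊆ (f.range : Set V) := by
    intro y hy
    simp only [Set.mem_insert_iff, Set.mem_singleton_iff] at hy
    rcases hy with rfl | rfl | rfl
    exacts [one_mem f.range, ⟨v, rfl⟩, ⟨x, rfl⟩]
  have hcard := Set.ncard_le_ncard h3 (Set.toFinite _)
  have hne1 : x * t x ≠ 1 := fun e =>
    hno.1 ((eq_inv_of_mul_eq_one_right e).trans (inv_eq_of_mul_eq_one_right (hV x)))
  have hne2 : v * t v ≠ x * t x := fun e => hno.2 (by rw [e, cancel_left_two hV])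
  rw [Set.ncard_insert_of_notMem (by simp [ha.symm, hne1.symm]) (Set.toFinite _), Set.ncard_pair hne2,
    ← Nat.card_coe_set_eq (f.range : Set V)] at hcard
  have : Nat.card (f.range : Set V) = Nat.card f.range := rfl
  omega

/-- With an order not divisible by four, the conjugates of a transvection are at most three and the moves lie in
one four group. -/
theorem moves_of_not_four {X : Subgroup (MulAut V)} (h4 : ¬ 4 ∣ Nat.card X) {t : MulAut V} {a : V} (ht : Tv t a)
    (htX : t ∈ X) :
    ∃ b, (b = a → ∀ x ∈ X, x * t * x⁻¹ = t) ∧ (b ≠ a → t b = b * a ∧ ∃ x ∈ X, x a = b) ∧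
      ∀ x ∈ X, ∀ v, InW a b (v * x v) := by
  classical
  haveI : Fact (Nat.Prime 2) := ⟨Nat.prime_two⟩
  have h8 : ¬ 8 ∣ Nat.card X := fun h => h4 ((by norm_num : 4 ∣ 8).trans h)
  have huniq : ∀ p q : MulAut V, p ∈ X → q ∈ X → p * p = 1 → q * q = 1 → p ≠ 1 → q ≠ 1 → Commute p q → p = q := by
    intro p q hp hq hpp hqq hp1 hq1 hpq
    by_contra hne
    refine h4 ?_
    let K : Subgroup (MulAut V) :=
      { carrier := {y | y = 1 ∨ y = p ∨ y = q ∨ y = p * q}
        one_mem' := Or.inl rfl
        mul_mem' := by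
          have e1 : q * p = p * q := hpq.eq.symm
          have e2 : p * (p * q) = q := by rw [← mul_assoc, hpp, one_mul]
          have e3 : q * (p * q) = p := by rw [← mul_assoc, e1, mul_assoc, hqq, mul_one]
          have e4 : p * q * p = q := by rw [mul_assoc, e1, e2]
          have e5 : p * q * q = p := by rw [mul_assoc, hqq, mul_one]
          have e6 : p * q * (p * q) = 1 := by rw [← mul_assoc, e4, hqq]
          rintro x y (rfl | rfl | rfl | rfl) (rfl | rfl | rfl | rfl) <;> simp [hpp, hqq, e1, e2, e3, e4, e5, e6]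
        inv_mem' := by
          rintro x (rfl | rfl | rfl | rfl)
          · simp
          · exact Or.inr (Or.inl (inv_eq_of_mul_eq_one_right hpp))
          · exact Or.inr (Or.inr (Or.inl (inv_eq_of_mul_eq_one_right hqq)))
          · refine Or.inr (Or.inr (Or.inr ?_))
            rw [mul_inv_rev, inv_eq_of_mul_eq_one_right hpp, inv_eq_of_mul_eq_one_right hqq, hpq.eq] }
    have hKX : K ≤ X := by
      rintro x (rfl | rfl | rfl | rfl)
      exacts [one_mem X, hp, hq, mul_mem hp hq]
    have hK : Nat.card K = 4 := by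
      have e : (K : Set (MulAut V)) = {1, p, q, p * q} := rfl
      have a3 : p * q ≠ 1 := fun h => hne (by
        rw [eq_inv_of_mul_eq_one_left h, inv_eq_of_mul_eq_one_right hqq])
      rw [← SetLike.coe_sort_coe, Nat.card_coe_set_eq, e,
        Set.ncard_insert_of_notMem (by simp [hp1.symm, hq1.symm, a3.symm]) (Set.toFinite _),
        Set.ncard_insert_of_notMem (by simp [hne, hq1]) (Set.toFinite _), Set.ncard_pair (by simp [hp1])]
    exact hK ▸ card_dvd_of_le hKX
  have huniq' : ∀ p q a b, Tv p a → Tv q b → p ∈ X → q ∈ X → Commute p q → p = q :=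
    fun p q a b hp hq hpX hqX h => huniq p q hpX hqX (hp.sq hV) (hq.sq hV) (hp.ne_one hV) (hq.ne_one hV) h
  have hcent : ∀ k ∈ X, Commute k t → k = 1 ∨ k = t := by
    intro k hk hkt
    have hd4 : orderOf k ∣ 2 ^ 2 := orderOf_dvd_of_pow_eq_one (cent_pow hV h8V ht hkt)
    have hdX : orderOf k ∣ Nat.card X := by
      rw [← Nat.card_zpowers]; exact card_dvd_of_le (zpowers_le.2 hk)
    obtain ⟨i, hi, hio⟩ := (Nat.dvd_prime_pow Nat.prime_two).1 hd4
    rcases eq_or_ne k 1 with h | h
    · exact Or.inl h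
    have hi1 : i = 1 := by
      have : i ≠ 0 := fun e => h (orderOf_eq_one_iff.1 (by rw [hio, e, pow_zero]))
      have : i ≠ 2 := fun e => h4 (by rw [hio, e] at hdX; exact hdX)
      omega
    refine Or.inr (huniq k t hk htX ?_ (ht.sq hV) h (ht.ne_one hV) hkt)
    rw [← pow_two, show (2 : ℕ) = orderOf k by rw [hio, hi1, pow_one], pow_orderOf_eq_one]
  by_cases hall : ∀ x ∈ X, x * t * x⁻¹ = t
  · refine ⟨a, fun _ => hall, fun h => absurd rfl h, fun x hx v => ?_⟩
    rcases hcent x hx (mul_inv_eq_iff_eq_mul.1 (hall x hx)) with rfl | rfl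
    · exact Or.inl (hV v)
    · rcases ht.step v with e | e <;> rw [e]
      · exact Or.inl (hV v)
      · exact Or.inr (Or.inl (cancel_left_two hV v a))
  push Not at hall
  obtain ⟨x₀, hx₀, hne₀⟩ := hall
  set τ := x₀ * t * x₀⁻¹ with hτdef
  set b := x₀ a with hb
  have hτ : Tv τ b := ht.conj hV x₀
  have hτX : τ ∈ X := mul_mem (mul_mem hx₀ htX) (inv_mem hx₀)
  have htτ : ¬ Commute t τ := fun h => hne₀ (huniq' t τ a b ht hτ htX hτX h).symm
  obtain ⟨htb, hτa⟩ := pair hV h8 ht hτ htX hτX htτ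
  have hba : b ≠ a := fun e => ht.ne (by
    rw [e, ht.fix_self hV] at htb
    exact left_eq_mul.1 htb)
  let St : Subgroup (MulAut V) :=
    { carrier := {x | ∀ v, InW a b (v * x v)}
      one_mem' := fun v => Or.inl (hV v)
      mul_mem' := fun {x y} hx hy v => by
        have e : y v = v * (v * y v) := (cancel_left_two hV _ _).symm
        show InW a b (v * x (y v))
        rw [e, map_mul, ← mul_assoc]
        refine InW.mul hV (hx v) ?_
        have h := InW.mul hV (hy v) (hx (v * y v))
        rwa [cancel_left_two hV] at h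
      inv_mem' := fun {x} hx v => by
        have h := hx (x⁻¹ v)
        rwa [MulAut.apply_inv_self, cm hV] at h }
  have htS : t ∈ St := fun v => by
    rcases ht.step v with e | e <;> rw [e]
    · exact Or.inl (hV v)
    · exact Or.inr (Or.inl (cancel_left_two hV v a))
  have hτS : τ ∈ St := fun v => by
    rcases hτ.step v with e | e <;> rw [e]
    · exact Or.inl (hV v)
    · exact Or.inr (Or.inr (Or.inl (cancel_left_two hV v b)))
  refine ⟨b, fun h => absurd h hba, fun _ => ⟨htb, x₀, hx₀, rfl⟩, fun x hx => ?_⟩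
  show x ∈ St
  set σ := x * t * x⁻¹ with hσdef
  have hσ : Tv σ (x a) := ht.conj hV x
  have hσX : σ ∈ X := mul_mem (mul_mem hx htX) (inv_mem hx)
  have hbraid : t * τ * t⁻¹ = τ * t * τ⁻¹ := by
    have h1 : Tv (t * τ * t⁻¹) (a * b) := by
      have := hτ.conj hV t
      rwa [htb, cm hV b a] at this
    have h2 : Tv (τ * t * τ⁻¹) (a * b) := by
      have := ht.conj hV τ
      rwa [hτa] at this
    refine huniq' _ _ _ _ h1 h2 (mul_mem (mul_mem htX hτX) (inv_mem htX)) (mul_mem (mul_mem hτX htX) (inv_mem hτX)) ?_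
    by_contra hno
    have := (pair hV h8 h1 h2 (mul_mem (mul_mem htX hτX) (inv_mem htX))
      (mul_mem (mul_mem hτX htX) (inv_mem hτX)) hno).1
    rw [h1.fix_self hV] at this
    exact h1.ne (left_eq_mul.1 this)
  obtain ⟨h, hh, hhX, hht⟩ : ∃ h ∈ St, h ∈ X ∧ h * t * h⁻¹ = σ := by
    by_cases h1 : Commute t σ
    · exact ⟨1, one_mem St, one_mem X, by rw [one_mul, inv_one, mul_one]; exact huniq' t σ _ _ ht hσ htX hσX h1⟩
    by_cases h2 : Commute τ σ
    · refine ⟨t * τ, mul_mem htS hτS, mul_mem htX hτX, ?_⟩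
      rw [← huniq' τ σ _ _ hτ hσ hτX hσX h2]
      calc t * τ * t * (t * τ)⁻¹ = t * (τ * t * τ⁻¹) * t⁻¹ := by group
        _ = t * (t * τ * t⁻¹) * t⁻¹ := by rw [hbraid]
        _ = τ := by rw [ht.inv_eq hV]; simp only [mul_assoc, ht.sq hV, mul_one]; rw [← mul_assoc, ht.sq hV, one_mul]
    · refine ⟨τ, hτS, hτX, ?_⟩
      exact (huniq' σ _ _ _ hσ (ht.conj hV τ) hσX (mul_mem (mul_mem hτX htX) (inv_mem hτX))
        (three hV h8 ht hτ hσ htX hτX hσX htτ h1 h2)).symm
  have hk : Commute (h⁻¹ * x) t := by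
    refine mul_inv_eq_iff_eq_mul.1 ?_
    rw [show h⁻¹ * x * t * (h⁻¹ * x)⁻¹ = h⁻¹ * (x * t * x⁻¹) * h by group, ← hσdef, ← hht]
    group
  rw [show x = h * (h⁻¹ * x) by group]
  rcases hcent _ (mul_mem (inv_mem hhX) hx) hk with e | e <;> rw [e]
  · exact mul_mem hh (one_mem St)
  · exact mul_mem hh htS

/-- A group of order four in a group of automorphisms of order not divisible by eight contains a conjugate of one
of its involutions by any given element. -/
theorem four_conj {X T : Subgroup (MulAut V)} (h8 : ¬ 8 ∣ Nat.card X) (hTX : T ≤ X) (hT : Nat.card T = 4)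
    {x : MulAut V} (hx : x ∈ X) (hout : ∀ t ∈ T, t * t = 1 → t ≠ 1 → x * t * x⁻¹ ∉ T) : False := by
  classical
  haveI : Fact (Nat.Prime 2) := ⟨Nat.prime_two⟩
  haveI : Nontrivial T := Finite.one_lt_card_iff_nontrivial.1 (by omega)
  have hTc : ∀ p ∈ T, ∀ q ∈ T, Commute p q := fun p hp q hq => congrArg Subtype.val
    (IsPGroup.commutative_of_card_eq_prime_sq (p := 2) (G := T) (by rw [hT]; norm_num) ⟨p, hp⟩ ⟨q, hq⟩)
  have hcent : ∀ t ∈ T, ∀ a, Tv t a → ∀ k ∈ X, Commute k t → k ∈ T := by
    intro t ht a hta k hk hkt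
    set K := X ⊓ centralizer ({t} : Set (MulAut V)) with hK
    have hTK : T ≤ K := fun p hp => ⟨hTX hp, mem_centralizer_singleton_iff.2 (hTc p hp t ht).eq⟩
    have hK2 : IsPGroup 2 K := fun g => ⟨2, Subtype.ext (cent_pow hV h8V hta
      (mem_centralizer_singleton_iff.1 g.2.2))⟩
    obtain ⟨n, hn⟩ := IsPGroup.iff_card.1 hK2
    have hn3 : n ≤ 2 := by
      by_contra h
      exact h8 ((show 2 ^ 3 ∣ 2 ^ n from Nat.pow_dvd_pow 2 (by omega)).trans (hn ▸ card_dvd_of_le inf_le_left))
    have : K = T := (eq_of_le_of_card_ge hTK (by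
      rw [hn, hT]; exact (Nat.pow_le_pow_right two_pos hn3).trans (by norm_num))).symm
    exact this ▸ ⟨hk, mem_centralizer_singleton_iff.2 hkt.eq⟩
  obtain ⟨⟨t₀, ht₀⟩, hto⟩ := exists_prime_orderOf_dvd_card' (G := T) 2 (by rw [hT]; norm_num)
  rw [Subgroup.orderOf_mk] at hto
  by_cases hcyc : ∀ t ∈ T, t * t = 1
  · -- four group
    obtain ⟨t₁, ht₁, h1⟩ : ∃ t₁ ∈ T, t₁ ≠ 1 ∧ t₁ ≠ t₀ := by
      by_contra hno
      push Not at hno
      have hsub : (T : Set (MulAut V)) ⊆ {1, t₀} := fun y hy => by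
        by_cases h : y = 1
        · exact Or.inl h
        · exact Or.inr (hno y hy h)
      have h := Set.ncard_le_ncard hsub (Set.toFinite _)
      rw [← Nat.card_coe_set_eq] at h
      have h' : Nat.card (T : Set (MulAut V)) = 4 := hT
      have := (Set.ncard_insert_le (1 : MulAut V) {t₀}).trans (by rw [Set.ncard_singleton])
      omega
    have ht₀1 : t₀ ≠ 1 := fun e => by rw [e, orderOf_one] at hto; omega
    have ht₂1 : t₀ * t₁ ≠ 1 := fun e => h1.2 (by
      rw [eq_inv_of_mul_eq_one_right e, inv_eq_of_mul_eq_one_right (hcyc _ ht₀)])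
    obtain ⟨a₀, hA₀⟩ := exists_tv hV h8V (hcyc _ ht₀) ht₀1
    obtain ⟨a₁, hA₁⟩ := exists_tv hV h8V (hcyc _ ht₁) h1.1
    obtain ⟨a₂, hA₂⟩ := exists_tv hV h8V (hcyc _ (mul_mem ht₀ ht₁)) ht₂1
    set τ := x * t₀ * x⁻¹ with hτdef
    have hτ : Tv τ (x a₀) := hA₀.conj hV x
    have hτX : τ ∈ X := mul_mem (mul_mem hx (hTX ht₀)) (inv_mem hx)
    have hnc : ∀ t ∈ T, ∀ a, Tv t a → ¬ Commute t τ := fun t ht a hta h =>
      hout t₀ ht₀ (hcyc _ ht₀) ht₀1 (hcent t ht a hta τ hτX h.symm)
    obtain ⟨e0, f0⟩ := pair hV h8 hA₀ hτ (hTX ht₀) hτX (hnc _ ht₀ _ hA₀)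
    obtain ⟨e1, f1⟩ := pair hV h8 hA₁ hτ (hTX ht₁) hτX (hnc _ ht₁ _ hA₁)
    obtain ⟨e2, f2⟩ := pair hV h8 hA₂ hτ (hTX (mul_mem ht₀ ht₁)) hτX (hnc _ (mul_mem ht₀ ht₁) _ hA₂)
    have h01 : t₀ a₁ = a₁ := hA₀.fix_of_commute hV hA₁ (hTc _ ht₀ _ ht₁)
    have e : a₂ = a₀ * a₁ := by
      refine mul_left_cancel (a := x a₀) ?_
      rw [← e2, MulAut.mul_apply, e1, map_mul, e0, h01, mul_assoc]
    rw [e, map_mul, f0, f1] at f2
    refine hτ.ne (left_eq_mul.1 (?_ : a₀ * a₁ = a₀ * a₁ * x a₀))
    rw [← f2, cm hV a₀ (x a₀), cm hV a₁ (x a₀), mul_assoc, ← mul_assoc a₀, cm hV a₀ (x a₀), ← mul_assoc,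
      ← mul_assoc, hV, one_mul]
  · push Not at hcyc
    obtain ⟨s, hs, hs2⟩ := hcyc
    have hs4 : s * s * (s * s) = 1 := by
      have h : (⟨s, hs⟩ : T) ^ Nat.card T = 1 := pow_card_eq_one'
      rw [hT] at h
      have h' : s ^ 4 = 1 := congrArg Subtype.val h
      rw [← h', pow_succ, pow_succ, pow_two]
      simp only [mul_assoc]
    have hinvol : ∀ p ∈ T, p * p = 1 → p ≠ 1 → p = s * s := by
      intro p hp hpp hp1
      have ho : orderOf (⟨s, hs⟩ : T) = 2 ^ 2 := by
        refine orderOf_eq_prime_pow (fun e => hs2 ?_) ?_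
        · have e' : s ^ (2 ^ 1) = 1 := congrArg Subtype.val e
          rwa [pow_one, pow_two] at e'
        · exact Subtype.ext (show s ^ (2 ^ 2) = 1 by
            rw [show (2 : ℕ) ^ 2 = 2 + 2 by norm_num, pow_add, pow_two, hs4])
      have htop : zpowers (⟨s, hs⟩ : T) = ⊤ := eq_top_of_card_eq _ (by rw [Nat.card_zpowers, ho, hT]; norm_num)
      obtain ⟨i, hi⟩ := mem_zpowers_iff.1 (htop ▸ mem_top (⟨p, hp⟩ : T))
      have hi' : s ^ i = p := congrArg Subtype.val hi
      rcases Int.even_or_odd i with ⟨j, rfl⟩ | ⟨j, rfl⟩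
      · rcases Int.even_or_odd j with ⟨l, rfl⟩ | ⟨l, rfl⟩
        · refine absurd ?_ hp1
          rw [← hi', show l + l + (l + l) = 4 * l by ring, zpow_mul, show (4 : ℤ) = 2 + 2 by norm_num, zpow_add,
            zpow_two, hs4, one_zpow]
        · rw [← hi', show 2 * l + 1 + (2 * l + 1) = 4 * l + 2 by ring, zpow_add, zpow_mul,
            show (4 : ℤ) = 2 + 2 by norm_num, zpow_add, zpow_two, hs4, one_zpow, one_mul]
      · exfalso
        refine hs2 ?_
        rw [← hi', show 2 * j + 1 = j + j + 1 by ring, zpow_add, zpow_one] at hpp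
        rw [← hpp]
        have h4 : (s ^ (j + j)) * (s ^ (j + j)) = 1 := by
          rw [← zpow_add, show j + j + (j + j) = 4 * j by ring, zpow_mul, show (4 : ℤ) = 2 + 2 by norm_num, zpow_add,
            zpow_two, hs4, one_zpow]
        rw [(((Commute.refl s).zpow_left (j + j)).symm).mul_mul_mul_comm, h4, one_mul]
    set t := s * s with htdef
    have htT : t ∈ T := mul_mem hs hs
    have ht1 : t ≠ 1 := fun e => hs2 e
    obtain ⟨a, hA⟩ := exists_tv hV h8V hs4 ht1
    set τ := x * t * x⁻¹ with hτdef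
    set b := x a with hb
    have hτ : Tv τ b := hA.conj hV x
    have hτX : τ ∈ X := mul_mem (mul_mem hx (hTX htT)) (inv_mem hx)
    have htτ : ¬ Commute t τ := fun h => hout t htT hs4 ht1 (hcent t htT a hA τ hτX h.symm)
    obtain ⟨htb, -⟩ := pair hV h8 hA hτ (hTX htT) hτX htτ
    have hsa : s a = a := by
      refine (hA.conj hV s).centre_unique hV ?_
      rwa [show s * t * s⁻¹ = t by rw [htdef]; group]
    set σ := s * τ * s⁻¹ with hσdef
    have hσ : Tv σ (s b) := hτ.conj hV s
    have hσX : σ ∈ X := mul_mem (mul_mem (hTX hs) hτX) (inv_mem (hTX hs))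
    have htσ : ¬ Commute t σ := fun h => htτ (by
      have := (Commute.conj_iff s).2 (h : Commute t σ)
      refine (Commute.conj_iff s).1 ?_
      rwa [show s * t * s⁻¹ = t by rw [htdef]; group])
    have hτσ : ¬ Commute τ σ := by
      intro h
      have h' : Commute t (x⁻¹ * σ * x) := by
        refine (Commute.conj_iff x).1 ?_
        rwa [show x * (x⁻¹ * σ * x) * x⁻¹ = σ by group]
      have hm : x⁻¹ * σ * x ∈ T := hcent t htT a hA _ (mul_mem (mul_mem (inv_mem hx) hσX) hx) h'.symm
      have he : x⁻¹ * σ * x = t := hinvol _ hm (by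
        rw [show x⁻¹ * σ * x * (x⁻¹ * σ * x) = x⁻¹ * (σ * σ) * x by group, hσ.sq hV]; group) (fun e => hσ.ne_one hV
        (by rw [show σ = x * (x⁻¹ * σ * x) * x⁻¹ by group, e, mul_one, mul_inv_cancel]))
      have hστ : σ = τ := by rw [hτdef, ← he]; group
      refine htτ ?_
      have hsτ : Commute s τ := mul_inv_eq_iff_eq_mul.1 (hσdef ▸ hστ)
      exact hsτ.mul_left hsτ
    have hcom := three hV h8 hA hτ hσ (hTX htT) hτX hσX htτ htσ hτσ
    have hm : τ⁻¹ * σ * τ ∈ T := by
      refine hcent t htT a hA _ (mul_mem (mul_mem (inv_mem hτX) hσX) hτX) ((Commute.conj_iff τ).1 ?_)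
      rwa [show τ * (τ⁻¹ * σ * τ) * τ⁻¹ = σ by group]
    have he : τ⁻¹ * σ * τ = t := hinvol _ hm (by
      rw [show τ⁻¹ * σ * τ * (τ⁻¹ * σ * τ) = τ⁻¹ * (σ * σ) * τ by group, hσ.sq hV]; group) (fun e => hσ.ne_one hV
      (by rw [show σ = τ * (τ⁻¹ * σ * τ) * τ⁻¹ by group, e, mul_one, mul_inv_cancel]))
    have hsb : s b = τ a := by
      refine hσ.centre_unique hV ?_
      have := hA.conj hV τ
      rwa [← he, show τ * (τ⁻¹ * σ * τ) * τ⁻¹ = σ by group] at this
    rw [(pair hV h8 hA hτ (hTX htT) hτX htτ).2] at hsb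
    have htb' : t b = s (s b) := rfl
    rw [hsb, map_mul, hsa, hsb, cancel_left_two hV] at htb'
    rw [htb'] at htb
    exact hA.ne (left_eq_mul.1 htb)

end

end Cfsg.Lib.LenSeven
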