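import Cfsg.Agent.Fusion.Essential
import Cfsg.Agent.Fusion.GroupSystem
import Cfsg.Agent.LenSeven.Transvection

/-!
Sites of Alperin's induction in a Sylow 2-subgroup of order `32`: the sites of order eight are elementary abelian
and, when some automorphism is bad, not normal.
-/

set_option autoImplicit false
set_option linter.style.haveILetI false
set_option linter.unusedSectionVars false

namespace Cfsg.Lib.LenSeven

open Subgroup Cfsg Cfsg.FusionSystem Cfsg.Lib.Fusion

universe u

variable {G : Type u} [Group G] [Finite G]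

/-- A subgroup which can be a site. -/
structure Cand (S : Sylow 2 G) (Q : Subgroup G) : Prop where
  lt : Q < (S : Subgroup G)
  full : (groupFusionSystem (S : Subgroup G)).IsFullyNormalized Q
  cen : (groupFusionSystem (S : Subgroup G)).IsCentric Q

/-- A site with a bad automorphism. -/
structure Bad (S : Sylow 2 G) (Φ : Subgroup G → (G → G) → Prop) (Q : Subgroup G) : Prop extends Cand S Q where
  cls : IsMapClass (groupFusionSystem (S : Subgroup G)) Φ
  ih : ∀ (T : Subgroup G) (f : G → G), Nat.card Q < Nat.card T →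
    IsMap (groupFusionSystem (S : Subgroup G)) T f → Φ T f
  bad : ∃ α ∈ (groupFusionSystem (S : Subgroup G)).autGroup Q, ¬ Φ Q (autFun α)

variable {S : Sylow 2 G} {Φ : Subgroup G → (G → G) → Prop} {Q : Subgroup G}

namespace Cand

variable (K : Cand S Q)
include K

theorem le : Q ≤ (S : Subgroup G) := K.lt.le

theorem self {g : G} (hg : g ∈ (S : Subgroup G)) (h : ∀ q ∈ Q, Commute g q) : g ∈ Q :=
  K.cen.2 Q (isConj_refl K.full.1) (mem_centralizerIn.mpr ⟨hg, fun q hq => by
    rw [(h q hq).eq, mul_inv_cancel_right]⟩)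

theorem self' : centralizerIn (S : Subgroup G) Q ≤ Q := K.cen.2 Q (isConj_refl K.full.1)

theorem mem_aut {α : MulAut Q} :
    α ∈ (groupFusionSystem (S : Subgroup G)).autGroup Q ↔
      ∃ g : G, ∀ x : Q, ((α x : Q) : G) = g * x * g⁻¹ := by
  rw [autGroup_group K.le, mem_autInducedBy]
  exact ⟨fun ⟨g, _, h⟩ => ⟨g, h⟩, fun ⟨g, h⟩ => ⟨g, trivial, h⟩⟩

theorem two_le_card (Kg : Subgroup (MulAut Q)) (hK : Kg ≤ (groupFusionSystem (S : Subgroup G)).autGroup Q)
    (h2 : IsPGroup 2 Kg) : Nat.card Kg ≤ Nat.card (autInducedBy (S : Subgroup G) Q) := by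
  haveI : Fact (Nat.Prime 2) := ⟨Nat.prime_two⟩
  obtain ⟨χ, -, hχ⟩ := exists_conj_into_autS
    (fullyNormalized_props S.2 (saturated_group S) K.full).2.1 h2 hK
  have hle : Kg.map (MulAut.conj χ).toMonoidHom ≤ autInducedBy (S : Subgroup G) Q := by
    rintro _ ⟨k, hk, rfl⟩
    exact hχ k hk
  have := card_le_of_le hle
  rwa [Subgroup.card_map_of_injective (MulAut.conj χ).injective] at this

theorem not_dvd {n : ℕ} (h : Nat.card (autInducedBy (S : Subgroup G) Q) < 2 ^ n) :
    ¬ 2 ^ n ∣ Nat.card ((groupFusionSystem (S : Subgroup G)).autGroup Q) := by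
  haveI : Fact (Nat.Prime 2) := ⟨Nat.prime_two⟩
  intro hd
  obtain ⟨L, hL⟩ := Sylow.exists_subgroup_card_pow_prime 2 hd
  have h1 : Nat.card (L.map ((groupFusionSystem (S : Subgroup G)).autGroup Q).subtype) = 2 ^ n := by
    rw [Subgroup.card_map_of_injective (subtype_injective _), hL]
  have := K.two_le_card _ (map_subtype_le L) (IsPGroup.of_card h1)
  omega

/-- For commutative `Q` the automorphisms from `S` are the quotient of the normalizer by `Q`. -/
theorem card_autS (hab : ∀ a ∈ Q, ∀ b ∈ Q, a * b = b * a) :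
    Nat.card (autInducedBy (S : Subgroup G) Q) * Nat.card Q =
      Nat.card ↥((S : Subgroup G) ⊓ normalizer (Q : Set G)) := by
  set f := normalizerInHom (S : Subgroup G) Q with hf
  have hker : f.ker = Q.subgroupOf (normalizerIn (S : Subgroup G) Q) := by
    ext g
    constructor
    · intro hg
      refine K.self g.2.1 fun q hq => mul_inv_eq_iff_eq_mul.1 ?_
      exact congrArg (fun α : MulAut Q => ((α ⟨q, hq⟩ : Q) : G)) hg
    · intro hg
      refine MulEquiv.ext fun x => Subtype.ext ?_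
      show (g : G) * x * (g : G)⁻¹ = x
      rw [show (g : G) * x = x * g from hab _ hg _ x.2, mul_inv_cancel_right]
  have h := f.ker.card_mul_index
  rw [Subgroup.index_ker f, range_normalizerInHom, hker,
    Nat.card_congr (subgroupOfEquivOfLe (le_normalizerIn K.le)).toEquiv] at h
  rw [mul_comm]
  exact h

theorem noninner : ∃ β ∈ autInducedBy (S : Subgroup G) Q, β ∉ Inn Q := by
  haveI : Fact (Nat.Prime 2) := ⟨Nat.prime_two⟩
  exact exists_noninner S.2 K.lt K.self'

end Cand

namespace Bad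

variable (B : Bad S Φ Q)
include B

theorem rad (K : Subgroup (MulAut Q)) (hK : K ≤ (groupFusionSystem (S : Subgroup G)).autGroup Q)
    (h2 : IsPGroup 2 K)
    (hn : ∀ α ∈ (groupFusionSystem (S : Subgroup G)).autGroup Q, ∀ β ∈ K, α * β * α⁻¹ ∈ K) : K ≤ Inn Q := by
  haveI : Fact (Nat.Prime 2) := ⟨Nat.prime_two⟩
  by_contra h
  obtain ⟨α, hα, hb⟩ := B.bad
  exact hb (good_of_normal S.2 (saturated_group S) B.cls B.full B.ih hK h2 h hn α hα).2

theorem conj_out : ∃ α ∈ (groupFusionSystem (S : Subgroup G)).autGroup Q,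
    ∀ β ∈ autInducedBy (S : Subgroup G) Q, β ∉ Inn Q → α * β * α⁻¹ ∉ autInducedBy (S : Subgroup G) Q := by
  haveI : Fact (Nat.Prime 2) := ⟨Nat.prime_two⟩
  obtain ⟨α, hα, hb⟩ := B.bad
  refine ⟨α, hα, fun β hβ hβI hc => hb ?_⟩
  exact (good_of_conj (p := 2) B.cls B.le (fullyNormalized_props S.2 (saturated_group S) B.full).2.2 B.ih hα hβ hβI
    hc).2

theorem exists_odd : ∃ p : ℕ, p.Prime ∧ p ≠ 2 ∧
    ∃ α ∈ (groupFusionSystem (S : Subgroup G)).autGroup Q, orderOf α = p := by
  haveI : Fact (Nat.Prime 2) := ⟨Nat.prime_two⟩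
  set A := (groupFusionSystem (S : Subgroup G)).autGroup Q with hA
  have hnot : ¬ IsPGroup 2 A := fun h => by
    obtain ⟨β, hβ, hβI⟩ := B.noninner
    exact hβI (B.rad A le_rfl h (fun a ha b hb => mul_mem (mul_mem ha hb) (inv_mem ha))
      (autInducedBy_le B.le hβ))
  obtain ⟨p, hp, hpd, hp2⟩ : ∃ p, p.Prime ∧ p ∣ Nat.card A ∧ p ≠ 2 := by
    by_contra hno
    push Not at hno
    refine hnot ?_
    obtain ⟨k, hk⟩ : ∃ k, Nat.card A = 2 ^ k :=
      ⟨_, Nat.eq_prime_pow_of_unique_prime_dvd Nat.card_pos.ne' fun {d} hd hdd => hno d hd hdd⟩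
    exact IsPGroup.of_card hk
  haveI : Fact p.Prime := ⟨hp⟩
  obtain ⟨⟨α, hα⟩, ho⟩ := exists_prime_orderOf_dvd_card' (G := A) p hpd
  rw [Subgroup.orderOf_mk] at ho
  exact ⟨p, hp, hp2, α, hα, ho⟩

end Bad

/-- The automorphisms at a non-normal elementary site of order eight move everything inside one four group. -/
theorem Cand.moves (K : Cand S Q) (h8 : Nat.card Q = 8) (hsq : ∀ q ∈ Q, q * q = 1)
    (h16 : Nat.card ↥((S : Subgroup G) ⊓ normalizer (Q : Set G)) = 16) {y c : G} (hy : y ∈ (S : Subgroup G))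
    (hc : c ∈ Q) (hc1 : c ≠ 1) (hstep : ∀ v ∈ Q, y * v * y⁻¹ = v ∨ y * v * y⁻¹ = v * c)
    (hmoved : ∃ v ∈ Q, y * v * y⁻¹ ≠ v) :
    ∃ w ∈ Q, ∀ D : Subgroup G, c ∈ D → w ∈ D →
      ∀ α ∈ (groupFusionSystem (S : Subgroup G)).autGroup Q, ∀ x : Q, (x : G)⁻¹ * ((α x : Q) : G) ∈ D := by
  haveI : Fact (Nat.Prime 2) := ⟨Nat.prime_two⟩
  have hyn : y ∈ normalizer (Q : Set G) := mem_normalizer_of_maps_finite fun v hv => by
    rcases hstep v hv with e | e <;> rw [e]
    · exact hv
    · exact mul_mem hv hc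
  have hV : ∀ v : Q, v * v = 1 := fun v => Subtype.ext (hsq v v.2)
  have hab : ∀ a ∈ Q, ∀ b ∈ Q, a * b = b * a := fun a ha b hb =>
    congrArg Subtype.val (cm hV ⟨a, ha⟩ ⟨b, hb⟩)
  have hP : Nat.card (autInducedBy (S : Subgroup G) Q) = 2 := by
    have := K.card_autS hab
    rw [h8, h16] at this
    omega
  have h4 : ¬ 4 ∣ Nat.card ((groupFusionSystem (S : Subgroup G)).autGroup Q) :=
    K.not_dvd (n := 2) (by rw [hP]; norm_num)
  set t := conjAut Q y hyn with ht
  have htv : Tv t (⟨c, hc⟩ : Q) := by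
    refine ⟨fun e => hc1 (congrArg Subtype.val e), fun v => ?_, ?_⟩
    · rcases hstep v v.2 with e | e
      · exact Or.inl (Subtype.ext e)
      · exact Or.inr (Subtype.ext e)
    · obtain ⟨v, hv, hne⟩ := hmoved
      exact ⟨⟨v, hv⟩, fun e => hne (congrArg Subtype.val e)⟩
  obtain ⟨b, -, -, hb⟩ := moves_of_not_four hV (h8.le) h4 htv
    (autInducedBy_le K.le (conjAut_mem_autInducedBy hyn hy))
  refine ⟨b, b.2, fun D hcD hbD α hα x => ?_⟩
  rw [inv_eq_of_mul_eq_one_right (hsq x x.2)]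
  have h := hb α hα x
  show ((x * α x : Q) : G) ∈ D
  rcases h with e | e | e | e <;> rw [e]
  exacts [one_mem D, hcD, hbD, mul_mem hcD hbD]

/-- An elementary site of order eight with a bad automorphism is not normal in the Sylow subgroup. -/
theorem Bad.normalizer_card (B : Bad S Φ Q) (h32 : Nat.card (S : Subgroup G) = 32) (h8 : Nat.card Q = 8)
    (hsq : ∀ q ∈ Q, q * q = 1) : Nat.card ↥((S : Subgroup G) ⊓ normalizer (Q : Set G)) = 16 := by
  haveI : Fact (Nat.Prime 2) := ⟨Nat.prime_two⟩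
  have hV : ∀ v : Q, v * v = 1 := fun v => Subtype.ext (hsq v v.2)
  have hab : ∀ a ∈ Q, ∀ b ∈ Q, a * b = b * a := fun a ha b hb =>
    congrArg Subtype.val (cm hV ⟨a, ha⟩ ⟨b, hb⟩)
  have hcard := B.card_autS hab
  rw [h8] at hcard
  have hle : Nat.card ↥((S : Subgroup G) ⊓ normalizer (Q : Set G)) ≤ 32 := h32 ▸ card_le_of_le inf_le_left
  have hP4 : Nat.card (autInducedBy (S : Subgroup G) Q) ≤ 4 := by omega
  obtain ⟨n, hn⟩ := IsPGroup.iff_card.1 (isPGroup_autInducedBy S.2 Q)
  have hinn : ∀ β : MulAut Q, β ∈ Inn Q → β = 1 := by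
    rintro _ ⟨q, rfl⟩
    refine MulEquiv.ext fun x => ?_
    show q * x * q⁻¹ = x
    rw [cm hV q x, mul_inv_cancel_right]
  obtain ⟨β, hβ, hβI⟩ := B.noninner
  have hn0 : n ≠ 0 := fun e => hβI (by
    rw [e, pow_zero] at hn
    rw [Subgroup.card_eq_one.1 hn, mem_bot] at hβ
    rw [hβ]; exact one_mem _)
  have hn2 : n ≤ 2 := (Nat.pow_le_pow_iff_right (by norm_num : 1 < 2)).1 (show 2 ^ n ≤ 2 ^ 2 by omega)
  by_contra h16
  have hP : Nat.card (autInducedBy (S : Subgroup G) Q) = 4 := by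
    interval_cases n <;> omega
  obtain ⟨α, hα, hout⟩ := B.conj_out
  exact four_conj hV h8.le (B.not_dvd (n := 3) (by rw [hP]; norm_num)) (autInducedBy_le B.le) hP hα
    fun t ht _ ht1 => hout t ht fun hI => ht1 (hinn t hI)

/-- A quaternion group of order eight, with `f` its involution. -/
structure Quat (Q : Subgroup G) (f : G) : Prop where
  card : Nat.card Q = 8
  fQ : f ∈ Q
  f1 : f ≠ 1
  ff : f * f = 1
  sq : ∀ v ∈ Q, v ≠ 1 → v ≠ f → v * v = f

namespace Quat

variable {f : G} (D : Quat Q f)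
include D

theorem f_comm {v : G} (hv : v ∈ Q) : Commute f v := by
  by_cases h1 : v = 1
  · rw [h1]; exact Commute.one_right f
  by_cases h2 : v = f
  · rw [h2]
  rw [← D.sq v hv h1 h2]
  exact (Commute.refl v).mul_left (Commute.refl v)

theorem fix_f {g : G} (hg : g ∈ normalizer (Q : Set G)) : g * f * g⁻¹ = f := by
  have hm := (mem_normalizer_iff.1 hg f).1 D.fQ
  by_contra h
  have := D.sq _ hm (fun e => D.f1 (conj_eq_one_iff.1 e)) h
  rw [show g * f * g⁻¹ * (g * f * g⁻¹) = g * (f * f) * g⁻¹ by group, D.ff] at this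
  exact D.f1 (by simpa using this.symm)

/-- Elements off `{1, f}` and off the coset of `p` are moved to the inverse. -/
theorem anti {p r : G} (hp : p ∈ Q) (hr : r ∈ Q) (p1 : p ≠ 1) (p2 : p ≠ f) (r1 : r ≠ 1) (r2 : r ≠ f)
    (r3 : r ≠ p) (r4 : r ≠ p * f) : r * p * r⁻¹ = p * f := by
  have h1 := D.sq (r * p) (mul_mem hr hp) (fun e => r4 (by
    rw [eq_inv_of_mul_eq_one_left e, ← mul_right_inj p, mul_inv_cancel, ← mul_assoc, D.sq p hp p1 p2, D.ff]))
    (fun e => r3 (by
    rw [eq_mul_inv_of_mul_eq e, mul_inv_eq_iff_eq_mul, D.sq p hp p1 p2]))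
  have hri : r⁻¹ = r * f := by
    refine inv_eq_of_mul_eq_one_right ?_
    rw [← mul_assoc, D.sq r hr r1 r2, D.ff]
  calc r * p * r⁻¹ = r * p * (r * f) := by rw [hri]
    _ = r * p * r * p * (p⁻¹ * f) := by group
    _ = f * (p⁻¹ * f) := by rw [mul_assoc (r * p) r p, h1]
    _ = p * f := by
      have hpi : p⁻¹ = p * f := by
        refine inv_eq_of_mul_eq_one_right ?_
        rw [← mul_assoc, D.sq p hp p1 p2, D.ff]
      rw [hpi, mul_assoc p, D.ff, mul_one, (D.f_comm hp).eq]

theorem span {p r v : G} (hp : p ∈ Q) (hr : r ∈ Q) (hv : v ∈ Q) (p1 : p ≠ 1) (p2 : p ≠ f) (r1 : r ≠ 1)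
    (r2 : r ≠ f) (r3 : r ≠ p) (r4 : r ≠ p * f) :
    v = 1 ∨ v = f ∨ v = p ∨ v = p * f ∨ v = r ∨ v = r * f ∨ v = r * p ∨ v = r * (p * f) := by
  classical
  have hpp := D.sq p hp p1 p2
  let K : Subgroup Q :=
    { carrier := {x | (x : G) = 1 ∨ (x : G) = f ∨ (x : G) = p ∨ (x : G) = p * f}
      one_mem' := Or.inl rfl
      mul_mem' := by
        have e1 : f * p = p * f := (D.f_comm hp).eq
        have e2 : p * (p * f) = 1 := by rw [← mul_assoc, hpp, D.ff]
        have e3 : p * f * f = p := by rw [mul_assoc, D.ff, mul_one]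
        have e4 : f * (p * f) = p := by rw [← mul_assoc, e1, e3]
        have e5 : p * f * p = 1 := by rw [mul_assoc, e1, e2]
        have e6 : p * f * (p * f) = f := by rw [← mul_assoc, e5, one_mul]
        intro a b ha hb
        simp only [Set.mem_setOf_eq, Subgroup.coe_mul] at ha hb ⊢
        rcases ha with h | h | h | h <;> rcases hb with k | k | k | k <;> rw [h, k] <;>
          simp only [one_mul, mul_one, D.ff, hpp, e1, e2, e3, e4, e5, e6, true_or, or_true]
      inv_mem' := by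
        intro a ha
        simp only [Set.mem_setOf_eq, InvMemClass.coe_inv] at ha ⊢
        rcases ha with h | h | h | h <;> rw [h]
        · exact Or.inl inv_one
        · exact Or.inr (Or.inl (inv_eq_of_mul_eq_one_right D.ff))
        · exact Or.inr (Or.inr (Or.inr (inv_eq_of_mul_eq_one_right (by rw [← mul_assoc, hpp, D.ff]))))
        · exact Or.inr (Or.inr (Or.inl (inv_eq_of_mul_eq_one_right (by
            rw [mul_assoc, (D.f_comm hp).eq, ← mul_assoc, hpp, D.ff])))) }
  have hK : 4 ≤ Nat.card K := by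
    have hinj : Function.Injective (Subtype.val ∘ Subtype.val : K → G) :=
      Subtype.val_injective.comp Subtype.val_injective
    have e : Set.range (Subtype.val ∘ Subtype.val : K → G) = {1, f, p, p * f} := by
      ext x
      constructor
      · rintro ⟨⟨a, ha⟩, rfl⟩
        exact ha
      · intro hx
        have hxQ : x ∈ Q := by
          rcases hx with h | h | h | h <;> rw [show x = _ from h]
          exacts [one_mem Q, D.fQ, hp, mul_mem hp D.fQ]
        exact ⟨⟨⟨x, hxQ⟩, hx⟩, rfl⟩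
    have h := Nat.card_range_of_injective hinj
    rw [e, Nat.card_coe_set_eq] at h
    have a1 : (1 : G) ≠ p * f := fun h => p2 (by
      rw [eq_inv_of_mul_eq_one_left h.symm, inv_eq_of_mul_eq_one_right D.ff])
    have a2 : f ≠ p * f := fun h => p1 (right_eq_mul.1 h)
    have a3 : p ≠ p * f := fun h => D.f1 (left_eq_mul.1 h)
    rw [Set.ncard_insert_of_notMem (by simp [D.f1.symm, p1.symm, a1]) (Set.toFinite _),
      Set.ncard_insert_of_notMem (by simp [p2.symm, a2]) (Set.toFinite _), Set.ncard_pair a3] at h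
    omega
  have hrK : (⟨r, hr⟩ : Q) ∉ K := fun h => by rcases h with h | h | h | h <;> contradiction
  have hi : K.index = 2 := by
    have h := K.card_mul_index
    rw [D.card] at h
    have h1 : K.index ≠ 1 := fun e => hrK (index_eq_one.1 e ▸ mem_top _)
    have h0 : K.index ≠ 0 := index_ne_zero_of_finite
    by_contra h2
    have : 4 * 3 ≤ Nat.card K * K.index := Nat.mul_le_mul hK (by omega)
    omega
  by_cases hvK : (⟨v, hv⟩ : Q) ∈ K
  · rcases hvK with h | h | h | h
    exacts [Or.inl h, Or.inr (Or.inl h), Or.inr (Or.inr (Or.inl h)), Or.inr (Or.inr (Or.inr (Or.inl h)))]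
  · have h := (mul_mem_iff_of_index_two hi (a := (⟨r, hr⟩ : Q)⁻¹) (b := ⟨v, hv⟩)).2
      ⟨fun h => absurd ((inv_mem_iff (H := K)).1 h) hrK, fun h => absurd h hvK⟩
    have h' : r⁻¹ * v = 1 ∨ r⁻¹ * v = f ∨ r⁻¹ * v = p ∨ r⁻¹ * v = p * f := h
    rcases h' with h' | h' | h' | h' <;> rw [inv_mul_eq_iff_eq_mul] at h'
    exacts [Or.inr (Or.inr (Or.inr (Or.inr (Or.inl (h'.trans (mul_one r)))))),
      Or.inr (Or.inr (Or.inr (Or.inr (Or.inr (Or.inl h'))))),
      Or.inr (Or.inr (Or.inr (Or.inr (Or.inr (Or.inr (Or.inl h')))))),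
      Or.inr (Or.inr (Or.inr (Or.inr (Or.inr (Or.inr (Or.inr h'))))))]

/-- An element of `S` fixing the cosets of two independent elements lies in `Q`. -/
theorem fix_all (K : Cand S Q) {g p r : G} (hgS : g ∈ (S : Subgroup G)) (hg : g ∈ normalizer (Q : Set G))
    (hp : p ∈ Q) (hr : r ∈ Q) (p1 : p ≠ 1) (p2 : p ≠ f) (r1 : r ≠ 1) (r2 : r ≠ f) (r3 : r ≠ p) (r4 : r ≠ p * f)
    (hgp : g * p * g⁻¹ = p ∨ g * p * g⁻¹ = p * f) (hgr : g * r * g⁻¹ = r ∨ g * r * g⁻¹ = r * f) : g ∈ Q := by
  have hfp := (D.f_comm hp).eq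
  have hfr := (D.f_comm hr).eq
  have hpr : p * r * p⁻¹ = r * f := D.anti hr hp r1 r2 p1 p2 r3.symm (fun e => r4 (by
    rw [e, mul_assoc, D.ff, mul_one]))
  have hrp := D.anti hp hr p1 p2 r1 r2 r3 r4
  have key : ∀ q ∈ Q, q * p * q⁻¹ = g * p * g⁻¹ → q * r * q⁻¹ = g * r * g⁻¹ → g ∈ Q := by
    intro q hq ep er
    have hm : q⁻¹ * g ∈ Q := by
      refine K.self (mul_mem (inv_mem (K.le hq)) hgS) fun v hv => ?_
      have hall : q⁻¹ * g ∈ centralizer ({p} : Set G) ⊓ centralizer ({r} : Set G) := by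
        refine ⟨mem_centralizer_singleton_iff.2 ?_, mem_centralizer_singleton_iff.2 ?_⟩
        · calc q⁻¹ * g * p = q⁻¹ * (g * p * g⁻¹) * g := by group
            _ = p * (q⁻¹ * g) := by rw [← ep]; group
        · calc q⁻¹ * g * r = q⁻¹ * (g * r * g⁻¹) * g := by group
            _ = r * (q⁻¹ * g) := by rw [← er]; group
      have cp : Commute (q⁻¹ * g) p := mem_centralizer_singleton_iff.1 hall.1
      have cr : Commute (q⁻¹ * g) r := mem_centralizer_singleton_iff.1 hall.2
      have cf : Commute (q⁻¹ * g) f := D.sq p hp p1 p2 ▸ cp.mul_right cp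
      rcases D.span hp hr hv p1 p2 r1 r2 r3 r4 with h | h | h | h | h | h | h | h <;> rw [h]
      exacts [Commute.one_right _, cf, cp, cp.mul_right cf, cr, cr.mul_right cf, cr.mul_right cp,
        cr.mul_right (cp.mul_right cf)]
    simpa using mul_mem hq hm
  rcases hgp with ep | ep <;> rcases hgr with er | er
  · exact key 1 (one_mem Q) (by rw [ep]; group) (by rw [er]; group)
  · exact key p hp (by rw [ep]; group) (by rw [er, hpr])
  · exact key r hr (by rw [ep, hrp]) (by rw [er]; group)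
  · refine key (p * r) (mul_mem hp hr) ?_ ?_
    · rw [ep, show p * r * p * (p * r)⁻¹ = p * (r * p * r⁻¹) * p⁻¹ by group, hrp,
        show p * (p * f) * p⁻¹ = p * (p * f * p⁻¹) by group, mul_assoc p f p⁻¹, ← (D.f_comm (inv_mem hp)).eq.symm,
        ← mul_assoc p p⁻¹ f, mul_inv_cancel, one_mul]
    · rw [er, show p * r * r * (p * r)⁻¹ = p * r * p⁻¹ by group, hpr]

end Quat

/-- A site of order eight with a bad automorphism and an element of order four is quaternion. -/
theorem Bad.quat (B : Bad S Φ Q) (h8 : Nat.card Q = 8) {x : G} (hx : x ∈ Q) (hxx : x * x ≠ 1) :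
    ∃ f, Quat Q f := by
  classical
  haveI : Fact (Nat.Prime 2) := ⟨Nat.prime_two⟩
  obtain ⟨p, hp, hp2, ρ, -, hρ⟩ := B.exists_odd
  have hodd : ¬ 2 ∣ p := fun h => hp2 ((Nat.prime_dvd_prime_iff_eq Nat.prime_two hp).1 h).symm
  have hρp : ρ ^ p = 1 := hρ ▸ pow_orderOf_eq_one ρ
  have hρ1 : ρ ≠ 1 := fun e => by rw [e, orderOf_one] at hρ; exact hp.one_lt.ne hρ
  have hiter : ∀ (v : Q) (k : ℕ), (ρ ^ k) v = v → ¬ 2 ∣ p → (∃ m, k = 2 ^ m) → ρ v = v := by
    rintro v k hk - ⟨m, rfl⟩
    have h1 : (ρ ^ p) v = v := by rw [hρp]; rfl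
    let St : Subgroup (MulAut Q) :=
      { carrier := {σ | σ v = v}
        one_mem' := rfl
        mul_mem' := fun {a b} ha hb => by show a (b v) = v; rw [hb, ha]
        inv_mem' := fun {a} ha => by
          show a⁻¹ v = v
          conv_lhs => rw [← (ha : a v = v)]
          exact MulAut.inv_apply_self _ _ _ }
    have hcop : Nat.Coprime p (2 ^ m) := Nat.Coprime.pow_right m ((Nat.coprime_primes hp Nat.prime_two).2 hp2)
    have := Nat.gcd_eq_gcd_ab p (2 ^ m)
    rw [hcop, Nat.cast_one] at this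
    have h2 : ρ ^ (1 : ℤ) ∈ St := by
      rw [this, zpow_add, zpow_mul, zpow_mul, zpow_natCast, zpow_natCast]
      exact mul_mem (zpow_mem (show ρ ^ p ∈ St from h1) _) (zpow_mem (show ρ ^ 2 ^ m ∈ St from hk) _)
    rwa [zpow_one] at h2
  haveI : Finite Q := inferInstance
  set X : Q := ⟨x, hx⟩ with hX
  have hX2 : X * X ≠ 1 := fun e => hxx (congrArg Subtype.val e)
  have hord : ∀ v : Q, orderOf v ∣ 2 ^ 3 := fun v => by
    have := orderOf_dvd_natCard v
    rwa [h8] at this
  have hnc : ¬ IsCyclic Q := fun hcyc => by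
    haveI := hcyc
    have h := IsCyclic.card_mulAut Q
    rw [h8] at h
    have h' : orderOf ρ ∣ Nat.card (MulAut Q) := orderOf_dvd_natCard ρ
    rw [h, show Nat.totient 8 = 2 ^ 2 by decide, hρ] at h'
    exact hodd ((Nat.prime_two).dvd_of_dvd_pow (show 2 ∣ p ^ 1 by
      rw [pow_one]
      rcases (Nat.dvd_prime_pow Nat.prime_two).1 h' with ⟨i, -, hi⟩
      rcases i with _ | i
      · exact absurd hi hp.one_lt.ne'
      · exact ⟨2 ^ i, by rw [hi, pow_succ']⟩))
  have h4 : ∀ v : Q, v * v * (v * v) = 1 := by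
    intro v
    obtain ⟨i, hi, e⟩ := (Nat.dvd_prime_pow Nat.prime_two).1 (hord v)
    have hi2 : i ≤ 2 := by
      by_contra h
      exact hnc (isCyclic_of_orderOf_eq_card v (by rw [e, h8, show i = 3 by omega]; norm_num))
    have : v ^ (2 ^ 2) = 1 := orderOf_dvd_iff_pow_eq_one.1 (e ▸ Nat.pow_dvd_pow 2 hi2)
    rw [← this, show (2 : ℕ) ^ 2 = 2 + 2 by norm_num, pow_add, pow_two]
  set F := X * X with hF
  set C := zpowers X with hC
  have hXo : orderOf X = 2 ^ 2 := orderOf_eq_prime_pow (by rw [pow_one, pow_two]; exact hX2)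
    (by rw [show (2 : ℕ) ^ 2 = 2 + 2 by norm_num, pow_add, pow_two]; exact h4 X)
  have hCi : C.index = 2 := by
    have h := C.card_mul_index
    rw [hC, Nat.card_zpowers, hXo, h8] at h
    have h' : 4 * (zpowers X).index = 8 := h
    show (zpowers X).index = 2
    omega
  have hFF : F * F = 1 := h4 X
  have hXi : X⁻¹ = X * F := inv_eq_of_mul_eq_one_right (by rw [← mul_assoc]; exact hFF)
  have hCmem : ∀ v ∈ C, v = 1 ∨ v = X ∨ v = F ∨ v = X * F := by
    intro v hv
    obtain ⟨i, rfl⟩ := mem_zpowers_iff.1 hv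
    have h4' : X ^ (4 : ℤ) = 1 := by
      rw [show (4 : ℤ) = 2 + 2 by norm_num, zpow_add, zpow_two]; exact h4 X
    rw [show i = 4 * (i / 4) + i % 4 by omega, zpow_add, zpow_mul, h4', one_zpow, one_mul]
    have : i % 4 = 0 ∨ i % 4 = 1 ∨ i % 4 = 2 ∨ i % 4 = 3 := by omega
    rcases this with e | e | e | e <;> rw [e]
    · exact Or.inl (zpow_zero X)
    · exact Or.inr (Or.inl (zpow_one X))
    · exact Or.inr (Or.inr (Or.inl (zpow_two X)))
    · exact Or.inr (Or.inr (Or.inr (by rw [show (3 : ℤ) = 1 + 2 by norm_num, zpow_add, zpow_one, zpow_two])))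
  have hsqC : ∀ v : Q, v * v = 1 ∨ v * v = F := by
    intro v
    have hv := mul_self_mem_of_index_two hCi v
    rcases hCmem _ hv with e | e | e | e
    · exact Or.inl e
    · exfalso; exact hX2 (by have := h4 v; rwa [e] at this)
    · exact Or.inr e
    · exfalso
      refine hX2 ?_
      have := h4 v
      rw [e] at this
      calc X * X = X * X * (F * F) := by rw [hFF, mul_one]
        _ = X * F * (X * F) := by rw [hF]; group
        _ = 1 := this
  have hρF : ρ F = F := by
    rcases hsqC (ρ X) with e | e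
    · exfalso
      rw [← map_mul, ← hF] at e
      exact hX2 (ρ.injective (e.trans (map_one ρ).symm))
    · rwa [← map_mul, ← hF] at e
  have hρC : ρ X ∉ C := by
    intro hm
    have hX1 : ρ X = X := by
      rcases hCmem _ hm with e | e | e | e
      · exact absurd (show X * X = 1 by rw [ρ.injective (e.trans (map_one ρ).symm), mul_one]) hX2
      · exact e
      · exfalso
        have h' : X = F := ρ.injective (e.trans hρF.symm)
        exact hX2 ((congrArg₂ (· * ·) h' h').trans hFF)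
      · refine hiter X 2 ?_ hodd ⟨1, rfl⟩
        rw [pow_two, MulAut.mul_apply, e, map_mul, e, hρF, mul_assoc, hFF, mul_one]
    refine hρ1 ?_
    have hfixC : ∀ v ∈ C, ρ v = v := by
      intro v hv
      obtain ⟨i, rfl⟩ := mem_zpowers_iff.1 hv
      rw [map_zpow, hX1]
    refine MulEquiv.ext fun v => ?_
    show ρ v = v
    by_cases hv : v ∈ C
    · exact hfixC v hv
    have hρv : ρ v ∉ C := fun h => hv ((ρ.injective (hfixC _ h)).symm ▸ h)
    have hd : v⁻¹ * ρ v ∈ C := by
      rw [mul_mem_iff_of_index_two hCi, inv_mem_iff]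
      exact ⟨fun h => absurd h hv, fun h => absurd h hρv⟩
    have hstep : ρ v = v * (v⁻¹ * ρ v) := by group
    have hfix := hfixC _ hd
    refine hiter v 4 ?_ hodd ⟨2, rfl⟩
    set d := v⁻¹ * ρ v
    show ρ (ρ (ρ (ρ v))) = v
    simp only [hstep, map_mul, hfix, mul_assoc]
    rw [show d * (d * (d * d)) = d * d * (d * d) by group, h4, mul_one]
  set W := ρ X with hW
  have hW2 : W * W = F := by rw [hW, ← map_mul, ← hF, hρF]
  have hconj : W * X * W⁻¹ = X * F := by
    haveI : C.Normal := normal_of_index_eq_two hCi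
    rcases hCmem _ (Normal.conj_mem inferInstance X (mem_zpowers X) W) with e | e | e | e
    · exact absurd (show X * X = 1 by rw [conj_eq_one_iff.1 e, mul_one]) hX2
    · exfalso
      have hcom : Commute W X := mul_inv_eq_iff_eq_mul.1 e
      have hWi : W ∉ C := hρC
      have hmem : ∀ v : Q, v * v = F → v = X ∨ v = X * F ∨ v = W ∨ v = W * F := by
        intro v hv
        by_cases hvC : v ∈ C
        · rcases hCmem _ hvC with e' | e' | e' | e' <;> rw [e'] at hv ⊢
          · exact absurd (by rw [← hv, mul_one]) hX2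
          · exact Or.inl rfl
          · rw [hFF] at hv; exact absurd hv.symm hX2
          · exact Or.inr (Or.inl rfl)
        · have hd : W⁻¹ * v ∈ C := by
            rw [mul_mem_iff_of_index_two hCi, inv_mem_iff]
            exact ⟨fun h => absurd h hWi, fun h => absurd h hvC⟩
          have hv' : v = W * (W⁻¹ * v) := by group
          have hc : Commute W (W⁻¹ * v) := by
            obtain ⟨i, hi⟩ := mem_zpowers_iff.1 hd
            rw [← hi]
            exact hcom.zpow_right i
          rw [hv', hc.symm.mul_mul_mul_comm, hW2] at hv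
          have hd2 : W⁻¹ * v * (W⁻¹ * v) = 1 := mul_left_cancel (hv.trans (mul_one F).symm)
          rcases hCmem _ hd with e' | e' | e' | e' <;> rw [e'] at hd2 hv'
          · exact Or.inr (Or.inr (Or.inl (hv'.trans (mul_one W))))
          · exact absurd hd2 hX2
          · exact Or.inr (Or.inr (Or.inr hv'))
          · exfalso
            refine hX2 ?_
            calc X * X = X * X * (F * F) := by rw [hFF, mul_one]
              _ = X * F * (X * F) := by rw [hF]; group
              _ = 1 := hd2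
      refine hρC ?_
      suffices ρ X = X by rw [← hW] at this; rw [this]; exact mem_zpowers X
      refine hiter X 4 ?_ hodd ⟨2, rfl⟩
      have h2 : ρ W = X ∨ ρ W = X * F := by
        rcases hmem (ρ W) (by rw [← map_mul, hW2, hρF]) with e' | e' | e' | e'
        · exact Or.inl e'
        · exact Or.inr e'
        · exfalso
          have : W = X := ρ.injective (e'.trans hW.symm)
          exact hWi (this ▸ mem_zpowers X)
        · exfalso
          have : W = X * F := ρ.injective (by rw [e', map_mul, hρF])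
          exact hWi (this ▸ mul_mem (mem_zpowers X) (mul_mem (mem_zpowers X) (mem_zpowers X)))
      show ρ (ρ (ρ (ρ X))) = X
      rw [← hW]
      rcases h2 with e' | e' <;> rw [e']
      · rw [← hW, e']
      · rw [map_mul, hρF, ← hW, map_mul, hρF, e', mul_assoc, hFF, mul_one]
    · exfalso
      have h1 : W * (X * X) * W⁻¹ = F * F := by rw [← e]; group
      exact hX2 (conj_eq_one_iff.1 (h1.trans hFF))
    · exact e
  refine ⟨(F : G), h8, F.2, fun e => hX2 (Subtype.ext e), congrArg Subtype.val hFF, fun v hv v1 v2 => ?_⟩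
  set V : Q := ⟨v, hv⟩ with hVdef
  have V1 : V ≠ 1 := fun e => v1 (congrArg Subtype.val e)
  have V2 : V ≠ F := fun e => v2 (congrArg Subtype.val e)
  refine congrArg Subtype.val (?_ : V * V = F)
  by_cases hVC : V ∈ C
  · rcases hCmem _ hVC with e | e | e | e
    · exact absurd e V1
    · rw [e]
    · exact absurd e V2
    · rw [e, ← hXi, ← mul_inv_rev, ← hF, inv_eq_of_mul_eq_one_right hFF]
  · have hd : W⁻¹ * V ∈ C := by
      rw [mul_mem_iff_of_index_two hCi, inv_mem_iff]
      exact ⟨fun h => absurd h hρC, fun h => absurd h hVC⟩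
    obtain ⟨i, hi⟩ := mem_zpowers_iff.1 hd
    have hinv : W * X ^ i * W⁻¹ = (X ^ i)⁻¹ := by
      rw [← conj_zpow, hconj, ← hXi, inv_zpow]
    calc V * V = W * X ^ i * (W * X ^ i) := by rw [hi]; group
      _ = W * X ^ i * W⁻¹ * (W * W) * X ^ i := by group
      _ = (X ^ i)⁻¹ * F * X ^ i := by rw [hinv, hW2]
      _ = F := by
        rw [hF, show X * X = X ^ (2 : ℤ) from (zpow_two X).symm]
        group

/-- A site of order eight with a bad automorphism is elementary abelian. -/
theorem Bad.elementary (B : Bad S Φ Q) (h32 : Nat.card (S : Subgroup G) = 32) (h8 : Nat.card Q = 8)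
    {E : Subgroup G} (hES : E ≤ (S : Subgroup G)) (hE8 : Nat.card E = 8) (hE : ∀ e ∈ E, e * e = 1) :
    ∀ q ∈ Q, q * q = 1 := by
  classical
  haveI : Fact (Nat.Prime 2) := ⟨Nat.prime_two⟩
  intro x hx
  by_contra hxx
  obtain ⟨f, D⟩ := B.quat h8 hx hxx
  set R := (S : Subgroup G) ⊓ normalizer (Q : Set G) with hR
  have hQR : Q ≤ R := le_normalizerIn B.le
  have hEc : ∀ e ∈ E, ∀ e' ∈ E, e * e' = e' * e := fun e he e' he' => congrArg Subtype.val
    (cm (V := E) (fun v => Subtype.ext (hE v v.2)) ⟨e, he⟩ ⟨e', he'⟩)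
  -- the product of `Q` and `E` fills the Sylow subgroup
  have hinvol : ∀ e ∈ E, e ∈ Q → e = 1 ∨ e = f := fun e he heQ => by
    by_contra h
    push Not at h
    exact D.f1 ((D.sq e heQ h.1 h.2).symm.trans (hE e he))
  let mulf : Q × E → (S : Subgroup G) := fun v => ⟨v.1 * v.2, mul_mem (B.le v.1.2) (hES v.2.2)⟩
  have hfib : ∀ a b : Q × E, mulf a = mulf b → (a.2 : G) * (b.2 : G)⁻¹ = 1 ∨ (a.2 : G) * (b.2 : G)⁻¹ = f := by
    intro a b h
    have h' : (a.1 : G) * a.2 = b.1 * b.2 := congrArg Subtype.val h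
    refine hinvol _ (mul_mem a.2.2 (inv_mem b.2.2)) ?_
    have : (a.2 : G) * (b.2 : G)⁻¹ = (a.1 : G)⁻¹ * b.1 := by
      rw [eq_inv_mul_iff_mul_eq, ← mul_assoc, h', mul_inv_cancel_right]
    rw [this]
    exact mul_mem (inv_mem a.1.2) b.1.2
  have hfE : f ∈ E := by
    by_contra hf
    have hinj : Function.Injective mulf := fun a b h => by
      rcases hfib a b h with e | e
      · have e2 : a.2 = b.2 := Subtype.ext (mul_inv_eq_one.1 e)
        refine Prod.ext (Subtype.ext ?_) e2
        have h' : (a.1 : G) * a.2 = b.1 * b.2 := congrArg Subtype.val h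
        rw [e2] at h'
        exact mul_right_cancel h'
      · exact absurd (e ▸ mul_mem a.2.2 (inv_mem b.2.2)) hf
    have := Nat.card_le_card_of_injective mulf hinj
    rw [Nat.card_prod, h8, hE8, h32] at this
    omega
  obtain ⟨a, ha, a1, a2⟩ : ∃ a ∈ E, a ≠ 1 ∧ a ≠ f := by
    by_contra hno
    push Not at hno
    have h := Set.ncard_le_ncard (show (E : Set G) ⊆ {1, f} from fun v hv =>
      (em (v = 1)).imp id (hno v hv)) (Set.toFinite _)
    rw [← Nat.card_coe_set_eq] at h
    have h8' : Nat.card (E : Set G) = 8 := hE8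
    have := (Set.ncard_insert_le (1 : G) {f}).trans (by rw [Set.ncard_singleton])
    omega
  obtain ⟨b, hb, b1, b2, b3, b4⟩ : ∃ b ∈ E, b ≠ 1 ∧ b ≠ f ∧ b ≠ a ∧ b ≠ f * a := by
    by_contra hno
    push Not at hno
    have hsub : (E : Set G) ⊆ {1, f, a, f * a} := fun v hv => by
      simp only [Set.mem_insert_iff, Set.mem_singleton_iff]
      by_cases h1 : v = 1
      · exact Or.inl h1
      by_cases h2 : v = f
      · exact Or.inr (Or.inl h2)
      by_cases h3 : v = a
      · exact Or.inr (Or.inr (Or.inl h3))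
      exact Or.inr (Or.inr (Or.inr (hno v hv h1 h2 h3)))
    have h := Set.ncard_le_ncard hsub (Set.toFinite _)
    rw [← Nat.card_coe_set_eq] at h
    have h8' : Nat.card (E : Set G) = 8 := hE8
    have := (Set.ncard_insert_le (1 : G) {f, a, f * a}).trans (Nat.add_le_add_right
      ((Set.ncard_insert_le f {a, f * a}).trans (Nat.add_le_add_right
        ((Set.ncard_insert_le a {f * a}).trans (by rw [Set.ncard_singleton])) 1)) 1)
    omega
  have hsurj : ∀ s ∈ (S : Subgroup G), ∃ q ∈ Q, ∃ e ∈ E, s = q * e := by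
    let sel : Bool × Bool → E := fun u =>
      (if u.1 then ⟨a, ha⟩ else 1) * (if u.2 then ⟨b, hb⟩ else 1)
    have hsel : ∀ u v, (sel u : G) * (sel v : G)⁻¹ = 1 ∨ (sel u : G) * (sel v : G)⁻¹ = f → u = v := by
      have hai : a⁻¹ = a := inv_eq_of_mul_eq_one_right (hE a ha)
      have hbi : b⁻¹ = b := inv_eq_of_mul_eq_one_right (hE b hb)
      have hba : b * a = a * b := hEc b hb a ha
      have k1 : a * b ≠ 1 := fun h => b3 (by rw [eq_inv_of_mul_eq_one_right h, hai])
      have k2 : a * b ≠ f := fun h => b4 (by rw [← h, mul_assoc, hba, ← mul_assoc, hE a ha, one_mul])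
      have k3 : a * b * a = b := by rw [mul_assoc, hba, ← mul_assoc, hE a ha, one_mul]
      have k4 : a * b * b = a := by rw [mul_assoc, hE b hb, mul_one]
      have k5 : a * (b * a) = b := by rw [← mul_assoc, k3]
      have k6 : b * (b * a) = a := by rw [← mul_assoc, hE b hb, one_mul]
      have k7 : a * (a * b) = b := by rw [← mul_assoc, hE a ha, one_mul]
      have k8 : b * (a * b) = a := by rw [← mul_assoc, hba, k4]
      rintro ⟨_ | _, _ | _⟩ ⟨_ | _, _ | _⟩ h <;> first
        | rfl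
        | (exfalso
           simp only [sel, Bool.false_eq_true, if_false, if_true, one_mul, mul_one, Subgroup.coe_mul,
             Subgroup.coe_one, inv_one, mul_inv_rev, hai, hbi, hba, k3, k4, k6, k7, k8, a1, a2, b1, b2, k1, k2,
             or_self] at h)
    let m2 : Q × (Bool × Bool) → (S : Subgroup G) := fun v => mulf (v.1, sel v.2)
    have hinj : Function.Injective m2 := fun x y h => by
      have e2 : x.2 = y.2 := hsel _ _ (hfib _ _ h)
      have h' : (x.1 : G) * sel x.2 = y.1 * sel y.2 := congrArg Subtype.val h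
      rw [e2] at h'
      exact Prod.ext (Subtype.ext (mul_right_cancel h')) e2
    have hbij := hinj.bijective_of_nat_card_le (by
      simp only [Nat.card_prod, h8, h32, Nat.card_eq_fintype_card (α := Bool), Fintype.card_bool]; norm_num)
    intro s hs
    obtain ⟨⟨q, u⟩, hv⟩ := hbij.2 ⟨s, hs⟩
    exact ⟨q, q.2, sel u, (sel u).2, (congrArg Subtype.val hv).symm⟩
  have hQn : ∀ g ∈ R, ∀ v ∈ Q, g * v * g⁻¹ ∈ Q := fun g hg v hv => (mem_normalizer_iff.1 hg.2 v).1 hv
  -- the fixed class of an element of `E` outside `Q`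
  have hmove : ∀ e ∈ E, e ∈ R → e ∉ Q → ∃ p ∈ Q, p ≠ 1 ∧ p ≠ f ∧ (e * p * e⁻¹ = p ∨ e * p * e⁻¹ = p * f) ∧
      ∀ r ∈ Q, r ≠ 1 → r ≠ f → r ≠ p → r ≠ p * f →
        e * r * e⁻¹ = r * p ∨ e * r * e⁻¹ = r * (p * f) := by
    intro e he heR heQ
    have hei : e⁻¹ = e := inv_eq_of_mul_eq_one_right (hE e he)
    have hef := D.fix_f heR.2
    have hex : ∃ r ∈ Q, r ≠ 1 ∧ r ≠ f ∧ e * r * e⁻¹ ≠ r ∧ e * r * e⁻¹ ≠ r * f := by
      by_contra hno
      push Not at hno
      obtain ⟨p, hp, p1, p2⟩ : ∃ p ∈ Q, p ≠ 1 ∧ p ≠ f := by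
        refine ⟨x, hx, fun e => hxx (by rw [e, one_mul]), fun e => hxx (by rw [e, D.ff])⟩
      obtain ⟨r, hr, r1, r2, r3, r4⟩ : ∃ r ∈ Q, r ≠ 1 ∧ r ≠ f ∧ r ≠ p ∧ r ≠ p * f := by
        by_contra hno'
        push Not at hno'
        have hsub : (Q : Set G) ⊆ {1, f, p, p * f} := fun v hv => by
          simp only [Set.mem_insert_iff, Set.mem_singleton_iff]
          by_cases h1 : v = 1
          · exact Or.inl h1
          by_cases h2 : v = f
          · exact Or.inr (Or.inl h2)
          by_cases h3 : v = p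
          · exact Or.inr (Or.inr (Or.inl h3))
          exact Or.inr (Or.inr (Or.inr (hno' v hv h1 h2 h3)))
        have h := Set.ncard_le_ncard hsub (Set.toFinite _)
        rw [← Nat.card_coe_set_eq] at h
        have h8' : Nat.card (Q : Set G) = 8 := h8
        have := (Set.ncard_insert_le (1 : G) {f, p, p * f}).trans (Nat.add_le_add_right
          ((Set.ncard_insert_le f {p, p * f}).trans (Nat.add_le_add_right
            ((Set.ncard_insert_le p {p * f}).trans (by rw [Set.ncard_singleton])) 1)) 1)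
        omega
      refine heQ (D.fix_all B.toCand (hES he) heR.2 hp hr p1 p2 r1 r2 r3 r4 ?_ ?_)
      · exact (em _).imp id (hno p hp p1 p2)
      · exact (em _).imp id (hno r hr r1 r2)
    obtain ⟨r, hr, r1, r2, hr3, hr4⟩ := hex
    set r' := e * r * e⁻¹ with hr'
    have hr'Q : r' ∈ Q := hQn e heR r hr
    have hr'1 : r' ≠ 1 := fun h => r1 (conj_eq_one_iff.1 h)
    have hr'f : r' ≠ f := fun h => r2 (by
      rw [← hef] at h
      exact mul_left_cancel (mul_right_cancel h))
    have hee : e * r' * e⁻¹ = r := by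
      rw [hr', hei, show e * (e * r * e) * e = e * e * r * (e * e) by group, hE e he, one_mul, mul_one]
    have hrr := D.anti hr hr'Q r1 r2 hr'1 hr'f hr3 hr4
    have hp1 : r * r' ≠ 1 := fun h => hr4 (by
      rw [eq_inv_of_mul_eq_one_right h]
      exact inv_eq_of_mul_eq_one_right (by rw [← mul_assoc, D.sq r hr r1 r2, D.ff]))
    have hp2 : r * r' ≠ f := fun h => hr3 (by
      rw [eq_inv_mul_of_mul_eq h, inv_mul_eq_iff_eq_mul, D.sq r hr r1 r2])
    have hpc : r' * r = r * r' * f := by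
      calc r' * r = r' * r * r'⁻¹ * r' := by group
        _ = r * f * r' := by rw [hrr]
        _ = r * r' * f := by rw [mul_assoc r f r', (D.f_comm hr'Q).eq, ← mul_assoc r r' f]
    have hpf : e * (r * r') * e⁻¹ = r * r' * f := by
      calc e * (r * r') * e⁻¹ = e * r * e⁻¹ * (e * r' * e⁻¹) := by group
        _ = r' * r := by rw [← hr', hee]
        _ = r * r' * f := hpc
    refine ⟨r * r', mul_mem hr hr'Q, hp1, hp2, Or.inr hpf, fun s hs s1 s2 s3 s4 => ?_⟩
    have hsQ := hQn e heR s hs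
    have q1 : e * s * e⁻¹ ≠ 1 := fun h => s1 (conj_eq_one_iff.1 h)
    have q2 : e * s * e⁻¹ ≠ f := fun h => s2 (by
      rw [← hef] at h
      exact mul_left_cancel (mul_right_cancel h))
    have q3 : e * s * e⁻¹ ≠ r * r' := fun h => s4 (by
      have h1 : e * (r * r' * f) * e⁻¹ = e * s * e⁻¹ := by
        rw [h, show e * (r * r' * f) * e⁻¹ = e * (r * r') * e⁻¹ * (e * f * e⁻¹) by group, hpf, hef, mul_assoc,
          D.ff, mul_one]
      exact (mul_left_cancel (mul_right_cancel h1)).symm)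
    have q4 : e * s * e⁻¹ ≠ r * r' * f := fun h => s3 (by
      rw [← hpf] at h
      exact mul_left_cancel (mul_right_cancel h))
    rcases D.span (mul_mem hr hr'Q) hs hsQ hp1 hp2 s1 s2 s3 s4 with h | h | h | h | h | h | h | h
    · exact absurd h q1
    · exact absurd h q2
    · exact absurd h q3
    · exact absurd h q4
    · exact absurd (D.fix_all B.toCand (hES he) heR.2 (mul_mem hr hr'Q) hs hp1 hp2 s1 s2 s3 s4 (Or.inr hpf)
        (Or.inl h)) heQ
    · exact absurd (D.fix_all B.toCand (hES he) heR.2 (mul_mem hr hr'Q) hs hp1 hp2 s1 s2 s3 s4 (Or.inr hpf)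
        (Or.inr h)) heQ
    · exact Or.inl h
    · exact Or.inr h
  obtain ⟨e₁, he₁, he₁R, he₁Q⟩ : ∃ e₁ ∈ E, e₁ ∈ R ∧ e₁ ∉ Q := by
    obtain ⟨g, hg, hgQ⟩ := SetLike.exists_of_lt (lt_normalizerIn S.2 B.lt)
    obtain ⟨q, hq, e, he, rfl⟩ := hsurj g hg.1
    have heR : e ∈ R := by
      have := mul_mem (inv_mem (hQR hq)) hg
      rwa [inv_mul_cancel_left] at this
    exact ⟨e, he, heR, fun heQ => hgQ (mul_mem hq heQ)⟩
  obtain ⟨p, hp, p1, p2, hpfix, hpmove⟩ := hmove e₁ he₁ he₁R he₁Q
  have hpair : ∀ e ∈ E, e ∈ R → e ∉ Q → e₁ * e ∈ Q := by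
    intro e he heR heQ
    obtain ⟨p', hp', p1', p2', hpfix', hpmove'⟩ := hmove e he heR heQ
    have he₁f := D.fix_f he₁R.2
    have hef := D.fix_f heR.2
    have hsame : p' = p ∨ p' = p * f := by
      by_contra hne
      push Not at hne
      -- `e₁` would fix two classes
      have h1 := hpmove p' hp' p1' p2' hne.1 hne.2
      set a := e₁ * p' * e₁⁻¹ with ha
      have hfix : e * a * e⁻¹ = a ∨ e * a * e⁻¹ = a * f := by
        have hswap : e * a * e⁻¹ = e₁ * (e * p' * e⁻¹) * e₁⁻¹ := by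
          rw [ha, show e * (e₁ * p' * e₁⁻¹) * e⁻¹ = (e * e₁) * p' * (e * e₁)⁻¹ by group, hEc e he e₁ he₁]
          group
        rcases hpfix' with h | h <;> rw [h] at hswap
        · exact Or.inl hswap
        · exact Or.inr (by rw [hswap, show e₁ * (p' * f) * e₁⁻¹ = e₁ * p' * e₁⁻¹ * (e₁ * f * e₁⁻¹) by group, he₁f])
      have a1 : a ≠ 1 := fun h => p1' (conj_eq_one_iff.1 h)
      have a2 : a ≠ f := fun h => p2' (by
        rw [← he₁f] at h
        exact mul_left_cancel (mul_right_cancel h))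
      have a3 : a ≠ p' := fun h => p1 (by
        rcases h1 with k | k
        · rw [h] at k; exact left_eq_mul.1 k
        · rw [h] at k
          exact absurd (by rw [eq_inv_of_mul_eq_one_left (left_eq_mul.1 k), inv_eq_of_mul_eq_one_right D.ff]) p2)
      have a4 : a ≠ p' * f := fun h => p2 (by
        rcases h1 with k | k
        · rw [h] at k; exact (mul_left_cancel k).symm
        · rw [h] at k
          exact absurd (mul_right_cancel ((one_mul f).trans (mul_left_cancel k))).symm p1)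
      exact heQ (D.fix_all B.toCand (hES he) heR.2 hp' (hQn e₁ he₁R p' hp') p1' p2' a1 a2 a3 a4 hpfix' hfix)
    obtain ⟨r, hr, r1, r2, r3, r4⟩ : ∃ r ∈ Q, r ≠ 1 ∧ r ≠ f ∧ r ≠ p ∧ r ≠ p * f := by
      by_contra hno'
      push Not at hno'
      have hsub : (Q : Set G) ⊆ {1, f, p, p * f} := fun v hv => by
        simp only [Set.mem_insert_iff, Set.mem_singleton_iff]
        by_cases h1 : v = 1
        · exact Or.inl h1
        by_cases h2 : v = f
        · exact Or.inr (Or.inl h2)
        by_cases h3 : v = p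
        · exact Or.inr (Or.inr (Or.inl h3))
        exact Or.inr (Or.inr (Or.inr (hno' v hv h1 h2 h3)))
      have h := Set.ncard_le_ncard hsub (Set.toFinite _)
      rw [← Nat.card_coe_set_eq] at h
      have h8' : Nat.card (Q : Set G) = 8 := h8
      have := (Set.ncard_insert_le (1 : G) {f, p, p * f}).trans (Nat.add_le_add_right
        ((Set.ncard_insert_le f {p, p * f}).trans (Nat.add_le_add_right
          ((Set.ncard_insert_le p {p * f}).trans (by rw [Set.ncard_singleton])) 1)) 1)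
      omega
    have hpf' : p * f * f = p := by rw [mul_assoc, D.ff, mul_one]
    have hefix : e * p * e⁻¹ = p ∨ e * p * e⁻¹ = p * f := by
      rcases hsame with h | h <;> rw [h] at hpfix'
      · exact hpfix'
      · rw [show e * (p * f) * e⁻¹ = e * p * e⁻¹ * (e * f * e⁻¹) by group, hef] at hpfix'
        exact hpfix'.imp mul_right_cancel mul_right_cancel
    have hr' : e * r * e⁻¹ = r * p ∨ e * r * e⁻¹ = r * (p * f) := by
      rcases hsame with h | h
      · exact h ▸ hpmove' r hr r1 r2 (h ▸ r3) (h ▸ r4)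
      · have h' := hpmove' r hr r1 r2 (h ▸ r4) (by rw [h, hpf']; exact r3)
        rw [h, hpf'] at h'
        exact h'.symm
    have hcomp : ∀ v : G, e₁ * e * v * (e₁ * e)⁻¹ = e₁ * (e * v * e⁻¹) * e₁⁻¹ := fun v => by group
    refine D.fix_all B.toCand (mul_mem (hES he₁) (hES he)) (mul_mem he₁R.2 heR.2) hp hr p1 p2 r1 r2 r3 r4 ?_ ?_
    · rw [hcomp]
      rcases hefix with h | h <;> rw [h]
      · exact hpfix
      · rw [show e₁ * (p * f) * e₁⁻¹ = e₁ * p * e₁⁻¹ * (e₁ * f * e₁⁻¹) by group, he₁f]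
        rcases hpfix with k | k <;> rw [k]
        · exact Or.inr rfl
        · exact Or.inl hpf'
    · rw [hcomp]
      have hpp := D.sq p hp p1 p2
      have e2 : p * f * p = 1 := by rw [mul_assoc, (D.f_comm hp).eq, ← mul_assoc, hpp, D.ff]
      have e3 : p * (p * f) = 1 := by rw [← mul_assoc, hpp, D.ff]
      have e4 : p * f * (p * f) = f := by rw [← mul_assoc, e2, one_mul]
      have hrconj := hpmove r hr r1 r2 r3 r4
      rcases hr' with h | h <;> rw [h]
      · rw [show e₁ * (r * p) * e₁⁻¹ = e₁ * r * e₁⁻¹ * (e₁ * p * e₁⁻¹) by group]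
        rcases hrconj with k | k <;> rcases hpfix with l | l <;> rw [k, l, mul_assoc]
        exacts [Or.inr (by rw [hpp]), Or.inl (by rw [e3, mul_one]), Or.inl (by rw [e2, mul_one]),
          Or.inr (by rw [e4])]
      · rw [show e₁ * (r * (p * f)) * e₁⁻¹ = e₁ * r * e₁⁻¹ * (e₁ * p * e₁⁻¹ * (e₁ * f * e₁⁻¹)) by group, he₁f]
        rcases hrconj with k | k <;> rcases hpfix with l | l <;> rw [k, l, mul_assoc]
        exacts [Or.inl (by rw [e3, mul_one]), Or.inr (by rw [hpf', hpp]), Or.inr (by rw [e4]),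
          Or.inl (by rw [hpf', e2, mul_one])]
  have hcover : ∀ g ∈ R, g ∈ Q ∨ g * e₁ ∈ Q := by
    intro g hg
    obtain ⟨q, hq, e, he, rfl⟩ := hsurj g hg.1
    by_cases heQ : e ∈ Q
    · exact Or.inl (mul_mem hq heQ)
    · have heR : e ∈ R := by
        have := mul_mem (inv_mem (hQR hq)) hg
        rwa [inv_mul_cancel_left] at this
      refine Or.inr ?_
      rw [mul_assoc, hEc e he e₁ he₁]
      exact mul_mem hq (hpair e he heR heQ)
  have hR16 : Nat.card R ≤ 16 := by
    let g : R → Bool × Q := fun r => if h : (r : G) ∈ Q then (false, ⟨r, h⟩) else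
      (true, ⟨r * e₁, (hcover r r.2).resolve_left h⟩)
    have hg : Function.Injective g := fun a b hab => by
      simp only [g] at hab
      split_ifs at hab <;> simp only [Prod.mk.injEq, Subtype.mk.injEq, Bool.false_eq_true, Bool.true_eq_false,
        false_and, mul_left_inj] at hab
      · exact Subtype.ext hab.2
      · exact Subtype.ext hab.2
    have := Nat.card_le_card_of_injective g hg
    rw [Nat.card_prod, h8, Nat.card_eq_fintype_card (α := Bool), Fintype.card_bool] at this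
    omega
  obtain ⟨e, he, heR⟩ : ∃ e ∈ E, e ∉ R := by
    by_contra hno
    push Not at hno
    have hle : (S : Subgroup G) ≤ R := fun s hs => by
      obtain ⟨q, hq, e, he, rfl⟩ := hsurj s hs
      exact mul_mem (hQR hq) (hno e he)
    have := card_le_of_le hle
    omega
  have hRn : ∀ s ∈ (S : Subgroup G), ∀ r ∈ R, s * r * s⁻¹ ∈ R := by
    have hi : (R.subgroupOf (S : Subgroup G)).index = 2 := by
      have h := (R.subgroupOf (S : Subgroup G)).card_mul_index
      rw [Nat.card_congr (subgroupOfEquivOfLe (show R ≤ (S : Subgroup G) from inf_le_left)).toEquiv, h32] at h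
      have h9 : 9 ≤ Nat.card R := by
        have h8R : Nat.card Q < Nat.card R := lt_of_le_of_ne (card_le_of_le hQR) fun e =>
          he₁Q ((eq_of_le_of_card_ge hQR e.ge).symm ▸ he₁R)
        omega
      have hi1 : (R.subgroupOf (S : Subgroup G)).index ≠ 1 := fun e => by rw [e] at h; omega
      by_contra h2
      have h0 : (R.subgroupOf (S : Subgroup G)).index ≠ 0 := index_ne_zero_of_finite
      have : 9 * 4 ≤ Nat.card R * (R.subgroupOf (S : Subgroup G)).index := Nat.mul_le_mul h9 (by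
        by_contra h3
        have : (R.subgroupOf (S : Subgroup G)).index = 3 := by omega
        rw [this] at h; omega)
      omega
    haveI := normal_of_index_eq_two hi
    intro s hs r hr
    exact mem_subgroupOf.1 (Normal.conj_mem inferInstance (⟨r, hr.1⟩ : (S : Subgroup G))
      (mem_subgroupOf.2 hr) ⟨s, hs⟩)
  refine heR ⟨hES he, mem_normalizer_of_maps_finite fun q hq => ?_⟩
  show e * q * e⁻¹ ∈ Q
  rcases hcover _ (hRn e (hES he) q (hQR hq)) with h | h
  · exact h
  exfalso
  set q' := e * q * e⁻¹ with hq'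
  have hef : e * f * e⁻¹ = f := by rw [hEc e he f hfE, mul_inv_cancel_right]
  have hq'2 : q' * q' = 1 → q = 1 ∨ q = f := fun hh => by
    by_contra hno
    push Not at hno
    rw [hq', show e * q * e⁻¹ * (e * q * e⁻¹) = e * (q * q) * e⁻¹ by group, D.sq q hq hno.1 hno.2, hef] at hh
    exact D.f1 hh
  have he₁i : e₁⁻¹ = e₁ := inv_eq_of_mul_eq_one_right (hE e₁ he₁)
  have hqne : q ≠ 1 ∧ q ≠ f := by
    constructor <;> intro hh
    · rw [hq', hh, mul_one, mul_inv_cancel, one_mul] at h; exact he₁Q h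
    · rw [hq', hh, hef] at h
      have := mul_mem D.fQ h
      rw [← mul_assoc, D.ff, one_mul] at this
      exact he₁Q this
  set q₀ := q' * e₁ with hq₀
  have hq'eq : q' = q₀ * e₁ := by rw [hq₀, mul_assoc, hE e₁ he₁, mul_one]
  have hsq : q₀ * e₁ * (q₀ * e₁) = f := by
    rw [← hq'eq, hq', show e * q * e⁻¹ * (e * q * e⁻¹) = e * (q * q) * e⁻¹ by group, D.sq q hq hqne.1 hqne.2, hef]
  have he₁f := D.fix_f he₁R.2
  have hbad : ∀ u, (u = 1 ∨ u = f) → q₀ ≠ u := by
    intro u hu h'
    refine absurd (hq'2 ?_) (fun hh => hh.elim hqne.1 hqne.2)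
    rcases hu with rfl | rfl <;> rw [hq'eq, h']
    · rw [one_mul, hE e₁ he₁]
    · rw [show u * e₁ * (u * e₁) = u * (e₁ * u * e₁⁻¹) * (e₁ * e₁) by group, he₁f, D.ff, hE e₁ he₁, one_mul]
  have q1 := hbad 1 (Or.inl rfl)
  have q2 := hbad f (Or.inr rfl)
  have hfix : e₁ * q₀ * e₁⁻¹ = q₀ := by
    refine mul_left_cancel (a := q₀) ?_
    rw [D.sq q₀ h q1 q2, ← hsq, he₁i]
    group
  obtain ⟨r, hr, r1, r2, r3, r4⟩ : ∃ r ∈ Q, r ≠ 1 ∧ r ≠ f ∧ r ≠ p ∧ r ≠ p * f := by
    by_contra hno'
    push Not at hno'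
    have hsub : (Q : Set G) ⊆ {1, f, p, p * f} := fun v hv => by
      simp only [Set.mem_insert_iff, Set.mem_singleton_iff]
      by_cases h1 : v = 1
      · exact Or.inl h1
      by_cases h2 : v = f
      · exact Or.inr (Or.inl h2)
      by_cases h3 : v = p
      · exact Or.inr (Or.inr (Or.inl h3))
      exact Or.inr (Or.inr (Or.inr (hno' v hv h1 h2 h3)))
    have hh := Set.ncard_le_ncard hsub (Set.toFinite _)
    rw [← Nat.card_coe_set_eq] at hh
    have h8' : Nat.card (Q : Set G) = 8 := h8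
    have := (Set.ncard_insert_le (1 : G) {f, p, p * f}).trans (Nat.add_le_add_right
      ((Set.ncard_insert_le f {p, p * f}).trans (Nat.add_le_add_right
        ((Set.ncard_insert_le p {p * f}).trans (by rw [Set.ncard_singleton])) 1)) 1)
    omega
  -- the fixed element lies in the fixed class
  have hq₀p : q₀ = p ∨ q₀ = p * f := by
    by_contra hno
    push Not at hno
    rcases hpmove q₀ h q1 q2 hno.1 hno.2 with k | k <;> rw [hfix] at k
    · exact p1 (left_eq_mul.1 k)
    · exact p2 (by rw [eq_inv_of_mul_eq_one_left (left_eq_mul.1 k), inv_eq_of_mul_eq_one_right D.ff])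
  have hpf : e₁ * p * e₁⁻¹ = p := by
    rcases hq₀p with k | k <;> rw [k] at hfix
    · exact hfix
    · rw [show e₁ * (p * f) * e₁⁻¹ = e₁ * p * e₁⁻¹ * (e₁ * f * e₁⁻¹) by group, he₁f] at hfix
      exact mul_right_cancel hfix
  have hee : e₁ * (e₁ * r * e₁⁻¹) * e₁⁻¹ = r := by
    rw [he₁i, show e₁ * (e₁ * r * e₁) * e₁ = e₁ * e₁ * r * (e₁ * e₁) by group, hE e₁ he₁, one_mul, mul_one]
  have hpp := D.sq p hp p1 p2
  rcases hpmove r hr r1 r2 r3 r4 with k | k
  · rw [k, show e₁ * (r * p) * e₁⁻¹ = e₁ * r * e₁⁻¹ * (e₁ * p * e₁⁻¹) by group, k, hpf, mul_assoc, hpp] at hee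
    exact D.f1 (mul_left_cancel (hee.trans (mul_one r).symm))
  · rw [k, show e₁ * (r * (p * f)) * e₁⁻¹ = e₁ * r * e₁⁻¹ * (e₁ * p * e₁⁻¹ * (e₁ * f * e₁⁻¹)) by group, k, hpf,
      he₁f, mul_assoc, ← mul_assoc (p * f), mul_assoc p f p, (D.f_comm hp).eq, ← mul_assoc p p f, hpp, D.ff,
      one_mul] at hee
    exact D.f1 (mul_left_cancel (hee.trans (mul_one r).symm))

end Cfsg.Lib.LenSeven
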