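import Cfsg.Agent.LenSeven.Core
import Cfsg.Agent.LenSeven.Site

/-!
Common facts for a simple group with a Sylow 2-subgroup of order `32` whose derived subgroup has order four.
-/

set_option autoImplicit false
set_option linter.style.haveILetI false
set_option linter.unusedSectionVars false

namespace Cfsg.Lib.LenSeven

open Subgroup Cfsg Cfsg.FusionSystem Cfsg.Lib.Fusion
open scoped commutatorElement

universe u

variable {G : Type u} [Group G] [Finite G]

/-- The set-up: a Sylow 2-subgroup of order `32` with small centre, derived subgroup of order four and an elementary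
subgroup of order eight. -/
structure Hyp (S : Sylow 2 G) : Prop where
  simple : IsSimpleGroup G
  nab : ¬ IsMulCommutative G
  sna : ¬ IsMulCommutative (S : Subgroup G)
  card : Nat.card (S : Subgroup G) = 32
  centre : Nat.card (center (S : Subgroup G)) ≤ 4
  der : Nat.card ↥⁅(S : Subgroup G), (S : Subgroup G)⁆ = 4
  rank : ∃ E : Subgroup G, E ≤ (S : Subgroup G) ∧ Nat.card E = 8 ∧ ∀ e ∈ E, e * e = 1

/-- A group without elements of odd prime order is a 2-group. -/
theorem two_of_odd_trivial {X : Type*} [Group X] [Finite X] (K : Subgroup X)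
    (h : ∀ x ∈ K, ∀ p : ℕ, p.Prime → p ≠ 2 → orderOf x ≠ p) : IsPGroup 2 K := by
  have h2 : ∀ {d : ℕ}, d.Prime → d ∣ Nat.card K → d = 2 := by
    intro d hd hdd
    by_contra hd2
    haveI : Fact d.Prime := ⟨hd⟩
    obtain ⟨⟨x, hx⟩, ho⟩ := exists_prime_orderOf_dvd_card' (G := K) d hdd
    rw [Subgroup.orderOf_mk] at ho
    exact h x hx d hd hd2 ho
  exact IsPGroup.of_card (Nat.eq_prime_pow_of_unique_prime_dvd Nat.card_pos.ne' h2)

theorem eq_one_of_odd_mem_two {X : Type*} [Group X] [Finite X] {K : Subgroup X} (hK : IsPGroup 2 K) {x : X}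
    (hx : x ∈ K) {p : ℕ} (hp : p.Prime) (hp2 : p ≠ 2) (ho : orderOf x = p) : False := by
  haveI : Fact (Nat.Prime 2) := ⟨Nat.prime_two⟩
  obtain ⟨k, hk⟩ := hK ⟨x, hx⟩
  have h : x ^ 2 ^ k = 1 := congrArg Subtype.val hk
  rw [← orderOf_dvd_iff_pow_eq_one, ho] at h
  exact hp2 ((Nat.prime_dvd_prime_iff_eq hp Nat.prime_two).1 (hp.dvd_of_dvd_pow h))

variable {S : Sylow 2 G}

namespace Hyp

variable (H : Hyp S)
include H

theorem der_le : ⁅(S : Subgroup G), (S : Subgroup G)⁆ ≤ (S : Subgroup G) := commutator_le_self _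

theorem comm_mem {a b : G} (ha : a ∈ (S : Subgroup G)) (hb : b ∈ (S : Subgroup G)) :
    a * b * a⁻¹ * b⁻¹ ∈ ⁅(S : Subgroup G), (S : Subgroup G)⁆ := by
  rw [← commutatorElement_def]
  exact commutator_mem_commutator ha hb

theorem conj_mem_der {g x : G} (hg : g ∈ normalizer ((S : Subgroup G) : Set G))
    (hx : x ∈ ⁅(S : Subgroup G), (S : Subgroup G)⁆) : g * x * g⁻¹ ∈ ⁅(S : Subgroup G), (S : Subgroup G)⁆ := by
  have h : (⁅(S : Subgroup G), (S : Subgroup G)⁆).map (MulAut.conj g).toMonoidHom =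
      ⁅(S : Subgroup G), (S : Subgroup G)⁆ := by
    rw [map_commutator, show (S : Subgroup G).map (MulAut.conj g).toMonoidHom = (S : Subgroup G) from
      mem_normalizer_iff_map_conj_eq.1 hg]
  rw [← h]
  exact ⟨x, hx, rfl⟩

theorem index_two {Q : Subgroup G} (hQ : Q ≤ (S : Subgroup G)) (h16 : Nat.card Q = 16) :
    (Q.subgroupOf (S : Subgroup G)).index = 2 := by
  have h := (Q.subgroupOf (S : Subgroup G)).card_mul_index
  rw [Nat.card_congr (subgroupOfEquivOfLe hQ).toEquiv, h16, H.card] at h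
  omega

theorem der_le_half {Q : Subgroup G} (hQ : Q ≤ (S : Subgroup G)) (h16 : Nat.card Q = 16) :
    ⁅(S : Subgroup G), (S : Subgroup G)⁆ ≤ Q := by
  refine commutator_le.2 fun a ha b hb => ?_
  have hi := H.index_two hQ h16
  have key : ∀ p q : (S : Subgroup G), p * q ∈ Q.subgroupOf (S : Subgroup G) ↔
      (p ∈ Q.subgroupOf (S : Subgroup G) ↔ q ∈ Q.subgroupOf (S : Subgroup G)) :=
    fun p q => Subgroup.mul_mem_iff_of_index_two hi
  have h : (⟨a, ha⟩ * ⟨b, hb⟩ * (⟨a, ha⟩ : (S : Subgroup G))⁻¹ * ⟨b, hb⟩⁻¹) ∈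
      Q.subgroupOf (S : Subgroup G) := by
    rw [key, key, key, inv_mem_iff, inv_mem_iff]
    tauto
  rw [commutatorElement_def]
  exact mem_subgroupOf.1 h

theorem normal_half {Q : Subgroup G} (hQ : Q ≤ (S : Subgroup G)) (h16 : Nat.card Q = 16) :
    (S : Subgroup G) ≤ normalizer (Q : Set G) := by
  haveI := normal_of_index_eq_two (H.index_two hQ h16)
  exact le_normalizer_of_normal_subgroupOf hQ

theorem exists_central : ∃ z ∈ (S : Subgroup G), z ≠ 1 ∧ ∀ s ∈ (S : Subgroup G), Commute s z := by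
  haveI : Fact (Nat.Prime 2) := ⟨Nat.prime_two⟩
  haveI : Nontrivial (S : Subgroup G) := Finite.one_lt_card_iff_nontrivial.1 (by rw [H.card]; norm_num)
  haveI := S.2.center_nontrivial
  obtain ⟨z, hz⟩ := exists_ne (1 : center (S : Subgroup G))
  exact ⟨_, (z : (S : Subgroup G)).2, fun e => hz (Subtype.ext (Subtype.ext e)),
    fun s hs => congrArg Subtype.val (mem_center_iff.1 z.2 ⟨s, hs⟩)⟩

/-- A site has order `8` or `16`. -/
theorem site_card {Q : Subgroup G} (K : Cand S Q) : Nat.card Q = 8 ∨ Nat.card Q = 16 := by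
  classical
  haveI : Fact (Nat.Prime 2) := ⟨Nat.prime_two⟩
  obtain ⟨k, hk⟩ := IsPGroup.iff_card.1 (S.2.to_le K.le)
  have hlt : Nat.card Q < 32 := H.card ▸ lt_of_le_of_ne (card_le_of_le K.le)
    fun e => K.lt.ne (eq_of_le_of_card_ge K.le e.ge)
  have hk5 : k < 5 := (Nat.pow_lt_pow_iff_right (by norm_num : 1 < 2)).1 (show 2 ^ k < 2 ^ 5 by rw [← hk]; omega)
  obtain ⟨z, hzS, hz1, hzc⟩ := H.exists_central
  have hzQ : z ∈ Q := K.self hzS fun q hq => (hzc q (K.le hq)).symm
  obtain ⟨u, hu, hun⟩ : ∃ u ∈ Q, ∃ x ∈ (S : Subgroup G), ¬ Commute x u := by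
    by_contra hno
    push Not at hno
    exact K.lt.not_ge fun x hx => K.self hx fun q hq => hno q hq x hx
  have huz : u ≠ z := fun e => by
    obtain ⟨x, hx, h⟩ := hun
    exact h (e ▸ hzc x hx)
  have hu1 : u ≠ 1 := fun e => by
    obtain ⟨x, -, h⟩ := hun
    exact h (e ▸ Commute.one_right x)
  have h3 : 3 ≤ Nat.card Q := by
    have h := Set.ncard_le_ncard (show ({1, z, u} : Set G) ⊆ Q from fun v hv => by
      rcases hv with rfl | rfl | rfl
      exacts [one_mem Q, hzQ, hu]) (Set.toFinite _)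
    rw [Set.ncard_insert_of_notMem (by simp [hz1.symm, hu1.symm]) (Set.toFinite _), Set.ncard_pair huz.symm,
      ← Nat.card_coe_set_eq] at h
    exact h
  by_contra hno
  push Not at hno
  have hk2 : k = 2 := by
    interval_cases k <;> simp_all
  have hQ4 : Nat.card Q = 4 := by rw [hk, hk2]; norm_num
  have hcu : ∀ x ∈ (S : Subgroup G), Commute x u → x ∈ Q := by
    intro x hx hxu
    set L := Q ⊓ centralizer ({x} : Set G)
    have hL : L = Q := by
      refine eq_of_le_of_card_ge inf_le_left ?_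
      have h := Set.ncard_le_ncard (show ({1, z, u} : Set G) ⊆ L from fun v hv => by
        rcases hv with rfl | rfl | rfl
        exacts [one_mem L, ⟨hzQ, mem_centralizer_singleton_iff.2 (hzc x hx).eq.symm⟩,
          ⟨hu, mem_centralizer_singleton_iff.2 hxu.eq.symm⟩]) (Set.toFinite _)
      rw [Set.ncard_insert_of_notMem (by simp [hz1.symm, hu1.symm]) (Set.toFinite _), Set.ncard_pair huz.symm,
        ← Nat.card_coe_set_eq] at h
      have h' : 3 ≤ Nat.card L := h
      have hd : Nat.card L ∣ 4 := hQ4 ▸ card_dvd_of_le inf_le_left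
      have := Nat.le_of_dvd (by norm_num) hd
      have : Nat.card L ≠ 3 := fun e => by rw [e] at hd; norm_num at hd
      omega
    exact K.self hx fun q hq => (mem_centralizer_singleton_iff.1 (hL.ge hq).2).symm
  have hus : u ∈ (S : Subgroup G) := K.le hu
  set Qs := Q.subgroupOf (S : Subgroup G) with hQs
  let g : ((S : Subgroup G) ⧸ Qs) → ↥⁅(S : Subgroup G), (S : Subgroup G)⁆ := fun a =>
    ⟨(a.out : G) * u * (a.out : G)⁻¹ * u⁻¹, H.comm_mem a.out.2 hus⟩
  have hg : Function.Injective g := fun a b hab => by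
    have h : (a.out : G) * u * (a.out : G)⁻¹ * u⁻¹ = b.out * u * (b.out : G)⁻¹ * u⁻¹ := congrArg Subtype.val hab
    rw [mul_left_inj] at h
    have hm : (b.out : G)⁻¹ * a.out ∈ Q := by
      refine hcu _ (mul_mem (inv_mem b.out.2) a.out.2) ?_
      show (b.out : G)⁻¹ * a.out * u = u * ((b.out : G)⁻¹ * a.out)
      calc (b.out : G)⁻¹ * a.out * u = (b.out : G)⁻¹ * ((a.out : G) * u * (a.out : G)⁻¹) * a.out := by group
        _ = u * ((b.out : G)⁻¹ * a.out) := by rw [h]; group
    rw [← QuotientGroup.out_eq' a, ← QuotientGroup.out_eq' b]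
    exact ((QuotientGroup.eq).2 (mem_subgroupOf.2 hm)).symm
  have h := Nat.card_le_card_of_injective g hg
  rw [H.der, ← Subgroup.index_eq_card] at h
  have hm := Qs.card_mul_index
  rw [hQs, Nat.card_congr (subgroupOfEquivOfLe K.le).toEquiv, hQ4, H.card] at hm
  rw [hQs] at h
  omega

/-- An abelian subgroup of the Sylow subgroup that every map preserves gives a contradiction. -/
theorem false_of_preserved {A : Subgroup G} (hA : A ≤ (S : Subgroup G)) (hA1 : A ≠ ⊥)
    (hAc : ∀ a ∈ A, ∀ b ∈ A, a * b = b * a)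
    (htop : ∀ g ∈ normalizer ((S : Subgroup G) : Set G), ∀ x ∈ A, g * x * g⁻¹ ∈ A)
    (hsite : ∀ (Φ : Subgroup G → (G → G) → Prop) (Q : Subgroup G),
      (∀ (P : Subgroup G) (f : G → G), Φ P f ↔ ∀ x ∈ P, x ∈ A ↔ f x ∈ A) → Bad S Φ Q → False) : False := by
  haveI : Fact (Nat.Prime 2) := ⟨Nat.prime_two⟩
  haveI := H.simple
  set F := groupFusionSystem (S : Subgroup G)
  let Φ : Subgroup G → (G → G) → Prop := fun P f => ∀ x ∈ P, x ∈ A ↔ f x ∈ A
  have hiff : ∀ g ∈ normalizer ((S : Subgroup G) : Set G), ∀ x, x ∈ A ↔ g * x * g⁻¹ ∈ A := fun g hg x =>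
    ⟨htop g hg x, fun h => by
      have := htop g⁻¹ (inv_mem hg) _ h
      rwa [inv_inv, show g⁻¹ * (g * x * g⁻¹) * g = x by group] at this⟩
  have hΦ : IsMapClass F Φ :=
    { conj := fun P g _ hg x _ => hiff g (le_normalizer hg) x
      congr := fun P f f' _ e h x hx => by rw [e x hx]; exact h x hx
      mono := fun P R f _ hR h x hx => h x (hR hx)
      comp := fun P Q f g _ _ hfQ h1 h2 x hx => (h1 x hx).trans (h2 (f x) (hfQ x hx))
      inv := fun P f g hf _ hgf h y hy => by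
        obtain ⟨x, hx, rfl⟩ := hf.mem_img.mp hy
        rw [hgf x hx]
        exact (h x hx).symm }
  have hscl : Cfsg.IsStronglyClosed A (S : Subgroup G) := by
    refine ⟨hA, fun x hx g hg => ?_⟩
    have hmap : IsMap F (zpowers x) (fun y => g * y * g⁻¹) := isMap_group_iff.2
      ⟨zpowers_le.2 (hA hx), fun y hy => by
        obtain ⟨i, rfl⟩ := mem_zpowers_iff.1 hy
        show g * x ^ i * g⁻¹ ∈ _
        rw [← conj_zpow]; exact zpow_mem hg i, g, fun _ _ => rfl⟩
    refine (alperin_induction S.2 (saturated_group S) hΦ (fun f hf => ?_)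
      (fun Q hQS hQn hQc hIH α hα => ?_) hmap x (mem_zpowers x)).1 hx
    · obtain ⟨-, hfS, k, hk⟩ := isMap_group_iff.1 hf
      have hkn : k ∈ normalizer ((S : Subgroup G) : Set G) :=
        mem_normalizer_of_maps_finite fun y hy => hk y hy ▸ hfS y hy
      intro y hy
      rw [hk y hy]
      exact hiff k hkn y
    · by_contra hb
      exact hsite Φ Q (fun _ _ => Iff.rfl) ⟨⟨hQS, hQn, hQc⟩, hΦ, hIH, α, hα, hb⟩
  rcases Cfsg.Agent.S1169.result S A hA1 ⟨⟨fun a b => Subtype.ext (hAc a a.2 b b.2)⟩⟩ hscl with h | ⟨M, hM⟩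
  · exact H.sna h
  · exact no_embedded H.nab S H.sna H.card.le hM

end Hyp

end Cfsg.Lib.LenSeven
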