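import Cfsg.Agent.LenSeven.WreathedTable
import Cfsg.Agent.SemiCyclic.Count.Main
import Cfsg.Agent.Chars.Values

/-!
The order of a group with a centralizer of order 96 in the wreathed case.
-/

set_option autoImplicit false
set_option linter.style.haveILetI false
set_option linter.unusedSectionVars false

namespace Cfsg.Lib.LenSeven

open Subgroup Cfsg Cfsg.Lib.Chars Cfsg.Lib.SemiCyclic
open scoped ComplexConjugate

universe u

/-- The arithmetic of the count. -/
def orderCheck (a x : ℤ) : Bool :=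
  let N := x * x + (14 * a - 48) * x + a * a
  let n := 4608 * x * (x + 1)
  let g := n / N
  if N ≠ 0 ∧ n % N = 0 ∧ (a + x) % 2 = 0 ∧ x ≠ 0 ∧ x ≠ -1 ∧ x ≠ 1 ∧ x ≠ -2 ∧ g % 192 = 96 ∧
      1 + x * x + (x + 1) * (x + 1) ≤ g ∧ g % x = 0 ∧ g % (x + 1) = 0 then
    decide (g = 672 ∨ g = 1440 ∨ g = 3360 ∨ g = 6048 ∨ g = 9504 ∨ g = 27552) else true

set_option maxRecDepth 20000 in
theorem orderCheck_all : ∀ a : Fin 12, ∀ x : Fin 241, orderCheck ((a : ℕ) - 2) ((x : ℕ) - 120) = true := by
  decide +kernel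

theorem order_six {g : ℕ} {a x : ℤ} (ha : -2 ≤ a ∧ a ≤ 9) (hN : 4608 * x * (x + 1) = g * (x * x + (14 * a - 48) * x + a * a))
    (hp : (a + x) % 2 = 0) (h0 : x ≠ 0 ∧ x ≠ -1 ∧ x ≠ 1 ∧ x ≠ -2) (hg : g % 192 = 96)
    (hsq : 1 + x * x + (x + 1) * (x + 1) ≤ g) (hx : x ∣ g) (hx1 : (x + 1) ∣ g) :
    g = 672 ∨ g = 1440 ∨ g = 3360 ∨ g = 6048 ∨ g = 9504 ∨ g = 27552 := by
  set N := x * x + (14 * a - 48) * x + a * a with hNdef
  have hN0 : N ≠ 0 := fun h => by
    rw [h, mul_zero] at hN
    rcases mul_eq_zero.1 hN with h' | h'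
    · omega
    · omega
  obtain ⟨t, ht⟩ : x * (x + 1) ∣ (g : ℤ) :=
    (show IsCoprime x (x + 1) from ⟨-1, 1, by ring⟩).mul_dvd hx hx1
  have hN' : N ∣ 4608 := ⟨t, by
    have hxx : x * (x + 1) ≠ 0 := mul_ne_zero h0.1 (by omega)
    refine mul_left_cancel₀ hxx ?_
    rw [ht] at hN
    linear_combination hN⟩
  have hx120 : -120 ≤ x ∧ x ≤ 120 := by
    have h1 := Int.le_of_dvd (by norm_num) hN'
    rw [hNdef] at h1
    constructor <;> nlinarith [ha.1, ha.2]
  have h := orderCheck_all ⟨(a + 2).toNat, by omega⟩ ⟨(x + 120).toNat, by omega⟩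
  rw [show ((((⟨(a + 2).toNat, by omega⟩ : Fin 12) : ℕ) : ℤ) - 2) = a by simp; omega,
    show ((((⟨(x + 120).toNat, by omega⟩ : Fin 241) : ℕ) : ℤ) - 120) = x by simp; omega] at h
  have hq : 4608 * x * (x + 1) / N = g := by rw [hN, Int.mul_ediv_cancel _ hN0]
  have hr : 4608 * x * (x + 1) % N = 0 := by rw [hN]; exact Int.mul_emod_left _ _
  simp only [orderCheck, ← hNdef, hq] at h
  rw [if_pos ⟨hN0, hr, hp, h0.1, h0.2.1, h0.2.2.1, h0.2.2.2, by omega, hsq, Int.emod_eq_zero_of_dvd hx,
    Int.emod_eq_zero_of_dvd hx1⟩, decide_eq_true_eq] at h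
  omega

variable {G : Type u} [Group G] [Fintype G]

/-- The value at an involution is an integer. -/
theorem value_int {z : G} (hz : orderOf z = 2) (χ : IrrCharacter G) : ∃ v : ℤ, (χ : G → ℂ) z = v := by
  classical
  set W := Subgroup.zpowers z
  obtain ⟨m, hm⟩ := IsCharacter.exists_mult (IsCharacter.restrict (isCharacter_of_irr χ.2) W)
    (isIrrCharacter_one (G := W))
  have hne : (1 : W) ≠ ⟨z, mem_zpowers z⟩ := fun e => by
    have e' : z = 1 := (congrArg Subtype.val e).symm
    rw [e', orderOf_one] at hz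
    omega
  have hc : Nat.card W = 2 := by rw [Nat.card_zpowers, hz]
  have hu : (Finset.univ : Finset W) = {1, ⟨z, mem_zpowers z⟩} :=
    (Finset.eq_univ_of_card _ (by rw [Finset.card_pair hne, ← Nat.card_eq_fintype_card, hc])).symm
  rw [classInner_def, hc, hu, Finset.sum_pair hne] at hm
  simp only [OneMemClass.coe_one, map_one, mul_one] at hm
  rw [irr_apply_one_eq_deg] at hm
  refine ⟨2 * (m : ℤ) - deg (χ : G → ℂ), ?_⟩
  push_cast at hm ⊢
  linear_combination 2 * hm

/-- The pairs of involutions whose product is `y`. -/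
noncomputable def pairs (z y : G) : ℂ :=
  (Nat.card {p : G × G // IsConj z p.1 ∧ IsConj z p.2 ∧ p.1 * p.2 = y} : ℂ)

set_option maxHeartbeats 1000000 in
theorem orders_of_cdata {z : G} (hz : orderOf z = 2) (hperf : commutator G = ⊤)
    (hall : ∀ s : G, orderOf s = 2 → IsConj z s) (hC : Nat.card (cz z) = 96) (D : CData ↥(cz z) (zel z))
    (hmod : Nat.card G % 192 = 96) :
    Nat.card G = 672 ∨ Nat.card G = 1440 ∨ Nat.card G = 3360 ∨ Nat.card G = 6048 ∨ Nat.card G = 9504 ∨
      Nat.card G = 27552 := by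
  classical
  letI : Fintype (cz z) := Fintype.ofFinite _
  letI : Fintype D.B := Fintype.ofFinite _
  obtain ⟨w, hw⟩ := IsAlgClosed.exists_pow_nat_eq (-1 : ℂ) (n := 4) (by norm_num)
  set B' : Subgroup G := D.B.map (cz z).subtype with hB'
  set e : D.B ≃* B' := D.B.equivMapOfInjective _ (cz z).subtype_injective
  letI : Fintype B' := Fintype.ofFinite _
  have hB24 : Nat.card B' = 24 := (Nat.card_congr e.toEquiv).symm.trans D.card_B
  set ψ : B' → ℂ := fun b => D.psi w hw (e.symm b) with hψ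
  have hψe : ∀ b, ψ (e b) = D.psi w hw b := fun b => by rw [hψ]; simp only [MulEquiv.symm_apply_apply]
  have hgen : IsGeneralizedCharacter B' ψ :=
    ⟨fun _ => 1, fun b => (((D.theta w hw).comp e.symm.toMonoidHom b : ℂˣ) : ℂ), isCharacter_one,
      isCharacter_linear _, rfl⟩
  set Φ := Cfsg.indFun B' ψ with hΦ
  have hΦc : IsClassFunction G Φ := isClassFunction_indFun B' ψ
  have hcoe : ∀ b : D.B, ((e b : B') : G) = ((b : cz z) : G) := fun b => rfl
  have hext : ∀ y : cz z, Cfsg.extendByZero B' ψ (y : G) = Cfsg.extendByZero D.B (D.psi w hw) y := fun y => by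
    by_cases hy : y ∈ D.B
    · rw [extendByZero_mem _ hy, show (y : G) = ((e ⟨y, hy⟩ : B') : G) from rfl, extendByZero_apply, hψe]
    · rw [extendByZero_not_mem _ hy, extendByZero_not_mem]
      rintro ⟨v, hv, hvy⟩
      exact hy ((Subtype.ext hvy : v = y) ▸ hv)
  -- the values on `B`
  have hval : ∀ i k : ℕ, i < 3 → k < 8 → k ≠ 0 → Φ ((D.c ^ i * D.h ^ k : cz z) : G) = CData.val w i k := by
    intro i k hi hk hk0
    have hroot : zel z ∈ zpowers (D.c ^ i * D.h ^ k) := D.z_mem_zpowers (by omega)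
    set b : G := ((D.c ^ i * D.h ^ k : cz z) : G) with hb
    have hvan : ∀ x : G, x ∉ cz z → Cfsg.extendByZero B' ψ (x⁻¹ * b * x) = 0 := by
      intro x hx
      by_contra hne
      by_cases hmem : x⁻¹ * b * x ∈ B'
      · obtain ⟨v, hv, hvx⟩ := hmem
        obtain ⟨j, l, hj, hl, hjl⟩ := D.exists_el hv
        have hvx' : (v : G) = x⁻¹ * b * x := hvx
        by_cases hl0 : l = 0
        · apply hne
          rw [← hvx', hext, extendByZero_mem _ hv, CData.psi, D.theta_apply w hw (b := ⟨v, hv⟩) hjl, hl0, pow_zero,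
            sub_self]
        · have hx' := mem_cz_of_conj hz hroot (y' := v) (hjl ▸ D.z_mem_zpowers (by omega))
            (g := x⁻¹) (by rw [hvx', inv_inv])
          exact hx (inv_mem_iff.1 hx')
      · exact hne (extendByZero_not_mem _ hmem)
    have hsub : ∑ x : G, Cfsg.extendByZero B' ψ (x⁻¹ * b * x) =
        ∑ x : cz z, Cfsg.extendByZero B' ψ ((x : G)⁻¹ * b * (x : G)) := by
      rw [← Finset.sum_subset (Finset.subset_univ (Finset.univ.filter (· ∈ cz z)))
        fun x _ hx => hvan x fun h => hx (Finset.mem_filter.2 ⟨Finset.mem_univ _, h⟩)]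
      exact Finset.sum_subtype (F := inferInstance) (Finset.univ.filter (· ∈ cz z)) (fun x => by simp)
        (fun x => Cfsg.extendByZero B' ψ (x⁻¹ * b * x))
    rw [hΦ, indFun_apply, hB24, hsub,
      Finset.sum_congr rfl fun (x : cz z) _ => show Cfsg.extendByZero B' ψ ((x : G)⁻¹ * b * (x : G)) = _ from
        hext (x⁻¹ * (D.c ^ i * D.h ^ k) * x), D.sum_conj w hw hC hi]
    push_cast
    ring
  have hsumB : ∀ F : B' → ℂ, ∑ b, F b = ∑ i : Fin 3, ∑ k : Fin 8, F (e (D.el (i, k))) := fun F => by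
    rw [← Equiv.sum_comp ((Equiv.ofBijective _ D.el_bijective).trans e.toEquiv) F, Fintype.sum_prod_type]
    rfl
  have hψel : ∀ (i : Fin 3) (k : Fin 8), ψ (e (D.el (i, k))) = 1 - w ^ (k : ℕ) := fun i k => by
    rw [hψe, D.psi_el]
  have hw0 : w ≠ 0 := fun h => by rw [h] at hw; norm_num at hw
  have hw8 : w ^ 8 = 1 := by rw [show 8 = 4 * 2 by norm_num, pow_mul, hw]; norm_num
  have hcw : ∀ k ≤ 8, conj (w ^ k) = w ^ (8 - k) := fun k hk => by
    rw [← Complex.inv_eq_conj (by rw [norm_pow, Complex.norm_eq_one_of_pow_eq_one hw8 (by norm_num), one_pow])]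
    exact inv_eq_of_mul_eq_one_right (by rw [← pow_add, Nat.add_sub_cancel' hk, hw8])
  -- the inner products
  have hnorm : classInner Φ Φ = 3 := by
    rw [hΦ, frobenius_reciprocity B' ψ hΦc, classInner_def, hB24, hsumB]
    rw [Finset.sum_congr rfl fun (i : Fin 3) _ => Finset.sum_congr rfl fun (k : Fin 8) _ => show
      ψ (e (D.el (i, k))) * conj (Φ ((e (D.el (i, k)) : B') : G)) =
        if (k : ℕ) % 2 = 0 then (if (i : ℕ) = 0 then 4 else 1) * ((1 - w ^ (k : ℕ)) * (1 - w ^ (8 - (k : ℕ))))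
        else (1 - w ^ (k : ℕ)) * 2 by
      rw [hψel]
      by_cases hk : (k : ℕ) = 0
      · rw [hk]; simp
      · rw [hcoe, show ((D.el (i, k) : D.B) : cz z) = D.c ^ (i : ℕ) * D.h ^ (k : ℕ) from rfl,
          hval _ _ i.isLt k.isLt hk, CData.val]
        split_ifs <;>
          simp only [map_mul, map_sub, map_one, map_ofNat, hcw _ k.isLt.le] <;> ring]
    simp [Fin.sum_univ_succ]
    linear_combination (1 / 24 : ℂ) * (18 * w ^ 4 - 30 - 12 * w ^ 2 - 6 * w - 6 * w ^ 3) * hw
  have hone : classInner Φ (fun _ => 1) = 1 := by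
    rw [hΦ, frobenius_reciprocity B' ψ (fun _ _ => rfl), classInner_def, hB24, hsumB]
    simp only [hψel, map_one, mul_one]
    simp [Fin.sum_univ_succ]
    linear_combination (-(1 / 8) : ℂ) * (1 + w + w ^ 2 + w ^ 3) * hw
  have hΦ1 : Φ 1 = 0 := by
    rw [hΦ, indFun_one, show (1 : B') = e 1 from (map_one e).symm, hψe, CData.psi, map_one, Units.val_one, sub_self,
      mul_zero]
  have hΦz : Φ z = 8 := by
    have h := hval 0 4 (by norm_num) (by norm_num) (by norm_num)
    rw [show ((D.c ^ 0 * D.h ^ 4 : cz z) : G) = z by rw [pow_zero, one_mul, D.z_eq]] at h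
    rw [h, CData.val, if_pos rfl, if_pos rfl, hw]
    norm_num
  -- the coordinates
  choose m hm using fun χ : IrrCharacter G => IsGeneralizedCharacter.exists_mult
    (IsGeneralizedCharacter.indFun (H := B') hgen) χ.2
  rw [← hΦ] at hm
  have hexp : ∀ g, Φ g = ∑ χ, (m χ : ℂ) * (χ : G → ℂ) g := fun g => by
    rw [classFunction_expand_apply hΦc]
    exact Finset.sum_congr rfl fun χ _ => by rw [hm]
  set o := principal G
  have hmo : m o = 1 := by
    have h := hm o
    rw [show ((o : IrrCharacter G) : G → ℂ) = fun _ => 1 from rfl, hone] at h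
    exact_mod_cast h.symm
  have hm3 : ∑ χ, m χ * m χ = 3 := by
    have h : classInner Φ Φ = ∑ χ : IrrCharacter G, classInner Φ (χ : G → ℂ) * conj (classInner Φ (χ : G → ℂ)) := by
      refine (congrArg (classInner Φ) (classFunction_expand hΦc)).trans ?_
      rw [classInner_sum_right]
      exact Finset.sum_congr rfl fun χ _ => by rw [classInner_smul_right]; ring
    simp only [hnorm, hm, map_intCast] at h
    exact_mod_cast h.symm
  set R := (Finset.univ : Finset (IrrCharacter G)).erase o with hR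
  have hR2 : ∑ χ ∈ R, m χ * m χ = ((2 : ℕ) : ℤ) := by
    rw [hR, Finset.sum_erase_eq_sub (Finset.mem_univ o), hm3, hmo]
    norm_num
  obtain ⟨hu1, hu2⟩ := unit_support hR2 (by norm_num)
  obtain ⟨A, B, hAB, hsupp⟩ := Finset.card_eq_two.1 hu2
  have hA := Finset.mem_filter.1 (hsupp ▸ Finset.mem_insert_self A {B} : A ∈ R.filter fun χ => m χ ≠ 0)
  have hB := Finset.mem_filter.1 (hsupp ▸ Finset.mem_insert_of_mem (Finset.mem_singleton_self B) :
    B ∈ R.filter fun χ => m χ ≠ 0)
  have hAo := (Finset.mem_erase.1 hA.1).1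
  have hBo := (Finset.mem_erase.1 hB.1).1
  have hεA := hu1 A hA.1 hA.2
  have hεB := hu1 B hB.1 hB.2
  have hsum : ∀ φ : IrrCharacter G → ℂ, ∑ χ, (m χ : ℂ) * φ χ = φ o + (m A : ℂ) * φ A + (m B : ℂ) * φ B := by
    intro φ
    rw [← Finset.add_sum_erase _ _ (Finset.mem_univ o), hmo, Int.cast_one, one_mul, add_assoc]
    congr 1
    rw [← hR, ← Finset.sum_filter_of_ne (p := fun χ => m χ ≠ 0) (fun χ _ hne h => hne (by rw [h]; simp)),
      hsupp, Finset.sum_pair hAB]
  obtain ⟨va, hva⟩ := value_int hz A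
  obtain ⟨vb, hvb⟩ := value_int hz B
  have hoz : ∀ g : G, ((o : IrrCharacter G) : G → ℂ) g = 1 := fun g => rfl
  have h7 : m A * va + m B * vb = 7 := by
    have h := hexp z
    rw [hΦz, hsum (fun χ => (χ : G → ℂ) z), hoz, hva, hvb] at h
    have h' : ((8 : ℤ) : ℂ) = ((1 + m A * va + m B * vb : ℤ) : ℂ) := by push_cast; exact h
    have := Int.cast_injective h'
    omega
  set dA : ℤ := (deg (A : G → ℂ) : ℤ) with hdA
  set dB : ℤ := (deg (B : G → ℂ) : ℤ) with hdB
  have hdeg : 1 + m A * dA + m B * dB = 0 := by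
    have h := hexp 1
    rw [hΦ1, hsum (fun χ => (χ : G → ℂ) 1), hoz, irr_apply_one_eq_deg, irr_apply_one_eq_deg] at h
    have h' : ((1 + m A * dA + m B * dB : ℤ) : ℂ) = ((0 : ℤ) : ℂ) := by
      push_cast [hdA, hdB]; exact h.symm
    exact Int.cast_injective h'
  have horth : 1 + va * va + vb * vb ≤ 96 := by
    have h := second_orthogonality z z
    rw [if_pos (IsConj.refl z), show Nat.card (centralizer ({z} : Set G)) = 96 from hC] at h
    choose v hv using fun χ => value_int hz χ
    have h' : ∑ χ, v χ * v χ = (96 : ℤ) := by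
      apply Int.cast_injective (α := ℂ)
      push_cast
      rw [← show ((96 : ℕ) : ℂ) = 96 by norm_num, ← h]
      exact Finset.sum_congr rfl fun χ _ => by rw [hv, map_intCast]
    have hvA : v A = va := Int.cast_injective ((hv A).symm.trans hva)
    have hvB : v B = vb := Int.cast_injective ((hv B).symm.trans hvb)
    have hvo : v o = 1 := Int.cast_injective (α := ℂ) ((hv o).symm.trans ((hoz z).trans Int.cast_one.symm))
    rw [← h']
    refine le_trans (le_of_eq ?_) (Finset.sum_le_sum_of_subset_of_nonneg (Finset.subset_univ {o, A, B})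
      fun χ _ _ => mul_self_nonneg _)
    rw [Finset.sum_insert (by simp [hAo.symm, hBo.symm]), Finset.sum_pair hAB, hvA, hvB, hvo]
    ring
  have hsq : 1 + dA * dA + dB * dB ≤ (Nat.card G : ℤ) := by
    rw [← sum_deg_sq_nat (G := G)]
    push_cast
    refine le_trans (le_of_eq ?_) (Finset.sum_le_sum_of_subset_of_nonneg (Finset.subset_univ {o, A, B})
      fun χ _ _ => sq_nonneg _)
    have hdo : deg (o : G → ℂ) = 1 := by
      have h : ((deg (o : G → ℂ) : ℕ) : ℂ) = 1 := (irr_apply_one_eq_deg o).symm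
      exact_mod_cast h
    rw [Finset.sum_insert (by simp [hAo.symm, hBo.symm]), Finset.sum_pair hAB, hdo]
    push_cast
    ring
  -- the count of pairs
  have hcl : Nat.card {x : G // IsConj z x} * 96 = Nat.card G := hC ▸ card_isConj_mul z
  have hpair : ∀ b : B', ψ b * pairs z (b : G) = if (b : G) = z then 12 else 0 := by
    intro b
    obtain ⟨⟨y, hy⟩, rfl⟩ := e.surjective b
    obtain ⟨i, k, hi, hk, rfl⟩ := D.exists_el hy
    have hval' : ψ (e ⟨_, hy⟩) = 1 - w ^ k := by
      rw [hψe, CData.psi, D.theta_apply w hw (b := ⟨_, hy⟩) rfl]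
    rw [hval']
    show _ * pairs z ((D.c ^ i * D.h ^ k : cz z) : G) = _
    rw [hcoe]
    by_cases hk0 : k = 0
    · subst hk0
      rw [pow_zero, sub_self, zero_mul, if_neg]
      intro he
      have he' : D.c ^ i * D.h ^ 0 = zel z := Subtype.ext he
      have := (D.el_inj (j := 0) (l := 4) (he'.trans (by rw [pow_zero D.c, one_mul, D.z_eq]))).2
      omega
    have hroot : zel z ∈ zpowers (D.c ^ i * D.h ^ k) := D.z_mem_zpowers (by omega)
    have hmem : ∀ {s t : G}, IsConj z s → IsConj z t → s * t = ((D.c ^ i * D.h ^ k : cz z) : G) →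
        orderOf s = 2 ∧ s * ((D.c ^ i * D.h ^ k : cz z) : G) * s⁻¹ = ((D.c ^ i * D.h ^ k : cz z) : G)⁻¹ ∧ s ∈ cz z := by
      intro s t hs ht hst
      have hord : ∀ {s : G}, IsConj z s → orderOf s = 2 := fun {s} h => by
        obtain ⟨g, rfl⟩ := isConj_iff.1 h
        rw [← MulAut.conj_apply, MulEquiv.orderOf_eq, hz]
      have hinv : ∀ {s : G}, orderOf s = 2 → s⁻¹ = s := fun {s} h =>
        inv_eq_of_mul_eq_one_right (by rw [← pow_two, ← h, pow_orderOf_eq_one])
      have hconj : s * ((D.c ^ i * D.h ^ k : cz z) : G) * s⁻¹ = ((D.c ^ i * D.h ^ k : cz z) : G)⁻¹ := by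
        rw [← hst, mul_inv_rev, hinv (hord ht), hinv (hord hs),
          show s * (s * t) * s = s * s * (t * s) by group,
          show s * s = 1 by rw [← pow_two, ← hord hs, pow_orderOf_eq_one], one_mul]
      refine ⟨hord hs, hconj, mem_cz_of_conj hz hroot (y' := (D.c ^ i * D.h ^ k)⁻¹) (by rwa [zpowers_inv]) ?_⟩
      rw [Subgroup.coe_inv]
      exact hconj
    by_cases hzk : i = 0 ∧ k = 4
    · obtain ⟨rfl, rfl⟩ := hzk
      have he : ((D.c ^ 0 * D.h ^ 4 : cz z) : G) = z := by rw [pow_zero, one_mul, D.z_eq]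
      rw [if_pos he, hw, he, pairs]
      have h6 : Nat.card {p : G × G // IsConj z p.1 ∧ IsConj z p.2 ∧ p.1 * p.2 = z} = 6 := by
        have h7' : (Finset.univ.filter fun a : cz z => orderOf a = 2).card = 7 := by
          rw [← Fintype.card_subtype, ← Nat.card_eq_fintype_card, D.invols]
        rw [show (6 : ℕ) = ((Finset.univ.filter fun a : cz z => orderOf a = 2).erase (zel z)).card by
          rw [Finset.card_erase_of_mem (by simp [orderOf_zel hz]), h7'], ← Fintype.card_coe,
          ← Nat.card_eq_fintype_card]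
        refine Nat.card_congr
          { toFun := fun p => ⟨⟨p.1.1, (hmem p.2.1 p.2.2.1 (p.2.2.2.trans he.symm)).2.2⟩, Finset.mem_erase.2 ⟨?_, ?_⟩⟩
            invFun := fun a => ⟨(((a.1 : cz z) : G), ((a.1 : cz z) : G)⁻¹ * z), ?_⟩
            left_inv := fun p => Subtype.ext (Prod.ext rfl (by
              show (p.1.1)⁻¹ * z = p.1.2
              rw [inv_mul_eq_iff_eq_mul]
              exact p.2.2.2.symm))
            right_inv := fun a => Subtype.ext rfl }
        · intro h
          have h1 : p.1.1 = z := congrArg Subtype.val h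
          have h2 := p.2.2.2
          rw [h1, mul_eq_left] at h2
          have := p.2.2.1
          rw [h2, isConj_one_left] at this
          rw [this, orderOf_one] at hz
          omega
        · refine Finset.mem_filter.2 ⟨Finset.mem_univ _, ?_⟩
          rw [← Subgroup.orderOf_coe]
          exact (hmem p.2.1 p.2.2.1 (p.2.2.2.trans he.symm)).1
        · obtain ⟨hne, ha⟩ := Finset.mem_erase.1 a.2
          have ha' : orderOf ((a.1 : cz z) : G) = 2 := by rw [Subgroup.orderOf_coe]; exact (Finset.mem_filter.1 ha).2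
          refine ⟨hall _ ha', hall _ ?_, mul_inv_cancel_left _ _⟩
          refine orderOf_eq_prime ?_ fun h => hne (Subtype.ext (inv_mul_eq_one.1 h))
          rw [(commute_cz a.1).inv_left.mul_pow, inv_pow,
            orderOf_dvd_iff_pow_eq_one.1 (dvd_of_eq ha'), orderOf_dvd_iff_pow_eq_one.1 (dvd_of_eq hz), inv_one,
            one_mul]
      rw [h6]
      norm_num
    · have hne : ((D.c ^ i * D.h ^ k : cz z) : G) ≠ z := fun he => by
        have he' : D.c ^ i * D.h ^ k = zel z := Subtype.ext he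
        obtain ⟨h1, h2⟩ := D.el_inj (j := 0) (l := 4) (he'.trans (by rw [pow_zero, one_mul, D.z_eq]))
        exact hzk ⟨by omega, by omega⟩
      rw [if_neg hne, pairs]
      haveI : IsEmpty {p : G × G // IsConj z p.1 ∧ IsConj z p.2 ∧ p.1 * p.2 = ((D.c ^ i * D.h ^ k : cz z) : G)} :=
        ⟨fun p => by
          obtain ⟨h1, h2, h3⟩ := hmem p.2.1 p.2.2.1 p.2.2.2
          exact D.not_inverted hi hk hk0 hzk (s := ⟨_, h3⟩) ((Subgroup.orderOf_mk _ _).trans h1) (Subtype.ext h2)⟩
      rw [Nat.card_of_isEmpty, Nat.cast_zero, mul_zero]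
  have hT : (Nat.card {x : G // IsConj z x} : ℂ) ^ 2 *
      ∑ χ, (m χ : ℂ) * ((χ : G → ℂ) z ^ 2 / (χ : G → ℂ) 1) = (Nat.card G : ℂ) / 2 := by
    have h12 : ∑ b : B', ψ b * pairs z (b : G) = 12 := by
      have hzB : z ∈ B' := ⟨zel z, (congrArg (· ∈ D.B) D.z_eq).mp (pow_mem D.h_mem 4), rfl⟩
      rw [Finset.sum_congr rfl fun b _ => hpair b, Finset.sum_eq_single (⟨z, hzB⟩ : B'), if_pos rfl]
      · intro b _ hb
        rw [if_neg fun h => hb (Subtype.ext h)]
      · simp
    simp only [pairs, class_mult_formula] at h12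
    have hmχ : ∀ χ : IrrCharacter G, (m χ : ℂ) = (24 : ℂ)⁻¹ * ∑ b : B', ψ b * conj ((χ : G → ℂ) (b : G)) := fun χ => by
      rw [← hm, hΦ, frobenius_reciprocity B' ψ (isClassFunction_irr χ), classInner_def, hB24]
      norm_num
    simp only [hmχ]
    have hG0 : (Nat.card G : ℂ) ≠ 0 := by exact_mod_cast Nat.card_pos.ne'
    rw [show (Nat.card G : ℂ) / 2 = (24 : ℂ)⁻¹ * (Nat.card G : ℂ) * 12 by ring, ← h12]
    simp only [Finset.mul_sum, Finset.sum_mul]
    rw [Finset.sum_comm]
    refine Finset.sum_congr rfl fun b _ => Finset.sum_congr rfl fun χ _ => ?_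
    field_simp
  rw [hsum, hoz, hoz, hva, hvb, irr_apply_one_eq_deg, irr_apply_one_eq_deg] at hT
  set a := m A * va
  set x := m A * dA with hxdef
  set g := Nat.card G
  have hdA0 : 0 < dA := by rw [hdA]; exact_mod_cast deg_irr_pos A
  have hdB0 : 0 < dB := by rw [hdB]; exact_mod_cast deg_irr_pos B
  have hsA := mul_self_eq_one_iff.1 hεA
  have hsB := mul_self_eq_one_iff.1 hεB
  have hdA1 : dA ≠ 1 := fun h => deg_ne_one hperf hAo (by rw [hdA] at h; exact_mod_cast h)
  have hdB1 : dB ≠ 1 := fun h => deg_ne_one hperf hBo (by rw [hdB] at h; exact_mod_cast h)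
  have hkey : (g : ℤ) * (x * x + (14 * a - 48) * x + a * a) = 4608 * x * (x + 1) := by
    have hcl' : (Nat.card {x : G // IsConj z x} : ℂ) = (g : ℂ) / 96 := by
      rw [eq_div_iff (by norm_num)]
      exact_mod_cast hcl
    rw [hcl'] at hT
    have hdAc : (deg (A : G → ℂ) : ℂ) ≠ 0 := by exact_mod_cast (deg_irr_pos A).ne'
    have hdBc : (deg (B : G → ℂ) : ℂ) ≠ 0 := by exact_mod_cast (deg_irr_pos B).ne'
    have hg0 : (g : ℂ) ≠ 0 := by exact_mod_cast Nat.card_pos.ne'
    field_simp at hT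
    have hT0 : (g : ℤ) * (dA * dB + m A * (va * va) * dB + m B * (vb * vb) * dA) = 4608 * (dA * dB) := by
      apply Int.cast_injective (α := ℂ)
      simp only [hdA, hdB]
      push_cast
      linear_combination (1 / 2 : ℂ) * hT
    have hr : m B * dB = -1 - x := by linarith
    have hb : m B * vb = 7 - a := by linarith
    have h : (g : ℤ) * (x * (-1 - x) + a * a * (-1 - x) + (7 - a) * (7 - a) * x) = 4608 * (x * (-1 - x)) := by
      rw [← hr, ← hb, hxdef, show a = m A * va from rfl]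
      linear_combination (m A * m B) * hT0
    linear_combination -h
  refine order_six (a := a) (x := x) ?_ hkey.symm ?_ ?_ hmod ?_ ?_ ?_
  · have h1 : a * a = va * va := by linear_combination (va * va) * hεA
    have h2 : (7 - a) * (7 - a) = vb * vb := by
      rw [show 7 - a = m B * vb by linarith]
      linear_combination (vb * vb) * hεB
    constructor <;> nlinarith
  · obtain ⟨t, ht⟩ := value_parity hz A hva
    rw [show a + x = m A * ((deg (A : G → ℂ) : ℤ) + va) by rw [hxdef, hdA]; ring, ht]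
    rcases hsA with h | h <;> rw [h] <;> omega
  · have hx' : x = dA ∨ x = -dA := by
      rcases hsA with h | h <;> [left; right] <;> rw [hxdef, h] <;> ring
    have hr' : m B * dB = dB ∨ m B * dB = -dB := by
      rcases hsB with h | h <;> [left; right] <;> rw [h] <;> ring
    omega
  · rw [show x * x = dA * dA by rw [hxdef]; linear_combination (dA * dA) * hεA,
      show (x + 1) * (x + 1) = dB * dB by
        rw [show x + 1 = -(m B * dB) by linarith]; linear_combination (dB * dB) * hεB]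
    exact hsq
  · rw [hxdef]
    have hd : dA ∣ (g : ℤ) := by rw [hdA]; exact_mod_cast IsIrrCharacter.deg_dvd A.2
    rcases hsA with h | h <;> simpa [h] using hd
  · rw [show x + 1 = -(m B * dB) by linarith, neg_dvd]
    have hd : dB ∣ (g : ℤ) := by rw [hdB]; exact_mod_cast IsIrrCharacter.deg_dvd B.2
    rcases hsB with h | h <;> simpa [h] using hd

end Cfsg.Lib.LenSeven
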