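import Cfsg.Agent.LenSeven.WreathedTop
import Cfsg.Agent.LenSeven.WreathedChar
import Cfsg.Agent.Recognition.USixtyFortyEight.Main
import Cfsg.Agent.S0496
import Cfsg.Agent.S0904

/-!
The wreathed case: the group is `PSU(3, 3)`.
-/

set_option autoImplicit false
set_option linter.style.haveILetI false
set_option linter.unusedSectionVars false

namespace Cfsg.Lib.LenSeven

open Subgroup Cfsg.Lib.SemiCyclic

universe u

variable {G : Type u} [Group G] [Finite G]

/-- The normaliser of a Sylow subgroup of prime order. -/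
theorem sylow_prime_count {p : ℕ} [hp : Fact p.Prime] (P : Sylow p G) (hP : Nat.card (P : Subgroup G) = p) :
    ∃ n d : ℕ, n % p = 1 ∧ d ∣ p - 1 ∧
      n * d * Nat.card (centralizer ((P : Subgroup G) : Set G)) = Nat.card G := by
  set N := normalizer ((P : Subgroup G) : Set G) with hN
  set C := centralizer ((P : Subgroup G) : Set G) with hC
  have hd : C.relIndex N ∣ p - 1 := by
    haveI : IsCyclic (P : Subgroup G) := isCyclic_of_prime_card hP
    have h := card_dvd_of_injective _ (QuotientGroup.kerLift_injective (P : Subgroup G).normalizerMonoidHom)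
    rwa [normalizerMonoidHom_ker, ← index, ← relIndex, IsCyclic.card_mulAut, hP, Nat.totient_prime hp.out] at h
  refine ⟨Nat.card (Sylow p G), C.relIndex N, ?_, hd, ?_⟩
  · have h := card_sylow_modEq_one p G
    rw [Nat.ModEq, Nat.one_mod_eq_one.2 hp.out.ne_one] at h
    exact h
  · have h1 := N.card_mul_index
    have h2 := (C.subgroupOf N).card_mul_index
    rw [Nat.card_congr (subgroupOfEquivOfLe (centralizer_le_normalizer _)).toEquiv] at h2
    rw [P.card_eq_index_normalizer, ← h1, ← h2]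
    show N.index * C.relIndex N * Nat.card C = _
    simp only [relIndex]
    ring

/-- An involution does not commute with an element of prime order prime to the centralizer. -/
theorem odd_centralizer {z : G} (hall : ∀ s : G, orderOf s = 2 → IsConj z s)
    (hC : Nat.card (cz z) = 96) {p : ℕ} [hp : Fact p.Prime] (hp96 : ¬ p ∣ 96) {g : G} (hg : orderOf g = p) :
    ¬ 2 ∣ Nat.card (centralizer ({g} : Set G)) := by
  intro h2
  haveI : Fact (Nat.Prime 2) := ⟨Nat.prime_two⟩
  obtain ⟨⟨s, hs⟩, hso⟩ := exists_prime_orderOf_dvd_card' 2 h2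
  rw [Subgroup.orderOf_mk] at hso
  obtain ⟨x, hx⟩ := isConj_iff.1 (hall s hso)
  have hgs : g * s = s * g := (mem_centralizer_singleton_iff.1 hs).symm
  have hmem : x⁻¹ * g * x ∈ cz z := mem_centralizer_singleton_iff.2 (by
    rw [show z = x⁻¹ * s * x by rw [← hx]; group]
    calc x⁻¹ * g * x * (x⁻¹ * s * x) = x⁻¹ * (g * s) * x := by group
      _ = x⁻¹ * (s * g) * x := by rw [hgs]
      _ = _ := by group)
  have h := (cz z).orderOf_dvd_natCard hmem
  rw [hC, show x⁻¹ * g * x = MulAut.conj x⁻¹ g by simp, MulEquiv.orderOf_eq, hg] at h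
  exact hp96 h

theorem odd_sylow_centralizer {z : G} (hall : ∀ s : G, orderOf s = 2 → IsConj z s)
    (hC : Nat.card (cz z) = 96) {p : ℕ} [hp : Fact p.Prime] (hp96 : ¬ p ∣ 96) (P : Sylow p G)
    (hP : Nat.card (P : Subgroup G) = p) :
    ¬ 2 ∣ Nat.card (centralizer ((P : Subgroup G) : Set G)) := by
  obtain ⟨⟨g, hg⟩, hgo⟩ := exists_prime_orderOf_dvd_card' (G := (P : Subgroup G)) p (dvd_of_eq hP.symm)
  rw [Subgroup.orderOf_mk] at hgo
  intro h
  exact odd_centralizer hall hC hp96 hgo (h.trans (card_dvd_of_le (centralizer_le (Set.singleton_subset_iff.2 hg))))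

theorem sylow_card_prime {p : ℕ} [hp : Fact p.Prime] (P : Sylow p G) {m : ℕ} (hm : Nat.card G = p * m)
    (hpm : ¬ p ∣ m) : Nat.card (P : Subgroup G) = p := by
  rw [P.card_eq_multiplicity, hm, Nat.factorization_mul hp.out.ne_zero (fun e => hpm (by rw [e]; exact dvd_zero p)),
    Finsupp.add_apply, hp.out.factorization_self, Nat.factorization_eq_zero_of_not_dvd hpm, pow_one]

section simple

variable [IsSimpleGroup G]

theorem kill_self_centralizing {p : ℕ} [hp : Fact p.Prime] {m a b : ℕ} (hm : Nat.card G = p * m)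
    (hpm : ¬ p ∣ m) (hcard : Nat.card G = 2 ^ a * 3 ^ b * p) (hp2 : p ≠ 2) (hp3 : p ≠ 3)
    (hno : ∀ d ∈ (p - 1).divisors, m % d ≠ 0 ∨ (m / d) % p ≠ 1) : False := by
  obtain ⟨P⟩ : Nonempty (Sylow p G) := inferInstance
  have hP := sylow_card_prime P hm hpm
  obtain ⟨n, d, hn, hd, h⟩ := sylow_prime_count P hP
  have e : centralizer ((P : Subgroup G) : Set G) = (P : Subgroup G) :=
    Cfsg.Agent.S0904.result 2 3 p a b Nat.prime_two Nat.prime_three (by norm_num) hp2.symm hp3.symm hcard P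
  rw [e, hP, hm, mul_comm p m] at h
  have h' := Nat.eq_of_mul_eq_mul_right hp.out.pos h
  have hd0 : 0 < d := Nat.pos_of_dvd_of_pos hd (by have := hp.out.two_le; omega)
  rcases hno d (Nat.mem_divisors.2 ⟨hd, by have := hp.out.two_le; omega⟩) with e | e
  · exact e (by rw [← h', Nat.mul_mod_left])
  · exact e (by rw [← h', Nat.mul_div_cancel _ hd0, hn])

theorem kill_odd_centralizer {z : G} (hall : ∀ s : G, orderOf s = 2 → IsConj z s) (hC : Nat.card (cz z) = 96)
    {p : ℕ} [hp : Fact p.Prime] (hp96 : ¬ p ∣ 96) {m : ℕ} (hm : Nat.card G = p * m) (hpm : ¬ p ∣ m)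
    (h32 : 32 ∣ m) (hno : ∀ n ∈ m.divisors, n % p = 1 → ¬ 32 ∣ n * (p - 1)) : False := by
  obtain ⟨P⟩ : Nonempty (Sylow p G) := inferInstance
  have hP := sylow_card_prime P hm hpm
  obtain ⟨n, d, hn, hd, h⟩ := sylow_prime_count P hP
  have hodd := odd_sylow_centralizer hall hC hp96 P hP
  rw [hm] at h
  have hnm : n ∣ m := by
    have hcop : Nat.Coprime n p := (Nat.Prime.coprime_iff_not_dvd hp.out).2 (fun hd' => by
      rw [Nat.mod_eq_zero_of_dvd hd'] at hn
      omega) |>.symm
    exact hcop.dvd_of_dvd_mul_left ⟨d * Nat.card (centralizer ((P : Subgroup G) : Set G)), by rw [← h, mul_assoc]⟩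
  have hm0 : m ≠ 0 := fun e => hpm (e ▸ dvd_zero p)
  refine hno n (Nat.mem_divisors.2 ⟨hnm, hm0⟩) hn ?_
  have h32' : 32 ∣ n * d * Nat.card (centralizer ((P : Subgroup G) : Set G)) := h ▸ h32.mul_left p
  refine ((Nat.Coprime.pow_left 5 (Nat.prime_two.coprime_iff_not_dvd.2 hodd)).dvd_of_dvd_mul_right h32').trans ?_
  exact Nat.mul_dvd_mul_left n hd

theorem order_6048 (hna : ¬ IsMulCommutative G) {z : G} (hz : orderOf z = 2)
    (hall : ∀ s : G, orderOf s = 2 → IsConj z s) (hC : Nat.card (cz z) = 96)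
    (D : CData ↥(cz z) (zel z)) (hG : Nat.card G = 6048) : Cfsg.Lib.UThreeOrder.Hyp G := by
  haveI : Fact (Nat.Prime 2) := ⟨Nat.prime_two⟩
  haveI : Fact (Nat.Prime 3) := ⟨Nat.prime_three⟩
  haveI : Fact (Nat.Prime 7) := ⟨by norm_num⟩
  have h7 : ∀ g : G, orderOf g = 7 → ¬ 2 ∣ Nat.card (centralizer ({g} : Set G)) := fun g =>
    odd_centralizer hall hC (by norm_num)
  have h21 : ∀ g : G, orderOf g ≠ 21 := by
    intro g hg
    have hu : orderOf (g ^ 3) = 7 := by rw [orderOf_pow, hg]; rfl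
    obtain ⟨Q, hQ⟩ := (IsPGroup.of_card (n := 1) (by rw [Nat.card_zpowers, hu, pow_one]) :
      IsPGroup 7 (zpowers (g ^ 3))).exists_le_sylow
    have hQc := sylow_card_prime Q (m := 864) (by rw [hG]) (by norm_num)
    have he : zpowers (g ^ 3) = (Q : Subgroup G) :=
      Subgroup.eq_of_le_of_card_ge hQ (by rw [hQc, Nat.card_zpowers, hu])
    have hmem : g ∈ centralizer ((Q : Subgroup G) : Set G) := mem_centralizer_iff.2 fun v hv => by
      obtain ⟨j, rfl⟩ := mem_zpowers_iff.1 (he.symm ▸ hv : v ∈ zpowers (g ^ 3))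
      exact (((Commute.refl g).pow_left 3).zpow_left j).eq
    have e : centralizer ((Q : Subgroup G) : Set G) = (Q : Subgroup G) :=
      Cfsg.Agent.S0904.result 2 3 7 5 3 Nat.prime_two Nat.prime_three (by norm_num) (by norm_num) (by norm_num)
        (by rw [hG]; norm_num) Q
    rw [e] at hmem
    have := (Q : Subgroup G).orderOf_dvd_natCard hmem
    rw [hQc, hg] at this
    norm_num at this
  refine ⟨inferInstance, hG, fun g => ⟨?_, fun hg => ?_, h21 g⟩⟩
  swap
  · refine h7 (g ^ 2) (by rw [orderOf_pow, hg]; rfl) ?_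
    have hm : g ^ 7 ∈ centralizer ({g ^ 2} : Set G) :=
      mem_centralizer_singleton_iff.2 ((Commute.refl g).pow_pow 7 2).eq
    have := (centralizer ({g ^ 2} : Set G)).orderOf_dvd_natCard hm
    rwa [orderOf_pow, hg, show 14 / Nat.gcd 14 7 = 2 from rfl] at this
  -- no elements of order 9
  set c : G := ((D.c : cz z) : G) with hc
  set w : G := (((D.h * D.h : cz z)) : G) with hw
  have hco : orderOf c = 3 := by rw [hc, Subgroup.orderOf_coe, D.ord_c]
  set M := centralizer ({c} : Set G) with hM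
  have hcM : c ∈ M := mem_centralizer_singleton_iff.2 rfl
  have hwM : w ∈ M := mem_centralizer_singleton_iff.2 (by
    rw [hw, hc, ← Subgroup.coe_mul, ← Subgroup.coe_mul, mem_center_iff.1 D.sq_center D.c])
  have hwo : orderOf w = 4 := by
    rw [hw, Subgroup.orderOf_coe, ← pow_two, orderOf_pow, D.ord_h]; rfl
  have hww : w ^ 2 = z := by
    rw [hw, ← SubmonoidClass.coe_pow, ← pow_two, ← pow_mul, D.z_eq]
  -- the elements of `M` in the centralizer of `z`
  have hMC : ∀ v ∈ M, v * z = z * v → ∃ i k : ℕ, i < 3 ∧ k % 2 = 0 ∧ k < 8 ∧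
      ((D.c ^ i * D.h ^ k : cz z) : G) = v := by
    intro v hv hvz
    set v' : cz z := ⟨v, mem_centralizer_singleton_iff.2 hvz⟩
    have hvc : v' * D.c * v'⁻¹ = D.c := by
      rw [mul_inv_eq_iff_eq_mul]
      exact Subtype.ext (mem_centralizer_singleton_iff.1 hv)
    obtain ⟨i, k, hi, hk, e⟩ := D.exists_el (D.conj_c v' (by rw [hvc]; exact D.c_mem))
    refine ⟨i, k, hi, ?_, hk, congrArg Subtype.val e⟩
    by_contra hodd
    rw [← e, show D.c ^ i * D.h ^ k * D.c * (D.c ^ i * D.h ^ k)⁻¹ =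
      D.c ^ i * (D.h ^ k * D.c ^ (1 : ℤ) * (D.h ^ k)⁻¹) * (D.c ^ i)⁻¹ by group, D.conj_pow,
      Odd.neg_one_pow ⟨k / 2, by omega⟩, neg_one_mul, zpow_neg_one,
      show D.c ^ i * D.c⁻¹ * (D.c ^ i)⁻¹ = D.c⁻¹ by group, inv_eq_iff_mul_eq_one, ← pow_two,
      ← orderOf_dvd_iff_pow_eq_one, D.ord_c] at hvc
    norm_num at hvc
  -- the order of `M`
  have hM7 : ¬ 7 ∣ Nat.card M := by
    intro h
    obtain ⟨⟨v, hv⟩, hvo⟩ := exists_prime_orderOf_dvd_card' 7 h
    rw [Subgroup.orderOf_mk] at hvo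
    refine h21 (c * v) ?_
    rw [Commute.orderOf_mul_eq_mul_orderOf_of_coprime (mem_centralizer_singleton_iff.1 hv).symm
      (by rw [hco, hvo]; norm_num), hco, hvo]
  -- a Sylow two-subgroup of `M` is cyclic
  set wM : M := ⟨w, hwM⟩
  have hwMo : orderOf wM = 4 := (Subgroup.orderOf_mk _ _).trans hwo
  obtain ⟨T, hT⟩ := (IsPGroup.of_card (n := 2) (by rw [Nat.card_zpowers, hwMo]; norm_num) :
    IsPGroup 2 (zpowers wM)).exists_le_sylow
  have hTe : (T : Subgroup M) = zpowers wM := by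
    haveI : Group.IsNilpotent (T : Subgroup M) := T.2.isNilpotent
    by_contra hne
    have hlt : zpowers wM < (T : Subgroup M) := lt_of_le_of_ne hT (Ne.symm hne)
    have hlt' : (zpowers wM).subgroupOf (T : Subgroup M) < ⊤ := lt_top_iff_ne_top.2 fun e =>
      hne (le_antisymm (subgroupOf_eq_top.1 e) hT)
    obtain ⟨⟨v, hvT⟩, hvN, hvn⟩ := SetLike.exists_of_lt (normalizerCondition_of_isNilpotent _ hlt')
    have hz2 : (wM ^ 2 : M) ∈ zpowers wM := Subgroup.npow_mem_zpowers _ _
    have hvz : v * wM ^ 2 * v⁻¹ = wM ^ 2 := by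
      have hmem : v * wM ^ 2 * v⁻¹ ∈ zpowers wM :=
        mem_subgroupOf.1 ((mem_normalizer_iff.1 hvN ⟨wM ^ 2, hT hz2⟩).1 (mem_subgroupOf.2 hz2))
      have ho : orderOf (wM ^ 2) = 2 := by rw [orderOf_pow, hwMo]; rfl
      exact involution_zpowers_unique hmem hz2 (by rw [← MulAut.conj_apply, MulEquiv.orderOf_eq, ho]) ho
    have hvG : (v : G) * z = z * (v : G) := by
      rw [mul_inv_eq_iff_eq_mul] at hvz
      have := congrArg (fun a : M => (a : G)) hvz
      simp only [Subgroup.coe_mul, SubmonoidClass.coe_pow] at this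
      rwa [show (wM : G) = w from rfl, hww] at this
    obtain ⟨i, k, hi, hk, hk8, e⟩ := hMC v v.2 hvG
    obtain ⟨j, rfl⟩ : ∃ j, k = 2 * j := ⟨k / 2, by omega⟩
    have hi0 : i = 0 := by
      obtain ⟨r, hr⟩ := T.2 ⟨v, hvT⟩
      have h1 : (v : G) ^ 2 ^ r = 1 := congrArg (fun a : (T : Subgroup M) => ((a : M) : G)) hr
      rw [← e, ← SubmonoidClass.coe_pow, OneMemClass.coe_eq_one,
        (show Commute (D.c ^ i) (D.h ^ (2 * j)) from mem_center_iff.1 (D.even_center (by omega)) _).mul_pow,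
        ← pow_mul, ← pow_mul] at h1
      have h2 := (D.el_inj (j := 0) (l := 0) (h1.trans (by simp))).1
      have h3 : 3 ∣ i * 2 ^ r := Nat.dvd_of_mod_eq_zero (by omega)
      rcases (Nat.prime_three.dvd_mul).1 h3 with h | h
      · omega
      · have := Nat.prime_three.dvd_of_dvd_pow h
        omega
    subst hi0
    refine hvn (mem_subgroupOf.2 (mem_zpowers_iff.2 ⟨(j : ℤ), Subtype.ext ?_⟩))
    show ((wM ^ (j : ℤ) : M) : G) = (v : G)
    rw [← e, zpow_natCast, SubmonoidClass.coe_pow, show (wM : G) = w from rfl, hw, ← SubmonoidClass.coe_pow,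
      pow_zero, one_mul, pow_mul, pow_two]
  have hTc : Nat.card (T : Subgroup M) = 4 := by rw [hTe, Nat.card_zpowers, hwMo]
  haveI hTcyc : IsCyclic (T : Subgroup M) := by rw [hTe]; infer_instance
  have hMeven : 2 ∣ Nat.card M :=
    (show 2 ∣ 4 by norm_num).trans (hTc ▸ card_subgroup_dvd_card _)
  have hmin : (Nat.card M).minFac = 2 := (Nat.minFac_eq_two_iff _).2 hMeven
  set O := (MonoidHom.transferSylow T (hTcyc.normalizer_le_centralizer hmin)).ker with hO
  have hOT : O.IsComplement' (T : Subgroup M) := IsCyclic.isComplement' hmin hTcyc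
  have hO2 : ¬ 2 ∣ Nat.card O := MonoidHom.not_dvd_card_ker_transferSylow T _
  have hOd : Nat.card O ∣ 27 := by
    have h1 : Nat.card O ∣ 6048 := hG ▸ (card_subgroup_dvd_card O).trans (card_subgroup_dvd_card M)
    have h7O : ¬ 7 ∣ Nat.card O := fun h => hM7 (h.trans (card_subgroup_dvd_card O))
    rw [show (6048 : ℕ) = 2 ^ 5 * (7 * 27) by norm_num] at h1
    exact ((Nat.prime_seven.coprime_iff_not_dvd.2 h7O).symm.dvd_of_dvd_mul_left
      ((Nat.prime_two.coprime_iff_not_dvd.2 hO2).pow_left 5 |>.symm.dvd_of_dvd_mul_left h1))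
  have hMc : Nat.card O * 4 = Nat.card M := hTc ▸ hOT.card_mul
  -- nine divides the order of `M`
  have h9 : 9 ∣ Nat.card M := by
    obtain ⟨P, hP⟩ := (IsPGroup.of_card (n := 1) (by rw [Nat.card_zpowers, hco, pow_one]) :
      IsPGroup 3 (zpowers c)).exists_le_sylow
    have hPc : Nat.card (P : Subgroup G) = 27 := by
      rw [P.card_eq_multiplicity, hG, Nat.factorization_def _ Nat.prime_three,
        show (6048 : ℕ) = 3 ^ 3 * 224 by norm_num, padicValNat.mul (by norm_num) (by norm_num),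
        padicValNat.prime_pow, padicValNat.eq_zero_of_not_dvd (by norm_num : ¬ 3 ∣ 224)]
      norm_num
    haveI : Nontrivial (P : Subgroup G) := Finite.one_lt_card_iff_nontrivial.1 (by rw [hPc]; norm_num)
    haveI := P.2.center_nontrivial
    have hcP : c ∈ (P : Subgroup G) := hP (mem_zpowers c)
    set cP : (P : Subgroup G) := ⟨c, hcP⟩
    set Zc : Subgroup (P : Subgroup G) := centralizer ({cP} : Set (P : Subgroup G)) with hZc
    have hle : Nat.card Zc ∣ Nat.card M := by
      rw [← card_map_of_injective (P : Subgroup G).subtype_injective]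
      refine card_dvd_of_le ?_
      rintro _ ⟨v, hv, rfl⟩
      exact mem_centralizer_singleton_iff.2 (congrArg Subtype.val (mem_centralizer_singleton_iff.1 hv))
    refine dvd_trans ?_ hle
    obtain ⟨k, hk, hkc⟩ := (Nat.dvd_prime_pow Nat.prime_three).1
      (show Nat.card Zc ∣ 3 ^ 3 from (card_subgroup_dvd_card Zc).trans (dvd_of_eq hPc))
    rcases (show k ≤ 1 ∨ 2 ≤ k by omega) with h | h
    swap
    · rw [hkc]; exact Nat.pow_dvd_pow 3 h
    exfalso
    by_cases hcc : cP ∈ center (P : Subgroup G)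
    · have : Zc = ⊤ := eq_top_iff.2 fun v _ => mem_centralizer_singleton_iff.2 (mem_center_iff.1 hcc v)
      rw [this, card_top, hPc] at hkc
      have := Nat.pow_le_pow_right (show 0 < 3 by norm_num) h
      omega
    · have hlt : center (P : Subgroup G) < Zc := lt_of_le_of_ne
        (fun v hv => mem_centralizer_singleton_iff.2 (mem_center_iff.1 hv cP).symm)
        fun e => hcc (e ▸ mem_centralizer_singleton_iff.2 rfl)
      have hdvd := card_dvd_of_le hlt.le
      rw [hkc] at hdvd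
      obtain ⟨j, hj, hjc⟩ := (Nat.dvd_prime_pow Nat.prime_three).1 hdvd
      have hj0 : j ≠ 0 := fun e => by
        rw [e, pow_zero] at hjc
        have := Finite.one_lt_card_iff_nontrivial.2 (inferInstance : Nontrivial (center (P : Subgroup G)))
        omega
      exact hlt.ne (Subgroup.eq_of_le_of_card_ge hlt.le (by rw [hkc, hjc]; exact Nat.pow_le_pow_right (by norm_num) (by omega)))
  have hO9 : 9 ∣ Nat.card O := (show Nat.Coprime 9 4 by norm_num).dvd_of_dvd_mul_right (hMc.symm ▸ h9)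
  obtain ⟨oe, hoe, hoc⟩ := (Nat.dvd_prime_pow Nat.prime_three).1 (show Nat.card O ∣ 3 ^ 3 from hOd)
  have hOp : IsPGroup 3 O := IsPGroup.of_card hoc
  -- `c` lies in the complement
  set cM : M := ⟨c, hcM⟩
  have hcO : cM ∈ O := by
    rw [hO, MonoidHom.mem_ker, ← orderOf_eq_one_iff]
    refine Nat.eq_one_of_dvd_coprimes (show Nat.Coprime 3 4 by norm_num) ?_ (hTc ▸ orderOf_dvd_natCard _)
    exact (orderOf_map_dvd _ cM).trans (dvd_of_eq ((Subgroup.orderOf_mk _ _).trans hco))
  set cO : O := ⟨cM, hcO⟩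
  have hcOc : ∀ v : O, Commute cO v := fun v =>
    Subtype.ext (Subtype.ext (mem_centralizer_singleton_iff.1 v.1.2).symm)
  haveI : (zpowers cO).Normal := ⟨fun v hv g => by
    obtain ⟨j, rfl⟩ := mem_zpowers_iff.1 hv
    rw [show g * cO ^ j * g⁻¹ = cO ^ j by rw [← ((hcOc g).zpow_left j).eq, mul_inv_cancel_right]]
    exact zpow_mem (mem_zpowers cO) j⟩
  have hcOo : orderOf cO = 3 := (Subgroup.orderOf_mk _ _).trans ((Subgroup.orderOf_mk _ _).trans hco)
  set π := QuotientGroup.mk' (zpowers cO)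
  have hQ : Nat.card (O ⧸ zpowers cO) * 3 = 3 ^ oe := by
    rw [← hoc, Subgroup.card_eq_card_quotient_mul_card_subgroup (zpowers cO), Nat.card_zpowers, hcOo]
  have hoe2 : 2 ≤ oe := by
    by_contra h
    have h1 := Nat.le_of_dvd (by positivity) (hoc ▸ hO9)
    have := Nat.pow_le_pow_right (show 0 < 3 by norm_num) (show oe ≤ 1 by omega)
    omega
  have hQcomm : ∀ a b : O ⧸ zpowers cO, a * b = b * a := by
    rcases (show oe = 2 ∨ oe = 3 by omega) with rfl | rfl
    · haveI : IsCyclic (O ⧸ zpowers cO) := isCyclic_of_prime_card (p := 3) (by norm_num at hQ; omega)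
      letI : CommGroup (O ⧸ zpowers cO) := IsCyclic.commGroup
      exact fun a b => mul_comm a b
    · exact IsPGroup.commutative_of_card_eq_prime_sq (p := 3) (G := O ⧸ zpowers cO) (by norm_num at hQ ⊢; omega)
  -- the action of `w`
  let act : O →* O := (MulAut.conjNormal wM : MulAut O).toMonoidHom
  have hact : ∀ v : O, ((act v : M) : G) = w * ((v : M) : G) * w⁻¹ := fun v => rfl
  have hact2 : ∀ v : O, ((act (act v) : M) : G) = z * ((v : M) : G) * z⁻¹ := fun v => by
    rw [hact, hact, ← hww, pow_two]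
    group
  have hz2 : ∀ v : O, act (act (act (act v))) = v := fun v => Subtype.ext (Subtype.ext (by
    rw [hact2, hact2, show z * (z * ((v : M) : G) * z⁻¹) * z⁻¹ = z ^ 2 * ((v : M) : G) * (z ^ 2)⁻¹ by simp [pow_two, mul_assoc],
      orderOf_dvd_iff_pow_eq_one.1 (dvd_of_eq hz), one_mul, inv_one, mul_one]))
  have hfix : ∀ v : O, act (act v) = v → v ∈ zpowers cO := fun v hv => by
    have h := congrArg (fun a : O => ((a : M) : G)) hv
    simp only [hact2] at h
    rw [mul_inv_eq_iff_eq_mul] at h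
    obtain ⟨i, k, hi, hk, hk8, e⟩ := hMC _ v.1.2 h.symm
    have hk0 : k = 0 := by
      by_contra hk0
      obtain ⟨r, hr⟩ := hOp v
      have h1 : ((v : M) : G) ^ 3 ^ r = 1 := congrArg (fun a : O => ((a : M) : G)) hr
      rw [← e, ← SubmonoidClass.coe_pow, OneMemClass.coe_eq_one,
        (show Commute (D.c ^ i) (D.h ^ k) from mem_center_iff.1 (D.even_center hk) _).mul_pow,
        ← pow_mul, ← pow_mul] at h1
      have h2 := (D.el_inj (j := 0) (l := 0) (h1.trans (by simp))).2
      have h8 : 8 ∣ k := (Nat.Coprime.pow 3 r (by norm_num : Nat.Coprime 2 3)).dvd_of_dvd_mul_right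
        (Nat.dvd_of_mod_eq_zero (by simpa using h2))
      exact hk0 (Nat.eq_zero_of_dvd_of_lt h8 hk8)
    refine mem_zpowers_iff.2 ⟨(i : ℤ), Subtype.ext (Subtype.ext ?_)⟩
    rw [zpow_natCast, SubmonoidClass.coe_pow, SubmonoidClass.coe_pow, ← e, hk0, pow_zero, mul_one,
      SubmonoidClass.coe_pow]
  have hπc : ∀ v : O, π v = 1 ↔ v ∈ zpowers cO := fun v => QuotientGroup.eq_one_iff v
  have hact_c : ∀ v ∈ zpowers cO, act v = v := fun v hv => by
    obtain ⟨j, rfl⟩ := mem_zpowers_iff.1 hv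
    rw [map_zpow, show act cO = cO from Subtype.ext (Subtype.ext (by
      rw [hact]
      exact mul_inv_eq_iff_eq_mul.2 (mem_centralizer_singleton_iff.1 hwM)))]
  have hinv : ∀ v : O, π (act (act v)) = (π v)⁻¹ := fun v => by
    set y := v * act (act v) with hy
    obtain ⟨d, hd, hd'⟩ : ∃ d, act (act y) = y * d ∧ d ∈ zpowers cO := by
      refine ⟨y⁻¹ * act (act y), (mul_inv_cancel_left _ _).symm, (hπc _).1 ?_⟩
      have e : act (act y) = act (act v) * v := by rw [hy, map_mul, map_mul, hz2]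
      rw [e, map_mul, map_inv, hy, map_mul, map_mul, hQcomm (π (act (act v))) (π v), inv_mul_cancel]
    have hdd : d * d = 1 := by
      have : act (act (act (act y))) = act (act (y * d)) := congrArg (fun a => act (act a)) hd
      rw [hz2, map_mul, map_mul, hd, hact_c d hd', hact_c d hd'] at this
      rwa [mul_assoc, eq_comm, mul_eq_left] at this
    have hd1 : d = 1 := orderOf_eq_one_iff.1 (Nat.eq_one_of_dvd_coprimes (show Nat.Coprime 2 3 by norm_num)
      (orderOf_dvd_of_pow_eq_one (by rw [pow_two, hdd]))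
      (hcOo ▸ Nat.card_zpowers cO ▸ (zpowers cO).orderOf_dvd_natCard hd'))
    rw [hd1, mul_one] at hd
    have := (hπc y).2 (hfix y hd)
    rw [hy, map_mul] at this
    exact eq_inv_of_mul_eq_one_right this
  have hncyc : ∀ v : O, zpowers (π v) = ⊤ → π v = 1 := fun v hv => by
    obtain ⟨k, hk⟩ := mem_zpowers_iff.1 (hv ▸ mem_top (π (act v)) : π (act v) ∈ zpowers (π v))
    have hk' : π (act (v ^ k)) = π v ^ (k * k) := by rw [map_zpow, map_zpow, ← hk, ← zpow_mul]
    have h2 : π (act (act v)) = π v ^ (k * k) := by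
      obtain ⟨d, hd, hd'⟩ : ∃ d, act v = v ^ k * d ∧ d ∈ zpowers cO :=
        ⟨(v ^ k)⁻¹ * act v, (mul_inv_cancel_left _ _).symm, (hπc _).1 (by
          rw [map_mul, map_inv, map_zpow, hk, inv_mul_cancel])⟩
      rw [hd, map_mul, hact_c d hd', map_mul, hk', (hπc d).2 hd', mul_one]
    rw [hinv] at h2
    have hzz : π v ^ (k * k + 1) = 1 := by rw [zpow_add_one, ← h2, inv_mul_cancel]
    obtain ⟨r, hr⟩ := IsPGroup.iff_orderOf.1 (hOp.of_surjective π (QuotientGroup.mk'_surjective _)) (π v)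
    rcases Nat.eq_zero_or_pos r with rfl | hr0
    · exact orderOf_eq_one_iff.1 (hr.trans (pow_zero 3))
    have h3 : (3 : ℤ) ∣ k * k + 1 :=
      (by exact_mod_cast dvd_pow_self 3 hr0.ne' : (3 : ℤ) ∣ ((3 ^ r : ℕ) : ℤ)).trans
        (hr ▸ orderOf_dvd_iff_zpow_eq_one.2 hzz)
    exfalso
    have hk3 := Int.emod_emod_of_dvd (k * k + 1) (dvd_refl (3 : ℤ))
    have : (k * k + 1) % 3 = 0 := Int.emod_eq_zero_of_dvd h3
    rw [Int.add_emod, Int.mul_emod] at this
    have h0 := Int.emod_nonneg k (show (3 : ℤ) ≠ 0 by norm_num)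
    have h3' := Int.emod_lt_of_pos k (show (0 : ℤ) < 3 by norm_num)
    interval_cases k % 3 <;> norm_num at this
  -- the exponent is three
  have hexp : ∀ v : O, v ^ 3 = 1 := fun v => by
    have h3mem : v ^ 3 ∈ zpowers cO := by
      rw [← hπc, map_pow]
      by_contra hne
      have h1 : orderOf (π v) ∣ Nat.card (O ⧸ zpowers cO) := orderOf_dvd_natCard _
      have h2 : Nat.card (O ⧸ zpowers cO) = 3 ^ (oe - 1) := by
        rcases (show oe = 2 ∨ oe = 3 by omega) with rfl | rfl <;> norm_num at hQ ⊢ <;> omega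
      obtain ⟨r, hr, hro⟩ := (Nat.dvd_prime_pow Nat.prime_three).1 (h2 ▸ h1)
      have hr2 : 2 ≤ r := by
        by_contra hlt
        exact hne (orderOf_dvd_iff_pow_eq_one.1 (hro ▸ Nat.pow_dvd_pow 3 (show r ≤ 1 by omega)))
      refine hne ?_
      rw [hncyc v (Subgroup.eq_top_of_le_card _ ?_), one_pow]
      rw [Nat.card_zpowers, hro, h2]
      exact Nat.pow_le_pow_right (by norm_num) (by omega)
    have h := hinv v
    obtain ⟨d, hd, hd'⟩ : ∃ d, act (act v) = v⁻¹ * d ∧ d ∈ zpowers cO :=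
      ⟨v * act (act v), (inv_mul_cancel_left _ _).symm, (hπc _).1 (by rw [map_mul, h, mul_inv_cancel])⟩
    have hdc : Commute v⁻¹ d := by
      obtain ⟨j, rfl⟩ := mem_zpowers_iff.1 hd'
      exact ((hcOc v⁻¹).zpow_left j).symm
    have h6 : v ^ 3 = (v ^ 3)⁻¹ := by
      have e : act (act (v ^ 3)) = v ^ 3 := by rw [hact_c _ h3mem, hact_c _ h3mem]
      conv_lhs => rw [← e]
      rw [map_pow, map_pow, hd, hdc.mul_pow, inv_pow, show d ^ 3 = 1 by
        obtain ⟨j, rfl⟩ := mem_zpowers_iff.1 hd'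
        rw [← zpow_natCast, ← zpow_mul, mul_comm, zpow_mul, zpow_natCast, ← hcOo, pow_orderOf_eq_one, one_zpow],
        mul_one]
    rw [eq_inv_iff_mul_eq_one, ← pow_add] at h6
    obtain ⟨r, hr⟩ := hOp v
    refine orderOf_dvd_iff_pow_eq_one.1 ((Nat.dvd_gcd (orderOf_dvd_of_pow_eq_one h6) (orderOf_dvd_of_pow_eq_one hr)).trans ?_)
    rw [show (3 + 3 : ℕ) = 3 * 2 by norm_num, Nat.Coprime.gcd_mul_right_cancel 3 (Nat.Coprime.pow_right r (by norm_num : Nat.Coprime 2 3))]
    exact Nat.gcd_dvd_left _ _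
  have hO27 : Nat.card O = 27 := by
    rcases (show oe = 2 ∨ oe = 3 by omega) with rfl | rfl
    · exfalso
      have hQ3 : Nat.card (O ⧸ zpowers cO) = 3 := by norm_num at hQ; omega
      have hne : zpowers cO ≠ ⊤ := fun e => by
        have h := Nat.card_zpowers cO
        rw [e, card_top, hoc, hcOo] at h
        norm_num at h
      obtain ⟨v, -, hv⟩ := SetLike.exists_of_lt (lt_top_iff_ne_top.2 hne)
      refine hv ((hπc v).1 (hncyc v (zpowers_eq_top_of_prime_card hQ3 fun e => hv ((hπc v).1 e))))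
    · rw [hoc]; norm_num
  -- transport to all elements of order 9
  intro hg
  obtain ⟨P, hP⟩ := (IsPGroup.of_card (n := 2) (by rw [Nat.card_zpowers, hg]; norm_num) :
    IsPGroup 3 (zpowers g)).exists_le_sylow
  set O' : Subgroup G := O.map M.subtype with hO'
  have hO'c : Nat.card O' = 27 := by rw [hO', card_map_of_injective M.subtype_injective, hO27]
  let R : Sylow 3 G := Sylow.ofCard O' (by
    rw [hO'c, hG, Nat.factorization_def _ Nat.prime_three,
      show (6048 : ℕ) = 3 ^ 3 * 224 by norm_num, padicValNat.mul (by norm_num) (by norm_num),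
      padicValNat.prime_pow, padicValNat.eq_zero_of_not_dvd (by norm_num : ¬ 3 ∣ 224)]
    norm_num)
  have h := (P.equiv R ⟨g, hP (mem_zpowers g)⟩).2
  obtain ⟨v, hv, hvg⟩ := (h : ((P.equiv R ⟨g, hP (mem_zpowers g)⟩ : (R : Subgroup G)) : G) ∈ O')
  have h3 : v ^ 3 = 1 := congrArg (fun a : O => (a : M)) (hexp ⟨v, hv⟩)
  have h3' : ((P.equiv R ⟨g, hP (mem_zpowers g)⟩ : (R : Subgroup G)) : G) ^ 3 = 1 := by
    rw [← hvg, ← map_pow, h3, map_one]
  have h9' := orderOf_dvd_of_pow_eq_one h3'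
  rw [Subgroup.orderOf_coe, MulEquiv.orderOf_eq, Subgroup.orderOf_mk, hg] at h9'
  norm_num at h9'

/-- The wreathed case. -/
theorem wreathed_case (hna : ¬ IsMulCommutative G) (hG : Short G) (S : Sylow 2 G)
    (h32 : Nat.card (S : Subgroup G) = 32) (hS : Cfsg.IsWreathed (S : Subgroup G)) : Outcome G := by
  haveI : Fact (Nat.Prime 2) := ⟨Nat.prime_two⟩
  haveI : Fact (Nat.Prime 5) := ⟨Nat.prime_five⟩
  haveI : Fact (Nat.Prime 7) := ⟨by norm_num⟩
  haveI : Fact (Nat.Prime 11) := ⟨by norm_num⟩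
  haveI : Fact (Nat.Prime 41) := ⟨by norm_num⟩
  letI : Fintype G := Fintype.ofFinite G
  obtain ⟨z, hz, hall, hC, ⟨D⟩⟩ := wreathed_top hna hG S h32 hS
  have hmod : Nat.card G % 192 = 96 := by
    have h1 := (cz z).card_mul_index
    have h2 := (S : Subgroup G).card_mul_index
    rw [hC] at h1
    rw [h32] at h2
    have h3 := S.not_dvd_index
    omega
  rcases orders_of_cdata hz (perfect hna) hall hC D hmod with h | h | h | h | h | h
  · exfalso
    have := Cfsg.Agent.S0496.result hna (by omega)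
    omega
  · exact absurd (kill_self_centralizing (p := 5) (m := 288) (a := 5) (b := 2) h (by norm_num) (by rw [h]; norm_num)
      (by norm_num) (by norm_num) (by decide +kernel)) (fun e => e)
  · exact (kill_odd_centralizer hall hC (p := 7) (by norm_num) (m := 480) h (by norm_num) (by norm_num)
      (by decide +kernel)).elim
  · letI : Fintype Cfsg.Lib.UThreeOrder.NineField := Fintype.ofFinite _
    haveI : Finite (Cfsg.PSU 3 Cfsg.Lib.UThreeOrder.NineField 3) :=
      Nat.finite_of_card_ne_zero (by rw [Cfsg.Lib.UThreeOrder.hyp_psu.card]; norm_num)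
    exact Or.inr (Or.inl ⟨Cfsg.Lib.UThreeOrder.NineField, inferInstance, inferInstance,
      Cfsg.Lib.UThreeOrder.card_nineField.trans (by norm_num),
      Cfsg.Lib.UThreeOrder.equiv (order_6048 hna hz hall hC D h) Cfsg.Lib.UThreeOrder.hyp_psu⟩)
  · exact (kill_self_centralizing (p := 11) (m := 864) (a := 5) (b := 3) h (by norm_num) (by rw [h]; norm_num)
      (by norm_num) (by norm_num) (by decide +kernel)).elim
  · exact (kill_odd_centralizer hall hC (p := 41) (by norm_num) (m := 672) h (by norm_num) (by norm_num)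
      (by decide +kernel)).elim

end simple

end Cfsg.Lib.LenSeven
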