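import Cfsg.Agent.Wreathed.Facts
import Mathlib.LinearAlgebra.Matrix.SpecialLinearGroup

/-!
Groups of order 96 with wreathed Sylow 2-subgroups over a normal `SL(2, 3)`.
-/

set_option autoImplicit false
set_option linter.style.haveILetI false
set_option linter.unusedSectionVars false
set_option maxRecDepth 8000

namespace Cfsg.Lib.LenSeven

open Subgroup Cfsg.Lib.Wreathed
open scoped MatrixGroups

instance : Fintype (Wr 2) := Fintype.ofEquiv _ Wr.equivTriple.symm

theorem wr_facts :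
    (∃ h : Wr 2, h ^ 4 ≠ 1) ∧
      (∀ p q : Wr 2, p ^ 4 ≠ 1 → (p * p) * q = q * (p * p)) ∧
      (∀ p : Wr 2, p ^ 8 = 1) ∧
      (∀ p q : Wr 2, (∀ r : Wr 2, p * r = r * p) → q ^ 4 ≠ 1 → ∃ m : Fin 4, p = (q * q) ^ (m : ℕ)) ∧
      (∀ p q : Wr 2, p ^ 4 ≠ 1 → p * q = q * p → ∃ k : Fin 8, q = p ^ (k : ℕ)) := by
  decide +kernel

theorem wr_pair :
    ∀ p q r : Wr 2, q * r ≠ r * q → p * q = q * p → p * r = r * p → ∀ s : Wr 2, p * s = s * p := by
  decide +kernel

/-- The model `SL(2, 3)`. -/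
abbrev SL23 := SL(2, ZMod 3)

theorem sl_facts :
    Fintype.card SL23 = 24 ∧
      (∃ q r : SL23, q ^ 4 = 1 ∧ r ^ 4 = 1 ∧ q * r ≠ r * q ∧ (∃ a b : SL23, a ^ 3 = 1 ∧ b ^ 3 = 1 ∧ a * b = q) ∧
        (∃ a b : SL23, a ^ 3 = 1 ∧ b ^ 3 = 1 ∧ a * b = r)) ∧
      (∀ q r : SL23, q ^ 4 = 1 → r ^ 4 = 1 → (q * r) ^ 4 = 1) ∧
      (∀ a b : SL23, a ^ 3 = 1 → b ^ 3 = 1 → (∀ q : SL23, q ^ 4 = 1 → a * q * a⁻¹ = b * q * b⁻¹) → a = b) ∧
      (∀ q : SL23, (∀ r : SL23, q * r = r * q) → q * q = 1) ∧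
      (∀ q : SL23, q * q = 1 → ∀ r : SL23, q * r = r * q) ∧
      (Finset.univ.filter fun q : SL23 => q * q = 1).card = 2 ∧
      (Finset.univ.filter fun q : SL23 => q ^ 4 = 1 ∧ q * q ≠ 1).card = 6 ∧
      ∃ a b : SL23, a ^ 3 = 1 ∧ b ^ 3 = 1 ∧ a * b ≠ b * a := by
  refine ⟨?_, ?_, ?_, ?_, ?_, ?_, ?_, ?_, ?_⟩ <;> decide +kernel

set_option synthInstance.maxSize 4000 in
theorem perm_facts :
    (∀ σ : Equiv.Perm (Fin 4), σ * σ = 1 → (∀ i, σ i ≠ i) → ∃ ρ : Equiv.Perm (Fin 4), ρ * ρ = σ) ∧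
      (∀ (σ : Equiv.Perm (Fin 4)) (i : Fin 4), σ * σ = 1 → σ ≠ 1 → σ i = i →
        (Finset.univ.filter fun g : Equiv.Perm (Fin 4) => (g * σ * g⁻¹) i = i).card = 12) ∧
      (∀ (σ : Equiv.Perm (Fin 4)) (i : Fin 4), σ * σ = 1 → σ ≠ 1 → σ i = i →
        ∃ g : Equiv.Perm (Fin 4), g * g = 1 ∧ g * σ = σ * g ∧ g ≠ 1 ∧ g ≠ σ) ∧
      (∀ (τ : Equiv.Perm (Fin 4)) (i : Fin 4) (g : Equiv.Perm (Fin 4)), τ ^ 3 = 1 → τ ≠ 1 → τ i = i →
        (g * τ * g⁻¹) i = i → g i = i) ∧
      (∀ (σ τ : Equiv.Perm (Fin 4)) (i : Fin 4), σ * σ = 1 → σ ≠ 1 → σ i = i → τ ^ 3 = 1 → τ i = i →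
        σ * τ * σ⁻¹ = τ⁻¹) ∧
      (∀ (σ ρ : Equiv.Perm (Fin 4)) (i : Fin 4), σ * σ = 1 → σ ≠ 1 → σ i = i → ρ * ρ = 1 → ρ ≠ 1 →
        (∀ j, ρ j ≠ j) ∨ ∃ g : Equiv.Perm (Fin 4), g * σ * g⁻¹ = ρ) ∧
      (∀ i : Fin 4, (Finset.univ.filter fun g : Equiv.Perm (Fin 4) => g i = i).card = 6) := by
  refine ⟨?_, ?_, ?_, ?_, ?_, ?_, ?_⟩ <;> decide +kernel

universe u

/-- What the count needs from the centralizer. -/
structure CData (C : Type u) [Group C] (z : C) where
  /-- An element of order 8. -/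
  h : C
  /-- An element of order 3. -/
  c : C
  /-- The normaliser of `⟨c⟩`. -/
  B : Subgroup C
  sq_center : h * h ∈ center C
  ord_h : orderOf h = 8
  z_eq : h ^ 4 = z
  ord_c : orderOf c = 3
  inv : h * c * h⁻¹ = c⁻¹
  h_mem : h ∈ B
  c_mem : c ∈ B
  card_B : Nat.card B = 24
  conj_c : ∀ g : C, g * c * g⁻¹ ∈ B → g ∈ B
  card_h : Nat.card {g : C // g * h * g⁻¹ ∈ B} = 48
  flip : ∃ q : C, q * h * q⁻¹ = h * z
  invols : Nat.card {a : C // orderOf a = 2} = 7

variable {C : Type u} [Group C] [Finite C]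

theorem exists_cdata (hC : Nat.card C = 96) (hW : ∀ T : Sylow 2 C, Cfsg.IsWreathed (T : Subgroup C))
    {z : C} (hz : orderOf z = 2) (hzc : z ∈ center C) (f : SL23 →* C) (hf : Function.Injective f)
    (hn : f.range.Normal) : Nonempty (CData C z) := by
  classical
  haveI : Fact (Nat.Prime 2) := ⟨Nat.prime_two⟩
  haveI : Fact (Nat.Prime 3) := ⟨Nat.prime_three⟩
  obtain ⟨hs24, ⟨qi, qj, hqi, hqj, hqij, hqia, hqja⟩, hs4, hsrig, hscen, hscen', hscard, hs6, sa, sb, hsa, hsb,
    hsab⟩ := sl_facts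
  obtain ⟨⟨w8, hw8⟩, hwsq, hw_exp, hwcen, hwcent⟩ := wr_facts
  obtain ⟨hpsq, hp12, hpcom, hp3, hpinv, hptr, hp6⟩ := perm_facts
  have hTc : ∀ T : Sylow 2 C, Nat.card (T : Subgroup C) = 2 ^ (2 * 2 + 1) := fun T => by
    rw [T.card_eq_multiplicity, hC, Nat.factorization_def _ Nat.prime_two,
      show (96 : ℕ) = 2 ^ 5 * 3 by norm_num, padicValNat.mul (by norm_num) (by norm_num),
      padicValNat.prime_pow, padicValNat.eq_zero_of_not_dvd (by norm_num)]
  have emb : ∀ T : Sylow 2 C, ∃ ι : Wr 2 →* C, Function.Injective ι ∧ ∀ x : C, x ∈ (T : Subgroup C) ↔ ∃ p, ι p = x :=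
    fun T => by
      obtain ⟨-, ⟨e⟩⟩ := exponent_eq (hW T) 2 (hTc T)
      refine ⟨(T : Subgroup C).subtype.comp e.toMonoidHom, (T : Subgroup C).subtype_injective.comp e.injective,
        fun x => ⟨fun hx => ?_, ?_⟩⟩
      · exact ⟨e.symm ⟨x, hx⟩, by simp⟩
      · rintro ⟨p, rfl⟩
        exact (e p).2
  -- the subgroup `Q`
  let Q : Subgroup C :=
    { carrier := {x | ∃ q : SL23, q ^ 4 = 1 ∧ f q = x}
      one_mem' := ⟨1, one_pow 4, map_one f⟩
      mul_mem' := by
        rintro _ _ ⟨q, hq, rfl⟩ ⟨r, hr, rfl⟩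
        exact ⟨q * r, hs4 q r hq hr, map_mul f q r⟩
      inv_mem' := by
        rintro _ ⟨q, hq, rfl⟩
        exact ⟨q⁻¹, by rw [inv_pow, hq, inv_one], map_inv f q⟩ }
  have hQp : IsPGroup 2 Q := by
    rintro ⟨_, q, hq, rfl⟩
    exact ⟨2, Subtype.ext (by show (f q) ^ (2 ^ 2) = 1; rw [← map_pow]; norm_num [hq])⟩
  have hQn : Q.Normal := ⟨by
    rintro _ ⟨q, hq, rfl⟩ g
    obtain ⟨r, hr⟩ := MonoidHom.mem_range.1 (hn.conj_mem (f q) ⟨q, rfl⟩ g)
    refine ⟨r, hf ?_, hr⟩
    rw [map_pow, hr, conj_pow, ← map_pow, hq, map_one, mul_one, mul_inv_cancel]⟩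
  have normal_le : ∀ (K : Subgroup C), K.Normal → IsPGroup 2 K → ∀ T : Sylow 2 C, K ≤ (T : Subgroup C) :=
    fun K hKn hK T => by
      obtain ⟨P, hP⟩ := hK.exists_le_sylow
      obtain ⟨g, hg⟩ := MulAction.exists_smul_eq C P T
      intro x hx
      rw [← hg]
      refine ⟨g⁻¹ * x * g, hP (by simpa using hKn.conj_mem x hx g⁻¹), ?_⟩
      simp [mul_assoc]
  have pair_center : ∀ (T : Sylow 2 C) {k : C}, k ∈ (T : Subgroup C) → Commute k (f qi) → Commute k (f qj) →
      ∀ s ∈ (T : Subgroup C), Commute k s := fun T k hk h1 h2 s hs => by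
    obtain ⟨ι, hι, hmem⟩ := emb T
    obtain ⟨p, rfl⟩ := (hmem k).1 hk
    obtain ⟨a, ha⟩ := (hmem _).1 (normal_le Q hQn hQp T ⟨qi, hqi, rfl⟩)
    obtain ⟨b, hb⟩ := (hmem _).1 (normal_le Q hQn hQp T ⟨qj, hqj, rfl⟩)
    obtain ⟨r, rfl⟩ := (hmem s).1 hs
    rw [← ha] at h1; rw [← hb] at h2
    have hab : a * b ≠ b * a := fun e => hqij (hf (by
      rw [map_mul, map_mul, ← ha, ← hb, ← map_mul, ← map_mul, e]))
    exact (show Commute p r from wr_pair p a b hab (hι (by rw [map_mul, map_mul]; exact h1.eq))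
      (hι (by rw [map_mul, map_mul]; exact h2.eq)) r).map ι
  -- the elements `h` and `w`
  obtain ⟨T⟩ : Nonempty (Sylow 2 C) := inferInstance
  obtain ⟨ι, hι, hmem⟩ := emb T
  set h := ι w8 with hh
  set w := h * h with hw
  have hh4 : h ^ 4 ≠ 1 := fun e => hw8 (hι (by rw [map_pow, map_one]; exact e))
  have hh8 : orderOf h = 8 := by
    rw [show (8 : ℕ) = 2 ^ (2 + 1) by norm_num]
    exact orderOf_eq_prime_pow (by norm_num; exact hh4) (by norm_num; rw [hh, ← map_pow, hw_exp, map_one])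
  have hwT : ∀ s ∈ (T : Subgroup C), Commute w s := fun s hs => by
    obtain ⟨r, rfl⟩ := (hmem s).1 hs
    rw [hw, hh, ← map_mul]
    exact (show Commute (w8 * w8) r from hwsq w8 r hw8).map ι
  have hcube : ∀ {x : C}, x ^ 3 = 1 → ∃ a : SL23, a ^ 3 = 1 ∧ f a = x := fun {x} hx => by
    haveI := hn
    have hi : f.range.index = 4 := by
      have h1 := f.range.card_mul_index
      rw [← Nat.card_congr (MonoidHom.ofInjective hf).toEquiv, Nat.card_eq_fintype_card, hs24, hC] at h1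
      omega
    have h1 : (QuotientGroup.mk x : C ⧸ f.range) ^ 3 = 1 := by rw [← QuotientGroup.mk_pow, hx, QuotientGroup.mk_one]
    have h2 : orderOf (QuotientGroup.mk x : C ⧸ f.range) ∣ 4 := by
      rw [← hi, Subgroup.index_eq_card]; exact orderOf_dvd_natCard _
    have h3 := Nat.dvd_gcd h2 (orderOf_dvd_of_pow_eq_one h1)
    norm_num [orderOf_eq_one_iff, -QuotientGroup.eq_one_iff] at h3
    obtain ⟨a, ha⟩ := MonoidHom.mem_range.1 ((QuotientGroup.eq_one_iff x).1 h3)
    exact ⟨a, hf (by rw [map_pow, ha, hx, map_one]), ha⟩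
  have hw3 : ∀ a : SL23, a ^ 3 = 1 → Commute w (f a) := fun a ha => by
    obtain ⟨b, hb, hbe⟩ := hcube (x := w * f a * w⁻¹) (by rw [conj_pow, ← map_pow, ha, map_one, mul_one, mul_inv_cancel])
    have hab : a = b := hsrig a b ha hb fun q hq => hf (by
      have hq' := normal_le Q hQn hQp T ⟨q, hq, rfl⟩
      have hq'' := normal_le Q hQn hQp T (hQn.conj_mem _ ⟨q, hq, rfl⟩ (f a))
      rw [map_mul, map_mul, map_inv, map_mul, map_mul, map_inv, hbe]
      have e1 : w * f q * w⁻¹ = f q := by rw [(hwT _ hq').eq, mul_inv_cancel_right]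
      have e2 : w * (f a * f q * (f a)⁻¹) * w⁻¹ = f a * f q * (f a)⁻¹ := by
        rw [(hwT _ hq'').eq, mul_inv_cancel_right]
      calc f a * f q * (f a)⁻¹ = w * (f a * f q * (f a)⁻¹) * w⁻¹ := e2.symm
        _ = (w * f a * w⁻¹) * (w * f q * w⁻¹) * (w * f a * w⁻¹)⁻¹ := by group
        _ = _ := by rw [e1])
    rw [← hab] at hbe
    exact mul_inv_eq_iff_eq_mul.1 hbe.symm
  have hwc : w ∈ center C := by
    obtain ⟨a, ha, ha1⟩ : ∃ a : SL23, a ^ 3 = 1 ∧ a ≠ 1 := ⟨sa, hsa, fun e => hsab (by rw [e, one_mul, mul_one])⟩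
    have hle : (T : Subgroup C) ⊔ zpowers (f a) ≤ centralizer ({w} : Set C) :=
      sup_le (fun s hs => mem_centralizer_singleton_iff.2 (hwT s hs).eq.symm)
        (zpowers_le.2 (mem_centralizer_singleton_iff.2 (hw3 a ha).eq.symm))
    have h32 := card_dvd_of_le (le_trans (le_sup_left : (T : Subgroup C) ≤ _) hle)
    have h3 := card_dvd_of_le (le_trans (le_sup_right : zpowers (f a) ≤ _) hle)
    rw [hTc] at h32
    rw [Nat.card_zpowers, orderOf_injective f hf, orderOf_eq_prime ha ha1] at h3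
    have h96 : 96 ∣ Nat.card (centralizer ({w} : Set C)) := Nat.Coprime.mul_dvd_of_dvd_of_dvd (m := 32) (n := 3)
      (by norm_num) (by simpa using h32) h3
    have htop : centralizer ({w} : Set C) = ⊤ := eq_top_of_card_eq _
      (Nat.dvd_antisymm (card_subgroup_dvd_card _) (hC ▸ h96))
    exact mem_center_iff.2 fun g => mem_centralizer_singleton_iff.1 (htop ▸ mem_top g)
  have hwo : orderOf w = 4 := by
    rw [hw, ← pow_two, orderOf_pow, hh8]; norm_num
  have hzw : h ^ 4 = z := by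
    obtain ⟨p, hp⟩ := (hmem z).1 (normal_le (zpowers z) ⟨fun x hx g => by
      obtain ⟨k, rfl⟩ := mem_zpowers_iff.1 hx
      rw [show g * z ^ k * g⁻¹ = z ^ k by
        rw [← conj_zpow, (mem_center_iff.1 hzc g), mul_inv_cancel_right]]
      exact zpow_mem (mem_zpowers z) k⟩ (IsPGroup.of_card (n := 1) (by rw [Nat.card_zpowers, hz, pow_one])) T
      (mem_zpowers z))
    obtain ⟨m, hm⟩ := hwcen p w8 (fun r => hι (by
      rw [map_mul, map_mul, hp]; exact (mem_center_iff.1 hzc _).symm)) hw8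
    have hzm : z = w ^ (m : ℕ) := by rw [← hp, hm, map_pow, map_mul]
    have hd : 4 ∣ 2 * (m : ℕ) := by
      refine hwo.symm.dvd.trans ?_
      apply orderOf_dvd_of_pow_eq_one
      rw [mul_comm, pow_mul, ← hzm, ← hz, pow_orderOf_eq_one]
    have hm0 : (m : ℕ) ≠ 0 := fun e => by rw [e, pow_zero] at hzm; rw [hzm, orderOf_one] at hz; omega
    have := m.isLt
    rw [hzm, show (m : ℕ) = 2 by omega, hw, ← pow_two, ← pow_mul]
  -- the action on the Sylow 3-subgroups
  have hS3c : ∀ P : Sylow 3 C, Nat.card (P : Subgroup C) = 3 := fun P => by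
    rw [P.card_eq_multiplicity, hC, Nat.factorization_def _ Nat.prime_three,
      show (96 : ℕ) = 3 ^ 1 * 32 by norm_num, padicValNat.mul (by norm_num) (by norm_num),
      padicValNat.prime_pow, padicValNat.eq_zero_of_not_dvd (by norm_num)]
    norm_num
  have hfixP : ∀ (P P' : Sylow 3 C) (x : C), x ∈ (P : Subgroup C) → x ≠ 1 → x • P' = P' → P' = P := by
    intro P P' x hx hx1 hfix
    have hxN : x ∈ normalizer ((P' : Subgroup C) : Set C) := (Sylow.smul_eq_iff_mem_normalizer).1 hfix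
    have ho : orderOf x = 3 := ((Nat.prime_three.eq_one_or_self_of_dvd _
      (hS3c P ▸ (P : Subgroup C).orderOf_dvd_natCard hx)).resolve_left fun e => hx1 (orderOf_eq_one_iff.1 e))
    have hp : IsPGroup 3 ↥(zpowers x) := IsPGroup.of_card (n := 1) (by rw [Nat.card_zpowers, ho, pow_one])
    have hsup := hp.to_sup_of_normal_right' P'.2 (zpowers_le.2 hxN)
    have h1 := P'.3 hsup le_sup_right
    have hxP' : x ∈ (P' : Subgroup C) := h1.le (mem_sup_left (mem_zpowers x))
    refine Sylow.ext ((eq_of_le_of_card_ge (H := zpowers x) (zpowers_le.2 hxP') ?_).symm.trans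
      (eq_of_le_of_card_ge (zpowers_le.2 hx) ?_)) <;> rw [Nat.card_zpowers, ho, hS3c]
  have hn3 : Nat.card (Sylow 3 C) = 4 := by
    obtain ⟨PS⟩ : Nonempty (Sylow 3 C) := inferInstance
    have h1 : Nat.card (Sylow 3 C) ∣ 96 / 3 := by
      have := PS.card_dvd_index
      have h2 := (PS : Subgroup C).card_mul_index
      rw [hS3c, hC] at h2
      rwa [show (PS : Subgroup C).index = 96 / 3 by omega] at this
    have h2 := card_sylow_modEq_one 3 C
    have hne : Nat.card (Sylow 3 C) ≠ 1 := fun e => by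
      haveI := (Nat.card_eq_one_iff_unique.1 e).1
      have hm : ∀ {a : SL23}, a ^ 3 = 1 → f a ∈ (PS : Subgroup C) := fun {a} ha => by
        obtain ⟨P, hP⟩ := (show IsPGroup 3 ↥(zpowers (f a)) from fun v => ⟨1, Subtype.ext (by
          obtain ⟨k, hk⟩ := mem_zpowers_iff.1 v.2
          rw [pow_one, SubmonoidClass.coe_pow, ← hk, ← zpow_natCast, ← zpow_mul, mul_comm, zpow_mul, zpow_natCast,
            ← map_pow, ha, map_one, one_zpow]; rfl)⟩).exists_le_sylow
        rw [Subsingleton.elim P PS] at hP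
        exact hP (mem_zpowers _)
      haveI : IsCyclic (PS : Subgroup C) := isCyclic_of_prime_card (hS3c PS)
      exact hsab (hf (by
        rw [map_mul, map_mul]
        exact congrArg Subtype.val ((IsCyclic.commGroup (α := (PS : Subgroup C))).mul_comm
          ⟨_, hm hsa⟩ ⟨_, hm hsb⟩)))
    have hle := Nat.le_of_dvd (by norm_num) h1
    have hd : ∀ d ∈ Nat.divisors 32, d % 3 = 1 → d = 1 ∨ d = 4 ∨ d = 16 := by decide +kernel
    rcases hd _ (Nat.mem_divisors.2 ⟨by simpa using h1, by norm_num⟩) h2 with e | e | e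
    · exact absurd e hne
    · exact e
    · exfalso
      -- the subgroups of order 3 lie in the image of the model
      choose g hg hg1 using fun P : Sylow 3 C => show ∃ a : SL23, f a ∈ (P : Subgroup C) ∧ a ≠ 1 from by
        obtain ⟨⟨x, hx⟩, hx1⟩ := exists_prime_orderOf_dvd_card' (G := (P : Subgroup C)) 3 (by rw [hS3c])
        rw [Subgroup.orderOf_mk] at hx1
        obtain ⟨a, -, rfl⟩ := hcube (x := x) (by rw [← hx1, pow_orderOf_eq_one])
        exact ⟨a, hx, fun e => by rw [e, map_one, orderOf_one] at hx1; omega⟩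
      have h9 : (Finset.univ.filter fun q : SL23 => q ^ 3 = 1).card = 9 := by decide +kernel
      haveI : Fintype (Sylow 3 C) := Fintype.ofFinite _
      have hmaps : ∀ P ∈ (Finset.univ : Finset (Sylow 3 C)),
          g P ∈ Finset.univ.filter fun q : SL23 => q ^ 3 = 1 := fun P _ => by
        refine Finset.mem_filter.2 ⟨Finset.mem_univ _, hf ?_⟩
        rw [map_pow, map_one]
        refine (congrArg (f (g P) ^ ·) (hS3c P).symm).trans ?_
        exact congrArg Subtype.val (pow_card_eq_one' (x := (⟨f (g P), hg P⟩ : (P : Subgroup C))))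
      have := Finset.card_le_card_of_injOn g hmaps fun P _ P' _ hPP => hfixP P' P (f (g P)) (hPP ▸ hg P')
        (fun e' => hg1 P (hf (e'.trans (map_one f).symm)))
        ((Sylow.smul_eq_iff_mem_normalizer).2 (le_normalizer (hg P)))
      rw [Finset.card_univ, ← Nat.card_eq_fintype_card, e, h9] at this
      omega
  let ε : Sylow 3 C ≃ Fin 4 := (Finite.equivFin _).trans (finCongr hn3)
  let φ : C →* Equiv.Perm (Fin 4) := ε.permCongrHom.toMonoidHom.comp (MulAction.toPermHom C (Sylow 3 C))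
  have hφ : ∀ g i, φ g i = ε (g • ε.symm i) := fun g i => rfl
  have hker : φ.ker = zpowers w := by
    refine le_antisymm (fun k hk => ?_) (zpowers_le.2 ?_)
    · have hfix : ∀ g ∈ φ.ker, ∀ P : Sylow 3 C, g • P = P := fun g hg P => by
        have h1 := congrArg (fun σ : Equiv.Perm (Fin 4) => σ (ε P)) (MonoidHom.mem_ker.1 hg)
        simp [hφ] at h1
        exact h1
      have h3 : ¬ 3 ∣ Nat.card φ.ker := fun hd => by
        obtain ⟨⟨x, hxk⟩, hx⟩ := exists_prime_orderOf_dvd_card' 3 hd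
        rw [Subgroup.orderOf_mk] at hx
        obtain ⟨P, hP⟩ := (IsPGroup.of_card (p := 3) (n := 1) (G := zpowers x)
          (by rw [Nat.card_zpowers, hx, pow_one])).exists_le_sylow
        have hall : ∀ P' : Sylow 3 C, P' = P := fun P' => hfixP P P' x (hP (mem_zpowers x))
          (fun e => by rw [e, orderOf_one] at hx; omega) (hfix x hxk P')
        haveI : Subsingleton (Sylow 3 C) := ⟨fun a b => (hall a).trans (hall b).symm⟩
        have := Finite.card_le_one_iff_subsingleton.2 (inferInstance : Subsingleton (Sylow 3 C))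
        omega
      have hk2 : IsPGroup 2 φ.ker := by
        have hd := card_subgroup_dvd_card φ.ker
        rw [hC, show 96 = 2 ^ 5 * 3 by norm_num] at hd
        obtain ⟨i, -, hi⟩ := (Nat.dvd_prime_pow Nat.prime_two).1
          (((Nat.prime_three.coprime_iff_not_dvd).2 h3).symm.dvd_of_dvd_mul_right hd)
        exact IsPGroup.of_card hi
      have hk3 : ∀ a : SL23, a ^ 3 = 1 → Commute k (f a) := fun a ha => by
        obtain ⟨P, hP⟩ := (show IsPGroup 3 ↥(zpowers (f a)) from fun v => ⟨1, Subtype.ext (by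
          obtain ⟨j, hj⟩ := mem_zpowers_iff.1 v.2
          rw [pow_one, SubmonoidClass.coe_pow, ← hj, ← zpow_natCast, ← zpow_mul, mul_comm, zpow_mul, zpow_natCast,
            ← map_pow, ha, map_one, one_zpow]; rfl)⟩).exists_le_sylow
        have hm := hP (mem_zpowers (f a))
        have h1 : k * f a * k⁻¹ * (f a)⁻¹ ∈ (P : Subgroup C) :=
          mul_mem ((mem_normalizer_iff.1 ((Sylow.smul_eq_iff_mem_normalizer).1 (hfix k hk P)) _).1 hm) (inv_mem hm)
        have h2 : k * f a * k⁻¹ * (f a)⁻¹ ∈ φ.ker := by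
          rw [MonoidHom.mem_ker, map_mul, map_mul, map_mul, map_inv φ k, map_inv φ (f a), MonoidHom.mem_ker.1 hk,
            one_mul, inv_one, mul_one, mul_inv_cancel]
        have h3' : k * f a * k⁻¹ * (f a)⁻¹ = 1 := by
          rw [← orderOf_eq_one_iff]
          exact Nat.eq_one_of_dvd_coprimes ((Nat.prime_three.coprime_iff_not_dvd).2 h3)
            (((P : Subgroup C).orderOf_dvd_natCard h1).trans (hS3c P).dvd) (φ.ker.orderOf_dvd_natCard h2)
        exact mul_inv_eq_iff_eq_mul.1 (mul_inv_eq_one.1 h3')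
      obtain ⟨a, b, ha, hb, hab⟩ := hqia
      obtain ⟨a', b', ha', hb', hab'⟩ := hqja
      have hkT : k ∈ (T : Subgroup C) := normal_le φ.ker inferInstance hk2 T hk
      obtain ⟨p, rfl⟩ := (hmem k).1 hkT
      obtain ⟨m, rfl⟩ := hwcen p w8 (fun r => hι (by
        rw [map_mul, map_mul]
        exact (pair_center T hkT (by rw [← hab, map_mul]; exact (hk3 a ha).mul_right (hk3 b hb))
          (by rw [← hab', map_mul]; exact (hk3 a' ha').mul_right (hk3 b' hb')) _ ((hmem _).2 ⟨r, rfl⟩)).eq)) hw8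
      rw [map_pow, map_mul]
      exact pow_mem (mem_zpowers w) _
    · refine MonoidHom.mem_ker.2 (Equiv.ext fun i => ?_)
      rw [hφ, Equiv.Perm.one_apply, (Sylow.smul_eq_iff_mem_normalizer).2, Equiv.apply_symm_apply]
      exact centralizer_le_normalizer _ (center_le_centralizer _ hwc)
  have hkc : Nat.card φ.ker = 4 := by rw [hker, Nat.card_zpowers, hwo]
  have hsurj : Function.Surjective φ := by
    have h1 := φ.ker.card_mul_index
    rw [index_ker, hkc, hC] at h1
    refine MonoidHom.range_eq_top.1 (eq_top_of_card_eq _ ?_)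
    rw [Nat.card_perm, Nat.card_fin]
    rw [show Nat.factorial 4 = 24 from rfl]
    omega
  -- the involution `φ h`
  have hkeq : ∀ {x y : C}, φ x = φ y → ∃ m : ℕ, x = y * w ^ m := fun {x y} e => by
    have h1 : y⁻¹ * x ∈ φ.ker := by rw [MonoidHom.mem_ker, map_mul, map_inv, e, inv_mul_cancel]
    rw [hker, ← mem_powers_iff_mem_zpowers] at h1
    obtain ⟨m, hm⟩ := h1
    exact ⟨m, by rw [show w ^ m = y⁻¹ * x from hm, mul_inv_cancel_left]⟩
  have hwcomm : ∀ (x : C) (m : ℕ), Commute x (w ^ m) := fun x m =>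
    (show Commute x w from mem_center_iff.1 hwc x).pow_right m
  have hzw' : z = w ^ 2 := by rw [← hzw, hw, ← pow_two, ← pow_mul]
  have hsq : φ h * φ h = 1 := by
    rw [← map_mul, ← hw, ← MonoidHom.mem_ker, hker]; exact mem_zpowers w
  have hne1 : φ h ≠ 1 := fun e => by
    rw [← MonoidHom.mem_ker, hker] at e
    have := card_dvd_of_le (zpowers_le.2 e)
    rw [Nat.card_zpowers, Nat.card_zpowers, hh8, hwo] at this
    norm_num at this
  have hf4 : ∀ q : SL23, φ (f q) * φ (f q) = 1 → q ^ 4 = 1 ∧ f q * f q ∈ zpowers (w ^ 2) := fun q hq => by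
    rw [← map_mul, ← map_mul, ← MonoidHom.mem_ker, hker] at hq
    have hc : ∀ r, q * q * r = r * (q * q) := fun r => hf (by
      obtain ⟨j, hj⟩ := mem_zpowers_iff.1 hq
      rw [map_mul f (q * q) r, map_mul f r (q * q), ← hj]
      exact ((show Commute (f r) w from mem_center_iff.1 hwc _).zpow_right j).eq.symm)
    have h1 := hscen _ hc
    refine ⟨by rw [show q ^ 4 = (q * q) * (q * q) by rw [← pow_two q, ← pow_add], h1], ?_⟩
    obtain ⟨m, hm⟩ := mem_powers_iff_mem_zpowers.2 hq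
    have hm2 : w ^ (2 * m) = 1 := by
      rw [two_mul, pow_add, show w ^ m = f (q * q) from hm, ← map_mul, h1, map_one]
    have h4 := orderOf_dvd_of_pow_eq_one hm2
    rw [hwo] at h4
    obtain ⟨i, hi⟩ : 2 ∣ m := by omega
    rw [← map_mul, ← show w ^ m = f (q * q) from hm, hi, pow_mul]
    exact pow_mem (mem_zpowers _) i
  have hL : ∀ σ : Equiv.Perm (Fin 4), σ * σ = 1 → (∀ i, σ i ≠ i) → ∃ q : SL23, φ (f q) = σ := by
    intro σ hσ hσi
    obtain ⟨ρ, hρ⟩ := hpsq σ hσ hσi
    have hidx : (φ.comp f).range.index = 2 := by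
      have hK : Nat.card (φ.comp f).ker = 2 := by
        refine Eq.trans ?_ ((Nat.card_eq_fintype_card.trans (Fintype.card_subtype _)).trans hscard)
        refine Nat.card_congr (Equiv.subtypeEquivRight fun q => ⟨fun hq => ?_, fun hq => ?_⟩)
        · exact hscen q fun r => hf (by
            have hq' : f q ∈ φ.ker := hq
            rw [hker] at hq'
            obtain ⟨j, hj⟩ := mem_zpowers_iff.1 hq'
            rw [map_mul, map_mul, ← hj]
            exact ((show Commute (f r) w from mem_center_iff.1 hwc _).zpow_right j).eq.symm)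
        · show φ (f q) = 1
          rw [← MonoidHom.mem_ker, hker]
          obtain ⟨p, hp⟩ := (hmem _).1 (normal_le Q hQn hQp T
            ⟨q, by rw [show q ^ 4 = (q * q) * (q * q) by rw [← pow_two q, ← pow_add], hq, one_mul], rfl⟩)
          obtain ⟨m, hm⟩ := hwcen p w8 (fun r => hι (by
            rw [map_mul, map_mul, hp]
            refine (pair_center T ((hmem _).2 ⟨p, hp⟩) ?_ ?_ _ ((hmem _).2 ⟨r, rfl⟩)).eq
            all_goals exact (show Commute _ _ from hscen' q hq _).map f)) hw8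
          rw [← hp, hm, map_pow, map_mul]
          exact pow_mem (mem_zpowers w) _
      have h1 := (φ.comp f).ker.card_mul_index
      rw [index_ker, hK, Nat.card_eq_fintype_card (α := SL23), hs24] at h1
      have h3 := (φ.comp f).range.card_mul_index
      rw [Nat.card_perm, Nat.card_fin] at h3
      rw [show Nat.factorial 4 = 24 from rfl] at h3
      nlinarith
    obtain ⟨q, hq⟩ := MonoidHom.mem_range.1
      (show σ ∈ (φ.comp f).range from hρ ▸ mul_self_mem_of_index_two hidx ρ)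
    exact ⟨q, hq⟩
  obtain ⟨i0, hi0⟩ : ∃ i, φ h i = i := by
    by_contra hno
    push Not at hno
    obtain ⟨q, hq⟩ := hL _ hsq hno
    obtain ⟨m, hm⟩ := hkeq hq.symm
    obtain ⟨-, hqq⟩ := hf4 q (by rw [hq, hsq])
    obtain ⟨j, hj⟩ := mem_powers_iff_mem_zpowers.2 hqq
    have e : w ^ 1 = w ^ (2 * j + 2 * m) := by
      rw [pow_one, pow_add, pow_mul w 2 j, show (w ^ 2) ^ j = f q * f q from hj]
      calc w = h * h := hw
        _ = (f q * w ^ m) * (f q * w ^ m) := by rw [← hm]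
        _ = f q * f q * (w ^ m * w ^ m) := (hwcomm (f q) m).symm.mul_mul_mul_comm _ _
        _ = _ := by rw [← pow_add, two_mul]
    rw [pow_eq_pow_iff_modEq, hwo, Nat.ModEq] at e
    omega
  set P0 := ε.symm i0
  have hB : ∀ g : C, g ∈ normalizer ((P0 : Subgroup C) : Set C) ↔ φ g i0 = i0 := fun g => by
    rw [hφ, ← Equiv.eq_symm_apply]
    exact Sylow.smul_eq_iff_mem_normalizer.symm
  obtain ⟨⟨c, hcP⟩, hco⟩ := exists_prime_orderOf_dvd_card' (G := (P0 : Subgroup C)) 3 (by rw [hS3c])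
  rw [Subgroup.orderOf_mk] at hco
  have hcB := le_normalizer hcP
  have hc3 : c ^ 3 = 1 := by rw [← hco, pow_orderOf_eq_one]
  have hφc : φ c ≠ 1 := fun e => by
    rw [← MonoidHom.mem_ker] at e
    have := φ.ker.orderOf_dvd_natCard e
    rw [hco, hkc] at this
    norm_num at this
  have hφc3 : φ c ^ 3 = 1 := by rw [← map_pow, hc3, map_one]
  have hinv : h * c * h⁻¹ = c⁻¹ := by
    have hm : h * c * h⁻¹ * c ∈ (P0 : Subgroup C) :=
      mul_mem ((mem_normalizer_iff.1 ((hB h).2 hi0) _).1 hcP) hcP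
    have hk : h * c * h⁻¹ * c ∈ φ.ker := by
      rw [MonoidHom.mem_ker, map_mul, map_mul, map_mul, map_inv,
        hpinv _ _ i0 hsq hne1 hi0 hφc3 ((hB c).1 hcB), inv_mul_cancel]
    have h1 := (P0 : Subgroup C).orderOf_dvd_natCard hm
    have h2 := φ.ker.orderOf_dvd_natCard hk
    rw [hS3c] at h1
    rw [hkc] at h2
    exact eq_inv_of_mul_eq_one_left (orderOf_eq_one_iff.1 (Nat.eq_one_of_dvd_coprimes (by norm_num) h1 h2))
  have hfib : ∀ p : Equiv.Perm (Fin 4) → Prop, ∀ [DecidablePred p],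
      Nat.card {g : C // p (φ g)} = 4 * (Finset.univ.filter p).card := by
    intro p _
    choose s hs using hsurj
    rw [← Fintype.card_subtype, ← Nat.card_eq_fintype_card, mul_comm]
    refine Eq.trans ?_ (congrArg (Nat.card {σ // p σ} * ·) hkc)
    show _ = Nat.card {σ // p σ} * Nat.card φ.ker
    rw [← Nat.card_prod]
    refine Nat.card_congr
      { toFun := fun g => (⟨φ g.1, g.2⟩, ⟨(s (φ g.1))⁻¹ * g.1, by
          rw [MonoidHom.mem_ker, map_mul, map_inv, hs, inv_mul_cancel]⟩)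
        invFun := fun x => ⟨s x.1.1 * x.2.1, by
          rw [map_mul, hs, MonoidHom.mem_ker.1 x.2.2, mul_one]; exact x.1.2⟩
        left_inv := fun g => Subtype.ext (mul_inv_cancel_left _ _)
        right_inv := ?_ }
    rintro ⟨⟨σ, hσ⟩, ⟨k, hk⟩⟩
    have hφk : φ (s σ * k) = σ := by rw [map_mul, hs, MonoidHom.mem_ker.1 hk, mul_one]
    refine Prod.ext (Subtype.ext hφk) (Subtype.ext ?_)
    show (s (φ (s σ * k)))⁻¹ * (s σ * k) = k
    rw [hφk, inv_mul_cancel_left]
  refine ⟨⟨h, c, normalizer ((P0 : Subgroup C) : Set C), hwc, hh8, hzw, hco, hinv, (hB h).2 hi0, hcB, ?_,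
    fun g hg => (hB g).2 (hp3 (φ c) i0 (φ g) hφc3 hφc ((hB c).1 hcB) (by rw [← map_inv, ← map_mul, ← map_mul]; exact (hB _).1 hg)),
    ?_, ?_, ?_⟩⟩
  · rw [show Nat.card (normalizer ((P0 : Subgroup C) : Set C)) = Nat.card {g : C // φ g i0 = i0} from
      Nat.card_congr (Equiv.subtypeEquivRight hB), hfib (fun σ => σ i0 = i0), hp6]
  · rw [show Nat.card {g : C // g * h * g⁻¹ ∈ normalizer ((P0 : Subgroup C) : Set C)} =
        Nat.card {g : C // (φ g * φ h * (φ g)⁻¹) i0 = i0} from Nat.card_congr (Equiv.subtypeEquivRight fun g => by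
          rw [hB, map_mul, map_mul, map_inv]), hfib (fun σ => (σ * φ h * σ⁻¹) i0 = i0), hp12 _ _ hsq hne1 hi0]
  · obtain ⟨σ, hσ2, hσc, hσ1, hσh⟩ := hpcom _ _ hsq hne1 hi0
    obtain ⟨g, rfl⟩ := hsurj σ
    obtain ⟨m, hm⟩ := hkeq (show φ (g * h * g⁻¹) = φ h by
      rw [map_mul, map_mul, map_inv, hσc, mul_inv_cancel_right])
    refine ⟨g, ?_⟩
    have e : w ^ 1 = w ^ (1 + 2 * m) := by
      rw [pow_add, pow_one]
      calc w = g * w * g⁻¹ := by rw [mem_center_iff.1 hwc g, mul_inv_cancel_right]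
        _ = (g * h * g⁻¹) * (g * h * g⁻¹) := by rw [hw]; group
        _ = (h * w ^ m) * (h * w ^ m) := by rw [hm]
        _ = h * h * (w ^ m * w ^ m) := (hwcomm h m).symm.mul_mul_mul_comm _ _
        _ = _ := by rw [← pow_add, ← two_mul, ← hw]
    rw [pow_eq_pow_iff_modEq, hwo, Nat.ModEq] at e
    have hm4 : m % 4 = 0 ∨ m % 4 = 2 := by omega
    rw [hm, ← pow_mod_orderOf, hwo]
    rcases hm4 with e' | e' <;> rw [e']
    · exfalso
      rw [← pow_mod_orderOf, hwo, e', pow_zero, mul_one, mul_inv_eq_iff_eq_mul] at hm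
      obtain ⟨i, hi⟩ : ∃ i, g * g = w ^ i := by
        obtain ⟨i, hi⟩ := hkeq (x := g * g) (y := 1) (by rw [map_mul, map_one, hσ2])
        exact ⟨i, by rwa [one_mul] at hi⟩
      have hg8 : g ^ 8 = 1 := by
        rw [show g ^ 8 = (g * g) ^ 4 by rw [← pow_two, ← pow_mul], hi, ← pow_mul, mul_comm, pow_mul, ← hwo,
          pow_orderOf_eq_one, one_pow]
      have hgrp : IsPGroup 2 ↥(zpowers g ⊔ zpowers h) := IsPGroup.to_sup_of_normal_right'
        (show IsPGroup 2 ↥(zpowers g) from fun v => ⟨3, Subtype.ext (by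
          obtain ⟨j, hj⟩ := mem_zpowers_iff.1 v.2
          rw [SubmonoidClass.coe_pow, ← hj, show 2 ^ 3 = 8 by norm_num, ← zpow_natCast, ← zpow_mul, mul_comm,
            zpow_mul, zpow_natCast, hg8, one_zpow]; rfl)⟩)
        (IsPGroup.of_card (n := 3) (by rw [Nat.card_zpowers, hh8]; norm_num))
        (zpowers_le.2 (centralizer_le_normalizer _ (mem_centralizer_iff.2 fun y hy => by
          obtain ⟨j, rfl⟩ := mem_zpowers_iff.1 hy
          exact ((show Commute h g from hm.symm).zpow_left j).eq)))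
      obtain ⟨T', hT'⟩ := hgrp.exists_le_sylow
      obtain ⟨ι', hι', hmem'⟩ := emb T'
      obtain ⟨p, hp⟩ := (hmem' h).1 (hT' (mem_sup_right (mem_zpowers h)))
      obtain ⟨q, hq⟩ := (hmem' g).1 (hT' (mem_sup_left (mem_zpowers g)))
      obtain ⟨j, rfl⟩ := hwcent p q (fun e => hh4 (by rw [← hp, ← map_pow, e, map_one]))
        (hι' (by rw [map_mul, map_mul, hp, hq]; exact hm.symm))
      rw [map_pow, hp] at hq
      have hj2 : ((j : ℕ) % 2 = 0 → φ g = 1) ∧ ((j : ℕ) % 2 = 1 → φ g = φ h) := by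
        rw [← hq, map_pow, show φ h ^ (j : ℕ) = φ h ^ ((j : ℕ) % 2) from pow_eq_pow_mod _ (by rw [pow_two, hsq])]
        exact ⟨fun e => by rw [e, pow_zero], fun e => by rw [e, pow_one]⟩
      rcases Nat.mod_two_eq_zero_or_one (j : ℕ) with e | e
      exacts [hσ1 (hj2.1 e), hσh (hj2.2 e)]
    · rw [← hzw']
  · -- the involutions
    have key : ∀ a : C, orderOf a = 2 ↔ a = z ∨ ∃ q : SL23, (q ^ 4 = 1 ∧ q * q ≠ 1) ∧ f q * w = a := by
      have hqq : ∀ q : SL23, q ^ 4 = 1 → q * q ≠ 1 → f q * f q = z := fun q h4 h2 => by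
        obtain ⟨p, hp⟩ := (hmem _).1 (normal_le Q hQn hQp T ⟨q * q, by
          rw [show (q * q) ^ 4 = q ^ 4 * q ^ 4 from (Commute.refl q).mul_pow 4, h4, one_mul], rfl⟩)
        obtain ⟨m, hm⟩ := hwcen p w8 (fun r => hι (by
          rw [map_mul, map_mul, hp]
          refine (pair_center T ((hmem _).2 ⟨p, hp⟩) ?_ ?_ _ ((hmem _).2 ⟨r, rfl⟩)).eq
          all_goals exact (show Commute _ _ from hscen' _ (by
            rw [show q * q * (q * q) = q ^ 4 by rw [← pow_two q, ← pow_add], h4]) _).map f)) hw8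
        have hwm : f q * f q = w ^ (m : ℕ) := by rw [← map_mul, ← hp, hm, map_pow, map_mul]
        have hd : 4 ∣ 2 * (m : ℕ) := by
          refine hwo.symm.dvd.trans ?_
          apply orderOf_dvd_of_pow_eq_one
          rw [mul_comm, pow_mul, ← hwm, ← pow_two, ← pow_mul, ← map_pow, h4, map_one]
        have hm0 : (m : ℕ) ≠ 0 := fun e => h2 (hf (by rw [map_mul, hwm, e, pow_zero, map_one]))
        have := m.isLt
        rw [hwm, show (m : ℕ) = 2 by omega, hzw']
      intro a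
      constructor
      · intro ha
        have haa : a * a = 1 := by rw [← pow_two, ← ha, pow_orderOf_eq_one]
        have hφa : φ a * φ a = 1 := by rw [← map_mul, haa, map_one]
        by_cases ha1 : φ a = 1
        · obtain ⟨m, hm⟩ := hkeq (y := 1) (ha1.trans (map_one φ).symm)
          rw [one_mul] at hm
          left
          have hd : 4 ∣ 2 * m := by
            rw [← hwo]
            apply orderOf_dvd_of_pow_eq_one
            rw [two_mul, pow_add, ← hm, haa]
          rw [hm, ← pow_mod_orderOf, hwo, hzw']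
          rcases (show m % 4 = 0 ∨ m % 4 = 2 by omega) with e | e
          · exfalso
            rw [hm, ← pow_mod_orderOf, hwo, e, pow_zero, orderOf_one] at ha
            omega
          · rw [e]
        rcases hptr _ _ _ hsq hne1 hi0 hφa ha1 with hfree | ⟨σ, hσ⟩
        · obtain ⟨q, hq⟩ := hL _ hφa hfree
          obtain ⟨m, hm⟩ := hkeq hq.symm
          obtain ⟨hq4, -⟩ := hf4 q (by rw [hq, hφa])
          have hq2 : q * q ≠ 1 := fun e => ha1 (by
            rw [← hq]
            obtain ⟨p, hp⟩ := (hmem _).1 (normal_le Q hQn hQp T ⟨q, hq4, rfl⟩)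
            obtain ⟨j, hj⟩ := hwcen p w8 (fun r => hι (by
              rw [map_mul, map_mul, hp]
              refine (pair_center T ((hmem _).2 ⟨p, hp⟩) ?_ ?_ _ ((hmem _).2 ⟨r, rfl⟩)).eq
              all_goals exact (show Commute _ _ from hscen' q e _).map f)) hw8
            rw [← MonoidHom.mem_ker, hker, ← hp, hj, map_pow, map_mul]
            exact pow_mem (mem_zpowers w) _)
          right
          have e : w ^ 0 = w ^ (2 + 2 * m) := by
            rw [pow_zero, pow_add, ← hzw', ← hqq q hq4 hq2, ← haa, hm,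
              (hwcomm (f q) m).symm.mul_mul_mul_comm, ← pow_add, two_mul]
          rw [pow_eq_pow_iff_modEq, hwo, Nat.ModEq] at e
          rcases (show m % 4 = 1 ∨ m % 4 = 3 by omega) with e' | e'
          · exact ⟨q, ⟨hq4, hq2⟩, by rw [hm, ← pow_mod_orderOf w m, hwo, e', pow_one]⟩
          · refine ⟨q * (q * q), ⟨?_, ?_⟩, ?_⟩
            · rw [show (q * (q * q)) ^ 4 = (q ^ 4) ^ 3 by rw [← pow_two q, ← pow_succ', ← pow_mul, ← pow_mul], hq4, one_pow]
            · rw [show q * (q * q) * (q * (q * q)) = (q * q) * q ^ 4 by simp only [pow_succ, pow_zero, one_mul, mul_assoc], hq4, mul_one]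
              exact hq2
            · rw [map_mul, map_mul, hqq q hq4 hq2, hm, ← pow_mod_orderOf w m, hwo, e', hzw', mul_assoc,
                ← pow_succ]
        · exfalso
          obtain ⟨x, rfl⟩ := hsurj σ
          obtain ⟨m, hm⟩ := hkeq (show φ a = φ (x * h * x⁻¹) by rw [map_mul, map_mul, map_inv, hσ])
          have e : w ^ 0 = w ^ (1 + 2 * m) := by
            rw [pow_zero, ← haa, hm, (hwcomm (x * h * x⁻¹) m).symm.mul_mul_mul_comm, ← pow_add, ← two_mul,
              pow_add, pow_one, show x * h * x⁻¹ * (x * h * x⁻¹) = x * w * x⁻¹ by rw [hw]; group,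
              mem_center_iff.1 hwc x, mul_inv_cancel_right]
          rw [pow_eq_pow_iff_modEq, hwo, Nat.ModEq] at e
          omega
      · rintro (rfl | ⟨q, ⟨h4, h2⟩, rfl⟩)
        · exact hz
        · refine orderOf_eq_prime ?_ fun e => h2 (hscen q fun r => hf ?_)
          · rw [pow_two, (show Commute (f q) w from mem_center_iff.1 hwc _).symm.mul_mul_mul_comm, hqq q h4 h2, hzw',
              ← pow_two w, ← pow_add]
            rw [show (2 + 2 : ℕ) = orderOf w by rw [hwo], pow_orderOf_eq_one]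
          · rw [map_mul, map_mul, eq_inv_of_mul_eq_one_left e]
            exact ((show Commute (f r) w from mem_center_iff.1 hwc _).inv_right).eq.symm
    haveI : Fintype C := Fintype.ofFinite C
    rw [Nat.card_eq_fintype_card, Fintype.card_subtype,
      show (Finset.univ.filter fun a : C => orderOf a = 2) = insert z
        ((Finset.univ.filter fun q : SL23 => q ^ 4 = 1 ∧ q * q ≠ 1).image fun q => f q * w) by
        ext a; simp [key a],
      Finset.card_insert_of_notMem, Finset.card_image_of_injective _ (fun a b e => hf (mul_right_cancel e)), hs6]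
    simp only [Finset.mem_image, Finset.mem_filter, Finset.mem_univ, true_and, not_exists, not_and]
    intro q hq2 e
    refine hq2.2 (hscen q fun r => hf ?_)
    rw [map_mul, map_mul, eq_mul_inv_of_mul_eq e, hzw']
    exact (((show Commute (f r) w from mem_center_iff.1 hwc _).pow_right 2).mul_right
      (show Commute (f r) w from mem_center_iff.1 hwc _).inv_right).eq.symm

end Cfsg.Lib.LenSeven
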