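import Cfsg.Agent.LenSeven.WreathedCent
import Cfsg.Agent.Chars.Induced
import Cfsg.Agent.Chars.Construct

/-!
The test function on the centralizer of order 96.
-/

set_option autoImplicit false
set_option linter.style.haveILetI false
set_option linter.unusedSectionVars false

namespace Cfsg.Lib.LenSeven

open Subgroup Cfsg.Lib.Chars

universe u

namespace CData

variable {C : Type u} [Group C] [Finite C] {z : C} (D : CData C z)

include D in
theorem z_center : z ∈ center C := by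
  rw [← D.z_eq, show D.h ^ 4 = (D.h * D.h) ^ 2 by rw [← pow_two, ← pow_mul]]
  exact pow_mem D.sq_center 2

theorem even_center {k : ℕ} (hk : k % 2 = 0) : D.h ^ k ∈ center C := by
  obtain ⟨j, rfl⟩ : ∃ j, k = 2 * j := ⟨k / 2, by omega⟩
  rw [pow_mul, pow_two]
  exact pow_mem D.sq_center j

theorem cube : D.c ^ 3 = 1 := by rw [← D.ord_c, pow_orderOf_eq_one]

theorem h_pow_eq {k l : ℕ} : D.h ^ k = D.h ^ l ↔ k % 8 = l % 8 := by
  rw [pow_eq_pow_iff_modEq, D.ord_h]; rfl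

theorem h_pow_eq_one {k : ℕ} : D.h ^ k = 1 ↔ k % 8 = 0 := by
  rw [← pow_zero D.h, D.h_pow_eq]

theorem conj_pow (k : ℕ) (j : ℤ) : D.h ^ k * D.c ^ j * (D.h ^ k)⁻¹ = D.c ^ ((-1 : ℤ) ^ k * j) := by
  induction k generalizing j with
  | zero => simp
  | succ k ih =>
    rw [pow_succ D.h k, show D.h ^ k * D.h * D.c ^ j * (D.h ^ k * D.h)⁻¹ =
      D.h ^ k * (D.h * D.c ^ j * D.h⁻¹) * (D.h ^ k)⁻¹ by group, ← conj_zpow, D.inv, inv_zpow', ih, pow_succ]
    congr 1
    ring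

/-- Coordinates on `B`. -/
def el (p : Fin 3 × Fin 8) : D.B :=
  ⟨D.c ^ (p.1 : ℕ) * D.h ^ (p.2 : ℕ), mul_mem (pow_mem D.c_mem _) (pow_mem D.h_mem _)⟩

theorem el_inj {i j k l : ℕ} (h : D.c ^ i * D.h ^ k = D.c ^ j * D.h ^ l) : i % 3 = j % 3 ∧ k % 8 = l % 8 := by
  have h1 : (D.c ^ j)⁻¹ * D.c ^ i = D.h ^ l * (D.h ^ k)⁻¹ := by
    rw [eq_mul_inv_iff_mul_eq, mul_assoc, h, inv_mul_cancel_left]
  have hb : (D.c ^ j)⁻¹ * D.c ^ i ∈ zpowers D.c ⊓ zpowers D.h :=
    Subgroup.mem_inf.2 ⟨mul_mem (inv_mem (Subgroup.npow_mem_zpowers _ _)) (Subgroup.npow_mem_zpowers _ _),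
      h1 ▸ mul_mem (Subgroup.npow_mem_zpowers _ _) (inv_mem (Subgroup.npow_mem_zpowers _ _))⟩
  have hbot : zpowers D.c ⊓ zpowers D.h = ⊥ := by
    refine inf_eq_bot_of_coprime ?_
    rw [Nat.card_zpowers, Nat.card_zpowers, D.ord_c, D.ord_h]
    norm_num
  rw [hbot, mem_bot, inv_mul_eq_one] at hb
  refine ⟨?_, ?_⟩
  · have := pow_eq_pow_iff_modEq.1 hb
    rw [D.ord_c] at this
    exact this.symm
  · rw [hb] at h
    exact D.h_pow_eq.1 (mul_left_cancel h)

theorem el_bijective : Function.Bijective D.el := by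
  have hinj : Function.Injective D.el := fun p q e => by
    obtain ⟨h1, h2⟩ := D.el_inj (congrArg Subtype.val e)
    rw [Nat.mod_eq_of_lt p.1.isLt, Nat.mod_eq_of_lt q.1.isLt] at h1
    rw [Nat.mod_eq_of_lt p.2.isLt, Nat.mod_eq_of_lt q.2.isLt] at h2
    exact Prod.ext (Fin.ext h1) (Fin.ext h2)
  refine hinj.bijective_of_nat_card_le ?_
  rw [D.card_B, Nat.card_prod, Nat.card_fin, Nat.card_fin]

theorem exists_el {b : C} (hb : b ∈ D.B) : ∃ i k : ℕ, i < 3 ∧ k < 8 ∧ D.c ^ i * D.h ^ k = b := by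
  obtain ⟨p, hp⟩ := D.el_bijective.2 ⟨b, hb⟩
  exact ⟨p.1, p.2, p.1.isLt, p.2.isLt, congrArg Subtype.val hp⟩

theorem mul_form (i j k l : ℕ) :
    ∃ t : ℕ, (D.c ^ i * D.h ^ k) * (D.c ^ j * D.h ^ l) = D.c ^ t * D.h ^ (k + l) := by
  obtain ⟨t, ht⟩ : ∃ t : ℕ, D.c ^ (((-1 : ℤ)) ^ k * (j : ℤ)) = D.c ^ t :=
    (isOfFinOrder_of_finite D.c).mem_powers_iff_mem_zpowers.2 ⟨_, rfl⟩ |>.imp fun t e => e.symm
  refine ⟨i + t, ?_⟩
  rw [pow_add, pow_add, ← ht, ← D.conj_pow, zpow_natCast]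
  group

/-- The exponent of `h`. -/
noncomputable def kexp (b : D.B) : ℕ := ((Equiv.ofBijective _ D.el_bijective).symm b).2

theorem kexp_spec (b : D.B) : ∃ i : ℕ, D.c ^ i * D.h ^ D.kexp b = (b : C) :=
  ⟨((Equiv.ofBijective _ D.el_bijective).symm b).1,
    congrArg Subtype.val ((Equiv.ofBijective _ D.el_bijective).apply_symm_apply b)⟩

theorem kexp_mod {b : D.B} {i k : ℕ} (h : D.c ^ i * D.h ^ k = (b : C)) : D.kexp b % 8 = k % 8 := by
  obtain ⟨j, hj⟩ := D.kexp_spec b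
  exact (D.el_inj (hj.trans h.symm)).2

variable (w : ℂ) (hw : w ^ 4 = -1)

include hw in
theorem w_pow {k l : ℕ} (h : k % 8 = l % 8) : w ^ k = w ^ l := by
  have h8 : w ^ 8 = 1 := by rw [show 8 = 4 * 2 by norm_num, pow_mul, hw]; norm_num
  rw [← Nat.div_add_mod k 8, ← Nat.div_add_mod l 8, pow_add, pow_add, pow_mul, pow_mul, h8, one_pow, one_pow, h]

/-- The linear character. -/
noncomputable def theta : D.B →* ℂˣ :=
  MonoidHom.toHomUnits
    { toFun := fun b => w ^ D.kexp b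
      map_one' := by
        rw [← pow_zero w]
        exact w_pow w hw (D.kexp_mod (i := 0) (by simp))
      map_mul' := fun a b => by
        obtain ⟨i, hi⟩ := D.kexp_spec a
        obtain ⟨j, hj⟩ := D.kexp_spec b
        obtain ⟨t, ht⟩ := D.mul_form i j (D.kexp a) (D.kexp b)
        rw [← pow_add]
        exact w_pow w hw (D.kexp_mod (by rw [Subgroup.coe_mul, ← hi, ← hj, ht])) }

theorem theta_apply {b : D.B} {i k : ℕ} (h : D.c ^ i * D.h ^ k = (b : C)) :
    ((D.theta w hw b : ℂˣ) : ℂ) = w ^ k :=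
  w_pow w hw (D.kexp_mod h)

/-- The test function. -/
noncomputable def psi (b : D.B) : ℂ := 1 - ((D.theta w hw b : ℂˣ) : ℂ)

theorem psi_el (p : Fin 3 × Fin 8) : D.psi w hw (D.el p) = 1 - w ^ (p.2 : ℕ) := by
  rw [psi, D.theta_apply w hw (b := D.el p) rfl]

theorem psi_conj (a b : D.B) : D.psi w hw (a * b * a⁻¹) = D.psi w hw b := by
  rw [psi, psi, map_mul, map_mul, map_inv, mul_comm (D.theta w hw a), mul_assoc, mul_inv_cancel, mul_one]

/-- The sum of the test function over the conjugates. -/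
noncomputable def val (i k : ℕ) : ℂ :=
  if k % 2 = 0 then (if i = 0 then 4 else 1) * (1 - w ^ k) else 2

theorem sum_conj [Fintype C] (hC : Nat.card C = 96) {i k : ℕ} (hi : i < 3) :
    ∑ x : C, Cfsg.extendByZero D.B (D.psi w hw) (x⁻¹ * (D.c ^ i * D.h ^ k) * x) = 24 * val w i k := by
  classical
  have hext : ∀ {g : C} (hg : g ∈ D.B) {j l : ℕ}, D.c ^ j * D.h ^ l = g →
      Cfsg.extendByZero D.B (D.psi w hw) g = 1 - w ^ l := fun {g} hg {j l} e => by
    rw [extendByZero_mem _ hg, psi, D.theta_apply w hw (b := ⟨g, hg⟩) e]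
  rcases Nat.mod_two_eq_zero_or_one k with hk | hk
  · have hc := D.even_center hk
    rw [val, if_pos hk]
    have hb : D.c ^ i * D.h ^ k ∈ D.B := mul_mem (pow_mem D.c_mem _) (pow_mem D.h_mem _)
    by_cases hi0 : i = 0
    · subst hi0
      rw [if_pos rfl, Finset.sum_congr rfl fun x _ => show Cfsg.extendByZero D.B (D.psi w hw) _ = 1 - w ^ k by
          rw [pow_zero, one_mul, mem_center_iff.1 hc x⁻¹, mul_assoc, inv_mul_cancel, mul_one]
          exact hext (pow_mem D.h_mem k) (j := 0) (by rw [pow_zero, one_mul]),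
        Finset.sum_const, Finset.card_univ, nsmul_eq_mul, ← Nat.card_eq_fintype_card]
      rw [hC]; push_cast; ring
    · rw [if_neg hi0, one_mul]
      have key : ∀ x : C, x⁻¹ * (D.c ^ i * D.h ^ k) * x ∈ D.B ↔ x ∈ D.B := fun x => by
        refine ⟨fun h => ?_, fun h => mul_mem (mul_mem (inv_mem h) hb) h⟩
        have e : x⁻¹ * (D.c ^ i * D.h ^ k) * x = (x⁻¹ * D.c ^ i * x) * D.h ^ k := by
          rw [show x⁻¹ * (D.c ^ i * D.h ^ k) * x = x⁻¹ * D.c ^ i * (D.h ^ k * x) by group,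
            (mem_center_iff.1 hc x).symm, ← mul_assoc]
        rw [e, Subgroup.mul_mem_cancel_right _ (pow_mem D.h_mem k)] at h
        refine inv_mem_iff.1 (D.conj_c x⁻¹ ?_)
        rw [inv_inv]
        have h' := pow_mem h i
        rwa [show (x⁻¹ * D.c ^ i * x) ^ i = x⁻¹ * D.c ^ (i * i) * x by
          rw [show x⁻¹ * D.c ^ i * x = x⁻¹ * D.c ^ i * (x⁻¹)⁻¹ by rw [inv_inv], _root_.conj_pow, ← pow_mul, inv_inv],
          pow_eq_pow_mod (i * i) D.cube, show i * i % 3 = 1 by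
            rcases (show i = 1 ∨ i = 2 by omega) with rfl | rfl <;> rfl,
          pow_one] at h'
      rw [← Finset.sum_filter_add_sum_filter_not Finset.univ (· ∈ D.B),
        Finset.sum_eq_zero (s := Finset.univ.filter fun x => ¬ x ∈ D.B) fun x hx =>
          extendByZero_not_mem _ fun h => (Finset.mem_filter.1 hx).2 ((key x).1 h), add_zero,
        Finset.sum_congr rfl fun x hx => show Cfsg.extendByZero D.B (D.psi w hw) _ = 1 - w ^ k by
          have hx' := (Finset.mem_filter.1 hx).2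
          rw [extendByZero_mem _ ((key x).2 hx'), show (⟨_, (key x).2 hx'⟩ : D.B) =
            (⟨x, hx'⟩ : D.B)⁻¹ * ⟨_, hb⟩ * ((⟨x, hx'⟩ : D.B)⁻¹)⁻¹ from Subtype.ext (by simp), psi_conj, psi,
            D.theta_apply w hw (b := ⟨_, hb⟩) rfl],
        Finset.sum_const, nsmul_eq_mul, ← Fintype.card_subtype, ← Nat.card_eq_fintype_card,
        show Nat.card {x : C // x ∈ D.B} = 24 from D.card_B]
      norm_num
  · rw [val, if_neg (by omega), show (24 : ℂ) * 2 = 48 by norm_num]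
    obtain ⟨j, rfl⟩ : ∃ j, k = 1 + 2 * j := ⟨k / 2, by omega⟩
    have hu : D.h ^ (2 * j) ∈ center C := D.even_center (by omega)
    have hy : D.c ^ i * D.h ^ (1 + 2 * j) = D.c ^ (2 * i) * D.h ^ (1 + 2 * j) * (D.c ^ (2 * i))⁻¹ := by
      have h1 := D.conj_pow (1 + 2 * j) (-((2 * i : ℕ) : ℤ))
      rw [Odd.neg_one_pow ⟨j, by ring⟩, show (-1 : ℤ) * -((2 * i : ℕ) : ℤ) = ((2 * i : ℕ) : ℤ) by ring,
        zpow_natCast, zpow_neg, zpow_natCast, mul_inv_eq_iff_eq_mul] at h1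
      rw [mul_assoc (D.c ^ (2 * i)), h1, ← mul_assoc, ← pow_add, pow_eq_pow_mod (2 * i + 2 * i) D.cube,
        show (2 * i + 2 * i) % 3 = i % 3 by omega, ← pow_eq_pow_mod i D.cube]
    rw [Fintype.sum_equiv (Equiv.mulLeft (D.c ^ (2 * i))⁻¹) _
      (fun x => Cfsg.extendByZero D.B (D.psi w hw) (x⁻¹ * D.h * x * D.h ^ (2 * j))) fun x => by
        simp only [Equiv.coe_mulLeft]
        congr 1
        rw [hy, show D.h ^ (1 + 2 * j) = D.h * D.h ^ (2 * j) from by rw [pow_add, pow_one], mul_inv_rev, inv_inv,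
          show x⁻¹ * (D.c ^ (2 * i) * (D.h * D.h ^ (2 * j)) * (D.c ^ (2 * i))⁻¹) * x =
            x⁻¹ * D.c ^ (2 * i) * D.h * (D.h ^ (2 * j) * ((D.c ^ (2 * i))⁻¹ * x)) by group,
          ← mem_center_iff.1 hu ((D.c ^ (2 * i))⁻¹ * x)]
        group]
    rw [← Equiv.sum_comp (Equiv.inv C)]
    simp only [Equiv.inv_apply, inv_inv]
    have hsplit : ∀ x : C, Cfsg.extendByZero D.B (D.psi w hw) (x * D.h * x⁻¹ * D.h ^ (2 * j)) =
        (if x * D.h * x⁻¹ ∈ D.B then 1 else 0) -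
          w ^ (2 * j) * Cfsg.extendByZero D.B (fun b => ((D.theta w hw b : ℂˣ) : ℂ)) (x * D.h * x⁻¹) := fun x => by
      have hm := pow_mem D.h_mem (2 * j)
      by_cases hx : x * D.h * x⁻¹ ∈ D.B
      · rw [if_pos hx, extendByZero_mem _ (mul_mem hx hm), extendByZero_mem _ hx, psi,
          show (⟨_, mul_mem hx hm⟩ : D.B) = ⟨_, hx⟩ * ⟨_, hm⟩ from rfl, map_mul, Units.val_mul,
          D.theta_apply w hw (b := ⟨_, hm⟩) (i := 0) (k := 2 * j) (by rw [pow_zero, one_mul])]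
        ring
      · rw [if_neg hx, extendByZero_not_mem _ hx,
          extendByZero_not_mem _ fun h => hx ((Subgroup.mul_mem_cancel_right _ hm).1 h)]
        ring
    simp only [hsplit, Finset.sum_sub_distrib, ← Finset.mul_sum, Finset.sum_boole]
    have hflip : ∑ x : C, Cfsg.extendByZero D.B (fun b => ((D.theta w hw b : ℂˣ) : ℂ)) (x * D.h * x⁻¹) = 0 := by
      obtain ⟨q, hq⟩ := D.flip
      set T := ∑ x : C, Cfsg.extendByZero D.B (fun b => ((D.theta w hw b : ℂˣ) : ℂ)) (x * D.h * x⁻¹) with hT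
      suffices T = -T by linear_combination (1 / 2 : ℂ) * this
      conv_lhs => rw [hT, ← Equiv.sum_comp (Equiv.mulRight q)]
      rw [hT, ← Finset.sum_neg_distrib]
      refine Finset.sum_congr rfl fun x _ => ?_
      rw [Equiv.coe_mulRight, show x * q * D.h * (x * q)⁻¹ = x * (q * D.h * q⁻¹) * x⁻¹ by group, hq,
        ← mul_assoc, mul_assoc _ z, ← mem_center_iff.1 D.z_center x⁻¹, ← mul_assoc]
      have hzB : z ∈ D.B := (congrArg (· ∈ D.B) D.z_eq).mp (pow_mem D.h_mem 4)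
      by_cases hx : x * D.h * x⁻¹ ∈ D.B
      · rw [extendByZero_mem _ (mul_mem hx hzB), extendByZero_mem _ hx,
          show (⟨_, mul_mem hx hzB⟩ : D.B) = ⟨_, hx⟩ * ⟨_, hzB⟩ from rfl, map_mul, Units.val_mul,
          D.theta_apply w hw (b := ⟨_, hzB⟩) (i := 0) (k := 4) (by rw [pow_zero, one_mul]; exact D.z_eq), hw]
        ring
      · rw [extendByZero_not_mem _ hx,
          extendByZero_not_mem _ fun h => hx ((Subgroup.mul_mem_cancel_right _ hzB).1 h), neg_zero]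
    rw [hflip, mul_zero, sub_zero, ← Fintype.card_subtype, ← Nat.card_eq_fintype_card, D.card_h]
    norm_num

/-- An element off `⟨c⟩` has `z` as a power. -/
theorem z_mem_zpowers {i k : ℕ} (hk : k % 8 ≠ 0) : z ∈ zpowers (D.c ^ i * D.h ^ k) := by
  rcases Nat.mod_two_eq_zero_or_one k with he | he
  · have hcm : Commute (D.c ^ i) (D.h ^ k) := mem_center_iff.1 (D.even_center he) _
    have hp : ∀ m, (D.c ^ i * D.h ^ k) ^ (3 * m) = D.h ^ (3 * m * k) := fun m => by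
      rw [hcm.mul_pow, ← pow_mul, ← pow_mul, mul_comm k, pow_eq_pow_mod (i * (3 * m)) D.cube,
        show i * (3 * m) % 3 = 0 by rw [show i * (3 * m) = 3 * (i * m) by ring]; omega, pow_zero, one_mul]
    by_cases h4 : k % 4 = 0
    · refine mem_zpowers_iff.2 ⟨(3 * 1 : ℕ), ?_⟩
      rw [zpow_natCast, hp]
      refine (D.h_pow_eq.2 ?_).trans D.z_eq
      omega
    · refine mem_zpowers_iff.2 ⟨(3 * 2 : ℕ), ?_⟩
      rw [zpow_natCast, hp]
      refine (D.h_pow_eq.2 ?_).trans D.z_eq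
      omega
  · obtain ⟨t, ht⟩ := D.mul_form i i k k
    refine mem_zpowers_iff.2 ⟨(4 : ℕ), ?_⟩
    have h2 : D.c ^ i * D.h ^ k * (D.c ^ i * D.h ^ k) = D.h ^ (k + k) := by
      have h1 := D.conj_pow k (i : ℤ)
      rw [Odd.neg_one_pow ⟨k / 2, by omega⟩, neg_one_mul, zpow_natCast, zpow_neg, zpow_natCast,
        mul_inv_eq_iff_eq_mul] at h1
      rw [mul_assoc, ← mul_assoc (D.h ^ k), h1, ← mul_assoc, ← mul_assoc, mul_inv_cancel, one_mul, ← pow_add]
    rw [zpow_natCast, show 4 = 2 * 2 by norm_num, pow_mul, pow_two (D.c ^ i * D.h ^ k), h2, ← pow_mul]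
    refine (D.h_pow_eq.2 ?_).trans D.z_eq
    omega

/-- Only `1`, `z` and the elements of `⟨c⟩` are inverted by involutions. -/
theorem not_inverted {i k : ℕ} (hi : i < 3) (hk : k < 8) (hk0 : k ≠ 0) (hne : ¬ (i = 0 ∧ k = 4)) {s : C}
    (hs : orderOf s = 2) (hinv : s * (D.c ^ i * D.h ^ k) * s⁻¹ = (D.c ^ i * D.h ^ k)⁻¹) : False := by
  set b := D.c ^ i * D.h ^ k with hb
  have hpow : ∀ m, s * b ^ m * s⁻¹ = (b ^ m)⁻¹ := fun m => by rw [← _root_.conj_pow, hinv, inv_pow]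
  have hbad : ∀ e, e % 4 = 2 → ∀ m, b ^ m = D.h ^ e → False := fun e he m hm => by
    have h1 := hpow m
    rw [hm, mem_center_iff.1 (D.even_center (by omega)) s, mul_inv_cancel_right, eq_inv_iff_mul_eq_one,
      ← pow_add, D.h_pow_eq_one] at h1
    omega
  rcases Nat.mod_two_eq_zero_or_one k with he | he
  · have hcm : Commute (D.c ^ i) (D.h ^ k) := mem_center_iff.1 (D.even_center he) _
    by_cases h4 : k = 4
    · subst h4
      have hi0 : i ≠ 0 := fun e => hne ⟨e, rfl⟩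
      have hci : s * D.c ^ i * s⁻¹ = (D.c ^ i)⁻¹ := by
        rw [hb, show s * (D.c ^ i * D.h ^ 4) * s⁻¹ = s * D.c ^ i * (D.h ^ 4 * s⁻¹) by group,
          ← mem_center_iff.1 (D.even_center (k := 4) rfl) s⁻¹, ← mul_assoc, mul_inv_rev,
          ← mem_center_iff.1 (inv_mem (D.even_center (k := 4) rfl)) (D.c ^ i)⁻¹,
          show (D.h ^ 4)⁻¹ = D.h ^ 4 from inv_eq_of_mul_eq_one_right (by rw [← pow_add, D.h_pow_eq_one]),
          mul_left_inj] at hinv
        exact hinv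
      have hc : s * D.c * s⁻¹ = D.c⁻¹ := by
        have h := congrArg (· ^ i) hci
        simp only [_root_.conj_pow, inv_pow, ← pow_mul] at h
        rwa [pow_eq_pow_mod (i * i) D.cube, show i * i % 3 = 1 by
          rcases (show i = 1 ∨ i = 2 by omega) with rfl | rfl <;> rfl, pow_one] at h
      have hsB : s ∈ D.B := D.conj_c s (by rw [hc]; exact inv_mem D.c_mem)
      obtain ⟨j, l, hj, hl, rfl⟩ := D.exists_el hsB
      have h2 : D.c ^ j * D.h ^ l * (D.c ^ j * D.h ^ l) = 1 := by rw [← pow_two, ← hs, pow_orderOf_eq_one]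
      obtain ⟨t, ht⟩ := D.mul_form j j l l
      rw [ht] at h2
      have hll := (D.el_inj (i := t) (j := 0) (l := 0) (h2.trans (by simp))).2
      have hlc := D.even_center (k := l) (by omega)
      rw [show D.c ^ j * D.h ^ l * D.c * (D.c ^ j * D.h ^ l)⁻¹ = D.c ^ j * (D.h ^ l * D.c) * (D.h ^ l)⁻¹ * (D.c ^ j)⁻¹
        by group, ← mem_center_iff.1 hlc D.c, ← mul_assoc, mul_inv_cancel_right,
        show D.c ^ j * D.c * (D.c ^ j)⁻¹ = D.c by group, eq_inv_iff_mul_eq_one, ← pow_two,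
        ← orderOf_dvd_iff_pow_eq_one, D.ord_c] at hc
      norm_num at hc
    · refine hbad (k * 3) (by omega) 3 ?_
      rw [hb, hcm.mul_pow, ← pow_mul, ← pow_mul, pow_eq_pow_mod (i * 3) D.cube, show i * 3 % 3 = 0 by omega,
        pow_zero, one_mul]
  · refine hbad (k + k) (by omega) 2 ?_
    have h1 := D.conj_pow k (i : ℤ)
    rw [Odd.neg_one_pow ⟨k / 2, by omega⟩, neg_one_mul, zpow_natCast, zpow_neg, zpow_natCast,
      mul_inv_eq_iff_eq_mul] at h1
    rw [pow_two, hb, mul_assoc, ← mul_assoc (D.h ^ k), h1, ← mul_assoc, ← mul_assoc, mul_inv_cancel, one_mul, ← pow_add]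

end CData

end Cfsg.Lib.LenSeven
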