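import Cfsg.Agent.LenSeven.QdTop
import Cfsg.Agent.LenSeven.WreathedCent
import Cfsg.Agent.TwoFusion.WreathedFusion
import Cfsg.Agent.TwoFusion.SylowLinearTwo
import Cfsg.Agent.S1240

/-!
The centralizer of an involution in the wreathed case has order 96.
-/

set_option autoImplicit false
set_option linter.style.haveILetI false
set_option linter.unusedSectionVars false

namespace Cfsg.Lib.LenSeven

open Subgroup Cfsg.Lib.Wreathed Cfsg.Lib.WreathedFusion
open scoped MatrixGroups ArithmeticFunction.Omega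

universe u

variable {G : Type u} [Group G] [Finite G]

/-- A nontrivial divisor chain: two prime factors at least, for a multiple of four. -/
theorem two_le_omega {a : ℕ} (ha : a ≠ 0) (h : 4 ∣ a) : 2 ≤ Ω a := by
  obtain ⟨b, rfl⟩ := h
  rw [ArithmeticFunction.cardFactors_mul (by norm_num) (by omega), show (4 : ℕ) = 2 ^ 2 by norm_num,
    ArithmeticFunction.cardFactors_apply_prime_pow Nat.prime_two]
  omega

/-- The two-part of `|SL(2, q)|` for the surviving `q`. -/
theorem not_sixteen {q : ℕ} (h : q = 3 ∨ q = 5 ∨ ∃ a : ℕ, a.Prime ∧ a ≠ 2 ∧ (q + 1 = 4 * a ∨ q = 4 * a + 1)) :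
    ¬ 16 ∣ q * (q ^ 2 - 1) := by
  rcases h with rfl | rfl | ⟨a, ha, ha2, h⟩
  · norm_num
  · norm_num
  obtain ⟨b, hb⟩ := ha.odd_of_ne_two ha2
  intro h16
  have hq : Nat.Coprime 16 q := by
    rw [show 16 = 2 ^ 4 by norm_num]
    exact Nat.Coprime.pow_left 4 (Nat.coprime_two_left.2 (Nat.odd_iff.2 (by omega)))
  have h' := hq.dvd_of_dvd_mul_left h16
  obtain ⟨t, rfl⟩ : ∃ t, q = 2 * t + 1 := ⟨q / 2, by omega⟩
  rw [show (2 * t + 1) ^ 2 - 1 = 4 * (t * (t + 1)) by
    have : (2 * t + 1) ^ 2 = 4 * (t * (t + 1)) + 1 := by ring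
    omega] at h'
  have h4 : 4 ∣ t * (t + 1) := by
    obtain ⟨k, hk⟩ := h'
    exact ⟨k, by omega⟩
  rcases h with h | h
  · obtain rfl : t = 4 * b + 1 := by omega
    obtain ⟨k, hk⟩ := h4
    have e : (4 * b + 1) * (4 * b + 1 + 1) = 4 * (4 * b * b + 3 * b) + 2 := by ring
    omega
  · obtain rfl : t = 4 * b + 2 := by omega
    obtain ⟨k, hk⟩ := h4
    have e : (4 * b + 2) * (4 * b + 2 + 1) = 4 * (4 * b * b + 5 * b + 1) + 2 := by ring
    omega

theorem wreathed_top [IsSimpleGroup G] (hna : ¬ IsMulCommutative G) (hG : Short G) (S : Sylow 2 G)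
    (h32 : Nat.card (S : Subgroup G) = 32) (hS : Cfsg.IsWreathed (S : Subgroup G)) :
    ∃ z : G, orderOf z = 2 ∧ (∀ s : G, orderOf s = 2 → IsConj z s) ∧
      Nat.card (centralizer ({z} : Set G)) = 96 ∧
      Nonempty (CData ↥(centralizer ({z} : Set G)) ⟨z, mem_centralizer_singleton_iff.2 rfl⟩) := by
  classical
  haveI : Fact (Nat.Prime 2) := ⟨Nat.prime_two⟩
  have hidx2 := Cfsg.Lib.SemiCyclic.index_ne_two_of_perfect (perfect hna)
  obtain ⟨n, hn, hcn, ⟨e⟩⟩ := exists_equiv hS
  obtain rfl : n = 2 := by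
    have := Nat.pow_right_injective le_rfl ((hcn.symm.trans h32).trans (show (32 : ℕ) = 2 ^ 5 by norm_num))
    omega
  obtain ⟨h₁, h₂⟩ := six_six_of_no_index_two S e hn hidx2
  set z : G := emb S e (zed 2) with hz
  have hzo : orderOf z = 2 := (orderOf_emb S e _).trans (orderOf_zed hn)
  have hconj : ∀ s : G, orderOf s = 2 → IsConj z s := fun s hs => by
    refine IsConj.symm ?_
    rcases involution_classes S e hn hs with h | h | h
    · exact h
    · exact h.trans (six_U S e hn h₁).1.symm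
    · exact h.trans ((conj_ut_of_six S e hn h₂).symm.trans (six_U S e hn h₁).1.symm)
  refine ⟨z, hzo, hconj, ?_⟩
  set C := centralizer ({z} : Set G) with hC
  have hCtop : C < ⊤ := lt_top_iff_ne_top.2 (centralizer_invol_ne_top hna hzo)
  have hSC : (S : Subgroup G) ≤ C := fun v hv => by
    obtain ⟨p, rfl⟩ := exists_emb S e hv
    exact mem_centralizer_singleton_iff.2 ((commute_emb S e).2 (center_commute (zed_mem_center hn) p)).symm.eq
  set SC : Sylow 2 C := S.subtype hSC
  have hSCw : Cfsg.IsWreathed ((SC : Sylow 2 C) : Subgroup C) :=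
    Cfsg.Lib.SylowTwo.isWreathed_congr (Subgroup.subgroupOfEquivOfLe hSC).symm hS
  set K := Cfsg.oddCore C with hK
  haveI : K.Normal := by rw [hK]; exact (inferInstance : (Cfsg.pPrimeCore 2 C).Normal)
  have hKodd : Odd (Nat.card K) := Nat.coprime_two_right.1 (Cfsg.Lib.Components.coprime_card_pPrimeCore 2)
  set π := QuotientGroup.mk' K with hπ
  set T := SC.mapSurjective (QuotientGroup.mk'_surjective K)
  have hinj : Function.Injective (π.subgroupMap (SC : Subgroup C)) := by
    rw [injective_iff_map_eq_one]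
    intro v hv
    have h1 : (v : C) ∈ K := (QuotientGroup.eq_one_iff _).1 (congrArg Subtype.val hv)
    obtain ⟨k, hk⟩ := SC.2 v
    have h2 : orderOf (v : C) ∣ Nat.gcd (Nat.card K) (2 ^ k) := Nat.dvd_gcd (K.orderOf_dvd_natCard h1)
      (orderOf_dvd_of_pow_eq_one (by rw [← SubmonoidClass.coe_pow, hk]; rfl))
    rw [(Nat.coprime_two_right.2 hKodd).pow_right k, Nat.dvd_one, orderOf_eq_one_iff] at h2
    exact Subtype.ext h2
  set eT : (S : Subgroup G) ≃* (T : Subgroup (C ⧸ K)) := (Subgroup.subgroupOfEquivOfLe hSC).symm.trans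
    (MulEquiv.ofBijective _ ⟨hinj, π.subgroupMap_surjective _⟩)
  obtain ⟨F, iF, iF', hFodd, ⟨eN⟩⟩ := Cfsg.Agent.S1240.result S (Or.inr hS) hidx2
    (fun x y hx hy => (hconj x hx).symm.trans (hconj y hy)) z hzo
  set N := commutator (C ⧸ K)
  obtain ⟨p, hchar⟩ := CharP.exists F
  obtain ⟨f, hp, hpf⟩ := FiniteField.card F p
  haveI := Fact.mk hp
  have hp2 : p ≠ 2 := fun h => by
    rw [hpf, h] at hFodd
    exact absurd hFodd (Nat.not_odd_iff_even.2 (Nat.even_pow.2 ⟨even_two, f.pos.ne'⟩))
  set ν : SL(2, F) := -1 with hν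
  have hν1 : ν ≠ 1 := fun h => by
    have h' := congrArg (fun v : SL(2, F) => (v : Matrix (Fin 2) (Fin 2) F) 0 0) h
    have h2 : (2 : F) ≠ 0 := fun h2 => hp2 ((Nat.prime_dvd_prime_iff_eq hp Nat.prime_two).1
      ((CharP.cast_eq_zero_iff F p 2).1 (by exact_mod_cast h2)))
    simp [hν] at h'
    exact h2 (by linear_combination -h')
  -- the commutator subgroup is proper
  have hNne : N ≠ ⊤ := fun hN => by
    have huniq : ∀ v : Wr 2, orderOf v = 2 → eN ⟨(eT (e v) : C ⧸ K), hN ▸ mem_top _⟩ = ν := fun v hv => by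
      have ho : orderOf (eN ⟨(eT (e v) : C ⧸ K), hN ▸ mem_top _⟩) = 2 := by
        rw [MulEquiv.orderOf_eq, Subgroup.orderOf_mk, Subgroup.orderOf_coe, MulEquiv.orderOf_eq,
          MulEquiv.orderOf_eq, hv]
      refine Cfsg.Lib.Classical.SLTwoTori.eq_neg_one p hp2 (fun h => ?_) ?_
      · rw [h, orderOf_one] at ho
        omega
      · rw [← pow_two]
        exact orderOf_dvd_iff_pow_eq_one.1 (dvd_of_eq ho)
    have h := eN.injective ((huniq _ (orderOf_u0 hn)).trans (huniq _ (orderOf_zed hn)).symm)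
    exact u0_ne_zed hn (e.injective (eT.injective (Subtype.ext (congrArg (fun v : N => (v : C ⧸ K)) h))))
  -- the chains
  set L : Subgroup C := N.comap π with hL
  set ψ : L →* Matrix.ProjectiveSpecialLinearGroup (Fin 2) F :=
    (QuotientGroup.mk' (center SL(2, F))).comp (eN.toMonoidHom.comp (π.subgroupComap N)) with hψ
  have hsurj : Function.Surjective ψ := by
    refine (QuotientGroup.mk'_surjective _).comp (eN.surjective.comp fun v => ?_)
    obtain ⟨w, hw⟩ := QuotientGroup.mk'_surjective K (v : C ⧸ K)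
    exact ⟨⟨w, show π w ∈ N from hw ▸ v.2⟩, Subtype.ext hw⟩
  have hKL : K ≤ L := fun v hv => by
    show π v ∈ N
    rw [show π v = 1 from (QuotientGroup.eq_one_iff v).2 hv]
    exact one_mem N
  have hker : ∀ m, Steps K m → Steps ψ.ker (m + 1) := fun m hm => by
    obtain ⟨w, hw⟩ := QuotientGroup.mk'_surjective K (eN.symm ν : C ⧸ K)
    have hwL : w ∈ L := show π w ∈ N from hw ▸ (eN.symm ν).2
    have hwe : eN (π.subgroupComap N ⟨w, hwL⟩) = ν := by
      rw [show π.subgroupComap N ⟨w, hwL⟩ = eN.symm ν from Subtype.ext hw, MulEquiv.apply_symm_apply]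
    have hlt : K.subgroupOf L < ψ.ker := by
      refine lt_of_le_of_ne (fun v hv => ?_) fun h => ?_
      · rw [mem_subgroupOf] at hv
        have : π.subgroupComap N v = 1 := Subtype.ext ((QuotientGroup.eq_one_iff (v : C)).2 hv)
        rw [MonoidHom.mem_ker, hψ, MonoidHom.comp_apply, MonoidHom.comp_apply, this, map_one, map_one]
      · have hmem : (⟨w, hwL⟩ : L) ∈ ψ.ker := by
          refine MonoidHom.mem_ker.2 ?_
          show QuotientGroup.mk' (center SL(2, F)) (eN (π.subgroupComap N ⟨w, hwL⟩)) = 1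
          rw [hwe]
          exact Cfsg.Lib.Classical.PSLFour.π_one_iff.2 (Or.inr rfl)
        rw [← h, mem_subgroupOf] at hmem
        refine hν1 ?_
        rw [← hwe, show π.subgroupComap N ⟨w, hwL⟩ = 1 from Subtype.ext ((QuotientGroup.eq_one_iff w).2 hmem),
          map_one]
    refine .step hlt ?_
    have h1 : Steps (⊤ : Subgroup (K.subgroupOf L)) m := by
      have hmK : Steps (⊤ : Subgroup K) m := steps_top_of_sub hm
      have := hmK.map (f := (Subgroup.subgroupOfEquivOfLe hKL).symm.toMonoidHom)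
        (Subgroup.subgroupOfEquivOfLe hKL).symm.injective
      rwa [← MonoidHom.range_eq_map,
        MonoidHom.range_eq_top.2 (Subgroup.subgroupOfEquivOfLe hKL).symm.surjective] at this
    exact h1.of_sub
  set g : C →* Abelianization (C ⧸ K) := Abelianization.of.comp π with hg
  have hgs : Function.Surjective g :=
    (QuotientGroup.mk'_surjective _).comp (QuotientGroup.mk'_surjective K)
  have hgk : g.ker = L := by
    rw [hg, ← MonoidHom.comap_ker, Abelianization.ker_of, hL]
  haveI : Group.IsSolvable (Abelianization (C ⧸ K)) := inferInstance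
  set A := Nat.card (Abelianization (C ⧸ K)) with hA
  have hbound : ∀ m k, Steps (⊤ : Subgroup (Matrix.ProjectiveSpecialLinearGroup (Fin 2) F)) m → Steps K k →
      Ω A + (m + (k + 1)) ≤ 6 := fun m k hm hk => by
    have h1 := hm.comap hsurj (hker k hk)
    rw [comap_top] at h1
    have h2 := h1.of_sub
    rw [← hgk] at h2
    have h3 := (steps_top_of_solvable (Abelianization (C ⧸ K))).comap hgs h2
    rw [comap_top, ← hA] at h3
    exact hG.bound_below h3.of_sub hCtop
  have hA1 : 1 ≤ Ω A := by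
    rw [Nat.one_le_iff_ne_zero, Ne, ArithmeticFunction.cardFactors_eq_zero_iff_eq_zero_or_one]
    rintro (h | h)
    · exact Nat.card_pos.ne' h
    · exact hNne (index_eq_one.1 (by rw [← h, hA]; rfl))
  rcases psl_short rfl hFodd (fun m hm => by have := hbound m 0 hm (.zero _); omega) with hq | hq
  all_goals
    have hcSL : Nat.card N = Fintype.card F * (Fintype.card F ^ 2 - 1) :=
      (Nat.card_congr eN.toEquiv).trans Cfsg.Lib.Classical.SLTwoTori.card_SL2
    have h4 : 4 ∣ A := by
      have hA' : A = N.index := rfl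
      have h32' : 32 ∣ Nat.card (C ⧸ K) := by
        rw [← h32, Nat.card_congr eT.toEquiv]
        exact card_subgroup_dvd_card _
      have hno : ¬ 16 ∣ Nat.card N := by
        rw [hcSL]
        refine not_sixteen ?_
        first
          | exact Or.inl hq.1
          | exact Or.inr (hq.2.imp id fun h => h.2.2.2)
      rw [← N.card_mul_index, ← hA', show (32 : ℕ) = 2 ^ 5 by norm_num] at h32'
      obtain ⟨i, j, hi, hj, hij⟩ := exists_dvd_and_dvd_of_dvd_mul h32'
      obtain ⟨a, ha, rfl⟩ := (Nat.dvd_prime_pow Nat.prime_two).1 (Dvd.intro j hij.symm)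
      obtain ⟨b, hb, rfl⟩ := (Nat.dvd_prime_pow Nat.prime_two).1 (Dvd.intro_left (2 ^ a) hij.symm)
      have hab : a + b = 5 := Nat.pow_right_injective le_rfl (by show 2 ^ (a + b) = 2 ^ 5; rw [pow_add, hij])
      have : a ≤ 3 := by
        by_contra hlt
        exact hno ((show 16 ∣ 2 ^ a from Nat.pow_dvd_pow 2 (show 4 ≤ a by omega)).trans hi)
      exact (show 4 ∣ 2 ^ b from Nat.pow_dvd_pow 2 (show 2 ≤ b by omega)).trans hj
    have hA2 : 2 ≤ Ω A := two_le_omega Nat.card_pos.ne' h4
  rotate_left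
  · exfalso
    have := hbound 4 0 hq.1 (.zero _)
    omega
  obtain ⟨hq3, hq⟩ := hq
  have hK1 : K = ⊥ := by
    by_contra hne
    have := hbound 3 1 hq (.step (bot_lt_iff_ne_bot.2 hne) (.zero _))
    omega
  have hΩ : Ω A = 2 := by
    have := hbound 3 0 hq (.zero _)
    omega
  have hA4 : A = 4 := by
    obtain ⟨b, hb⟩ := h4
    rw [hb, ArithmeticFunction.cardFactors_mul (by norm_num) (fun h => Nat.card_pos.ne' (hb.trans (by rw [h]))),
      show (4 : ℕ) = 2 ^ 2 by norm_num, ArithmeticFunction.cardFactors_apply_prime_pow Nat.prime_two] at hΩ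
    rcases ArithmeticFunction.cardFactors_eq_zero_iff_eq_zero_or_one.1 (show Ω b = 0 by omega) with h | h
    · exact absurd (hb.trans (by rw [h])) Nat.card_pos.ne'
    · rw [hb, h]
  let eC : C ≃* C ⧸ K := ((QuotientGroup.quotientMulEquivOfEq hK1).trans QuotientGroup.quotientBot).symm
  have hC96 : Nat.card C = 96 := by
    rw [Nat.card_congr eC.toEquiv, ← N.card_mul_index, hcSL, hq3, show N.index = 4 from hA4]
    norm_num
  refine ⟨hC96, ?_⟩
  obtain ⟨σ⟩ := Cfsg.Lib.EqualOrder.slCongr (FiniteField.ringEquivOfCardEq (K := F) (K' := ZMod 3)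
    (by rw [hq3, ZMod.card]))
  refine exists_cdata hC96 (fun T' => Cfsg.Lib.SylowTwo.isWreathed_congr (Sylow.equiv SC T') hSCw)
    ((Subgroup.orderOf_mk _ _).trans hzo) ?_
    (eC.symm.toMonoidHom.comp (N.subtype.comp (σ.symm.trans eN.symm).toMonoidHom))
    (eC.symm.injective.comp (N.subtype_injective.comp (σ.symm.trans eN.symm).injective)) ?_
  · exact mem_center_iff.2 fun v => Subtype.ext (mem_centralizer_singleton_iff.1 v.2)
  · rw [MonoidHom.range_comp, MonoidHom.range_comp,
      MonoidHom.range_eq_top.2 (σ.symm.trans eN.symm).surjective, ← MonoidHom.range_eq_map, range_subtype]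
    exact (inferInstance : N.Normal).map _ eC.symm.surjective

end Cfsg.Lib.LenSeven
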